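import Mathlib
import Cfsg.Agent.Lib.Classical.PSLAutStructure
import Cfsg.Agent.Lib.Classical.SLGroup
import Cfsg.Agent.Lib.Spor.M21Psl
import Cfsg.Agent.S0813

/-!
The automorphism groups of `PSL(3, 4)` and `PGL(3, 4)` agree.
-/

set_option autoImplicit false
set_option linter.unusedSectionVars false
set_option linter.style.haveILetI false

namespace Cfsg.Agent.Fus.AutL34

open Subgroup
open scoped commutatorElement

/-- For a perfect centreless group, a normal subgroup of the automorphism group containing the inner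
automorphisms with abelian quotient over them has the same automorphism group. -/
theorem mulAut_equiv_of_inner {P : Type*} [Group P] (hz : ∀ x : P, (∀ y, x * y = y * x) → x = 1)
    (hperf : ⁅(⊤ : Subgroup P), (⊤ : Subgroup P)⁆ = ⊤) (R : Subgroup (MulAut P)) [hR : R.Normal]
    (hI : (MulAut.conj : P →* MulAut P).range ≤ R) (hD : ⁅R, R⁆ ≤ (MulAut.conj : P →* MulAut P).range) :
    Nonempty (MulAut P ≃* MulAut R) := by
  have hconj : ∀ (β : MulAut P) (x : P), β * MulAut.conj x * β⁻¹ = MulAut.conj (β x) := by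
    intro β x
    refine MulEquiv.ext fun y => ?_
    simp [MulAut.mul_apply, MulAut.conj_apply]
  have hinj : Function.Injective (MulAut.conj : P →* MulAut P) := by
    refine (injective_iff_map_eq_one _).2 fun x hx => hz x fun y => ?_
    have h1 := DFunLike.congr_fun hx y
    rw [MulAut.conj_apply, MulAut.one_apply] at h1
    exact mul_inv_eq_iff_eq_mul.1 h1
  have hDI : ⁅R, R⁆ = (MulAut.conj : P →* MulAut P).range := by
    refine le_antisymm hD ?_
    rw [MonoidHom.range_eq_map, ← hperf, map_commutator, ← MonoidHom.range_eq_map]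
    exact commutator_mono hI hI
  let Θ : MulAut P →* MulAut R := MulAut.conjNormal
  have hΘ : ∀ (β : MulAut P) (r : R), ((Θ β r : R) : MulAut P) = β * r * β⁻¹ := fun β r =>
    MulAut.conjNormal_apply β r
  have hΘinj : Function.Injective Θ := by
    refine (injective_iff_map_eq_one Θ).2 fun β hβ => MulEquiv.ext fun x => hinj ?_
    have h1 := hΘ β ⟨MulAut.conj x, hI ⟨x, rfl⟩⟩
    rw [hβ] at h1
    change MulAut.conj x = β * MulAut.conj x * β⁻¹ at h1
    rw [hconj] at h1
    exact h1.symm
  have hsurj : Function.Surjective Θ := by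
    intro α
    -- the inner automorphisms are characteristic
    set e : P ≃* (MulAut.conj : P →* MulAut P).range := MonoidHom.ofInjective hinj with he
    set I' : Subgroup R := ((MulAut.conj : P →* MulAut P).range).subgroupOf R with hI'
    have hI'eq : I' = ⁅(⊤ : Subgroup R), ⊤⁆ := by
      refine map_injective (subtype_injective R) ?_
      rw [map_commutator, ← MonoidHom.range_eq_map, range_subtype, hI', subgroupOf_map_subtype, inf_eq_left.2 hI, hDI]
    have hαI : I'.map (α : R →* R) = I' := by
      rw [hI'eq, map_commutator, ← MonoidHom.range_eq_map, MonoidHom.range_eq_top.2 α.surjective]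
    let δ : P ≃* I' := e.trans (subgroupOfEquivOfLe hI).symm
    have hδ : ∀ x, ((δ x : R) : MulAut P) = MulAut.conj x := fun x => rfl
    let β : MulAut P :=
      (δ.trans ((α.subgroupMap I').trans (MulEquiv.subgroupCongr hαI))).trans δ.symm
    have hβ : ∀ x : P, ((α (δ x : R) : R) : MulAut P) = MulAut.conj (β x) := fun x => by
      rw [← hδ]
      show _ = (((δ (δ.symm _) : I') : R) : MulAut P)
      rw [MulEquiv.apply_symm_apply]
      rfl
    refine ⟨β, MulEquiv.ext fun r => Subtype.ext (MulEquiv.ext fun x => ?_)⟩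
    rw [hΘ]
    obtain ⟨x, rfl⟩ := β.surjective x
    have h1 : (r : R) * (δ x : R) * r⁻¹ = (δ ((r : MulAut P) x) : R) := by
      refine Subtype.ext ?_
      rw [coe_mul, coe_mul, coe_inv, hδ, hδ, hconj]
    have h2 := congrArg (fun w : R => ((α w : R) : MulAut P)) h1
    simp only [map_mul, map_inv, coe_mul, coe_inv, hβ] at h2
    rw [hconj] at h2
    rw [hinj h2]
    simp [MulAut.mul_apply]
  exact ⟨MulEquiv.ofBijective Θ ⟨hΘinj, hsurj⟩⟩

universe v

variable {F : Type v} [Field F] [Fintype F]

theorem inndiag_SL (n : ℕ) (s : Matrix.SpecialLinearGroup (Fin n) F) :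
    Classical.PSLAut.inndiagHom n F (Matrix.SpecialLinearGroup.toGL s) =
      MulAut.conj (Cfsg.Agent.Classical.slToPSL n F s) := by
  refine MulEquiv.ext fun x => ?_
  obtain ⟨t, rfl⟩ := Cfsg.Agent.Classical.slToPSL_surjective x
  rw [Classical.PSLAut.inndiagHom_apply, Classical.PSLAut.pslSemi_mk, MulAut.conj_apply, ← map_inv, ← map_mul,
    ← map_mul]
  refine congrArg _ (Subtype.ext ?_)
  rw [Classical.PSLAut.slSemi_coe, ← map_inv,
    show (t : Matrix (Fin n) (Fin n) F).map (RingEquiv.refl F) = t from Matrix.map_id _]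
  rfl

theorem card_four_facts (hF : Fintype.card F = 4) :
    Nat.card (Matrix.ProjectiveSpecialLinearGroup (Fin 3) F) = 20160 ∧
      Nat.card (MulAut (Matrix.ProjectiveSpecialLinearGroup (Fin 3) F)) = 241920 := by
  classical
  have hu : Nat.card Fˣ = 3 := by
    rw [Nat.card_units, Nat.card_eq_fintype_card, hF]
  have hpsl := Spor.M21.natCard_psl hF
  refine ⟨hpsl, ?_⟩
  haveI : Fact (Nat.Prime 2) := ⟨Nat.prime_two⟩
  rw [Cfsg.Agent.S0813.result 2 2 (by norm_num) (by rw [hF]; norm_num) 3 (by norm_num) (fun h => absurd h (by norm_num)),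
    Classical.natCard_PGL_eq_SL, ← Classical.natCard_PSL_mul 3 (by norm_num), hu, hpsl]
  norm_num

/-- The automorphism groups of `PSL(3, 4)` and `PGL(3, 4)` are isomorphic. -/
theorem mulAut_psl_pgl (hF : Fintype.card F = 4) :
    Nonempty (MulAut (Matrix.ProjectiveSpecialLinearGroup (Fin 3) F) ≃*
      MulAut (GL (Fin 3) F ⧸ center (GL (Fin 3) F))) := by
  classical
  haveI hs : IsSimpleGroup (Matrix.ProjectiveSpecialLinearGroup (Fin 3) F) :=
    Classical.PSL_simple_of_three_le (F := F) (ι := Fin 3) (by simp)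
  have hnc : ∃ x y : Matrix.ProjectiveSpecialLinearGroup (Fin 3) F, x * y ≠ y * x := by
    by_contra hc
    push Not at hc
    have hp := hs
    have h20 := (card_four_facts hF).1
    letI : CommGroup (Matrix.ProjectiveSpecialLinearGroup (Fin 3) F) :=
      { (inferInstance : Group (Matrix.ProjectiveSpecialLinearGroup (Fin 3) F)) with mul_comm := hc }
    have := (IsSimpleGroup.prime_card (α := Matrix.ProjectiveSpecialLinearGroup (Fin 3) F))
    rw [h20] at this
    norm_num at this
  have hz : ∀ x : Matrix.ProjectiveSpecialLinearGroup (Fin 3) F, (∀ y, x * y = y * x) → x = 1 := by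
    intro x hx
    rcases hs.eq_bot_or_eq_top_of_normal (center _) inferInstance with e | e
    · exact mem_bot.1 (e ▸ mem_center_iff.2 fun y => (hx y).symm)
    · obtain ⟨a, b, hab⟩ := hnc
      exact absurd (mem_center_iff.1 (e ▸ mem_top b) a) hab
  have hperf : ⁅(⊤ : Subgroup (Matrix.ProjectiveSpecialLinearGroup (Fin 3) F)),
      (⊤ : Subgroup (Matrix.ProjectiveSpecialLinearGroup (Fin 3) F))⁆ = ⊤ := by
    rcases hs.eq_bot_or_eq_top_of_normal _ (commutator_normal ⊤ ⊤) with e | e
    · obtain ⟨a, b, hab⟩ := hnc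
      have := commutator_mem_commutator (mem_top a) (mem_top b)
      rw [e, mem_bot, commutatorElement_eq_one_iff_commute] at this
      exact absurd this.eq hab
    · exact e
  set f := Classical.PSLAut.inndiagHom 3 F with hf
  have hI : (MulAut.conj : Matrix.ProjectiveSpecialLinearGroup (Fin 3) F →* _).range ≤ f.range := by
    rintro _ ⟨x, rfl⟩
    obtain ⟨s, rfl⟩ := Cfsg.Agent.Classical.slToPSL_surjective x
    exact ⟨_, inndiag_SL 3 s⟩
  have hD : ⁅f.range, f.range⁆ ≤ (MulAut.conj : Matrix.ProjectiveSpecialLinearGroup (Fin 3) F →* _).range := by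
    rw [commutator_le]
    rintro _ ⟨g, rfl⟩ _ ⟨h, rfl⟩
    rw [← map_commutatorElement]
    have hd : ((⁅g, h⁆ : GL (Fin 3) F) : Matrix (Fin 3) (Fin 3) F).det = 1 := by
      have h1 : Matrix.GeneralLinearGroup.det ⁅g, h⁆ = 1 := by
        rw [map_commutatorElement, commutatorElement_eq_one_iff_commute]; exact Commute.all _ _
      exact congrArg Units.val h1
    refine ⟨Cfsg.Agent.Classical.slToPSL 3 F ⟨_, hd⟩, ?_⟩
    exact (inndiag_SL 3 ⟨_, hd⟩).symm.trans (congrArg f (Units.ext rfl))
  haveI hn : f.range.Normal := by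
    haveI : Fact (Nat.Prime 2) := ⟨Nat.prime_two⟩
    haveI : CharP F 2 := charP_of_card_eq_prime_pow (f := 2) (by rw [hF]; norm_num)
    obtain ⟨Ψ, hker, -, -⟩ := Classical.PSLAut.exists_fieldGraphHom (F := F) (p := 2) (n := 3) (by norm_num)
    have : Ψ.ker.Normal := inferInstance
    rwa [hker] at this
  obtain ⟨e⟩ := mulAut_equiv_of_inner hz hperf f.range hI hD
  exact ⟨e.trans (MulAut.congr ((QuotientGroup.quotientMulEquivOfEq
    (Classical.PSLAut.ker_inndiagHom (F := F) (n := 3) (by norm_num)).symm).trans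
      (QuotientGroup.quotientKerEquivRange f))).symm⟩

end Cfsg.Agent.Fus.AutL34
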