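import Mathlib
import Cfsg.Agent.Lib.Transfer.MinusFour

/-!
The quadratic form of minus type on four binary coordinates with the natural action of the
symmetric group of degree four.
-/

set_option autoImplicit false

namespace Cfsg.Agent.Fus.AutL34

open Cfsg.Agent.Transfer.MinusFour

/-- Binary vectors of length four. -/
abbrev Vec : Type := Fin 4 → ZMod 2

/-- The form. -/
abbrev qf (v : Vec) : ZMod 2 := fM v

/-- Its polar form. -/
def bil (v w : Vec) : ZMod 2 := fM (v + w) + fM v + fM w

/-- The point fixed by the symmetric group of degree four. -/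
def aV : Vec := fun _ => 1

/-- The unit vectors. -/
def eV (i : Fin 4) : Vec := Pi.single i 1

/-- The vector with two ones. -/
def pairV (i j : Fin 4) : Vec := eV i + eV j

/-- Permutation of coordinates. -/
def act (σ : Equiv.Perm (Fin 4)) (v : Vec) : Vec := fun i => v (σ.symm i)

theorem act_one (v : Vec) : act 1 v = v := rfl

theorem act_mul (σ τ : Equiv.Perm (Fin 4)) (v : Vec) : act (σ * τ) v = act σ (act τ v) := rfl

theorem act_injective : ∀ σ : Equiv.Perm (Fin 4), (∀ v, act σ v = v) → σ = 1 := by decide +kernel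

theorem qf_act : ∀ (σ : Equiv.Perm (Fin 4)) (v : Vec), qf (act σ v) = qf v := by decide +kernel

theorem act_aV (σ : Equiv.Perm (Fin 4)) : act σ aV = aV := rfl

theorem act_eV : ∀ (σ : Equiv.Perm (Fin 4)) (i : Fin 4), act σ (eV i) = eV (σ i) := by decide +kernel

theorem bil_add_left : ∀ u v w : Vec, bil (u + v) w = bil u w + bil v w := by decide +kernel

theorem bil_comm (u v : Vec) : bil u v = bil v u := by
  unfold bil; rw [add_comm u v]; ring

theorem bil_self : ∀ v : Vec, bil v v = 0 := by decide +kernel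

theorem bil_zero : ∀ v : Vec, bil 0 v = 0 ∧ bil v 0 = 0 := by decide +kernel

theorem bil_nondeg : ∀ v : Vec, (∀ w, bil v w = 0) → v = 0 := by decide +kernel

theorem qf_facts : qf aV = 0 ∧ qf 0 = 0 ∧ (∀ i, qf (eV i) = 0) ∧
    ∀ v : Vec, v ≠ 0 → qf v = 0 → v = aV ∨ ∃ i, v = eV i := by decide +kernel

theorem aV_ne : aV ≠ 0 ∧ ∀ i, eV i ≠ aV ∧ eV i ≠ 0 ∧ bil aV (eV i) = 1 := by decide +kernel

end Cfsg.Agent.Fus.AutL34
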