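import Mathlib
import Cfsg.Agent.Lib.Fus.AutLThreeFour.Model
import Cfsg.Agent.Lib.Spor.ExtraspecialOut

/-!
Coordinates on the centraliser of the involution and its extraspecial normal subgroup of order 32.
-/

set_option autoImplicit false
set_option linter.unusedSectionVars false

namespace Cfsg.Agent.Fus.AutL34

open Subgroup Cfsg.Agent.Spor.ExtraOut

variable {G : Type*} [Group G] [Finite G]

/-- The coordinates. -/
structure Data (z : G) where
  E : Subgroup G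
  π : G → Vec
  φ : G → Equiv.Perm (Fin 4)
  zz : z * z = 1
  z1 : z ≠ 1
  zE : z ∈ E
  cz : ∀ x ∈ E, x * z = z * x
  π_mul : ∀ x ∈ E, ∀ y ∈ E, π (x * y) = π x + π y
  π_surj : ∀ v, ∃ x ∈ E, π x = v
  π_ker : ∀ x ∈ E, π x = 0 → x = 1 ∨ x = z
  π_z : π z = 0
  sq : ∀ x ∈ E, x * x = pw z (qf (π x))
  swap : ∀ x ∈ E, ∀ y ∈ E, x * y * x⁻¹ = y * pw z (bil (π x) (π y))
  φ_mul : ∀ h k, h * z = z * h → k * z = z * k → φ (h * k) = φ h * φ k
  φ_surj : ∀ σ, ∃ h, h * z = z * h ∧ φ h = σ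
  φ_ker : ∀ h, h * z = z * h → (φ h = 1 ↔ h ∈ E)
  conj : ∀ h, h * z = z * h → ∀ x ∈ E, h * x * h⁻¹ ∈ E ∧ π (h * x * h⁻¹) = act (φ h) (π x)
  cent : ∀ g, (∀ x ∈ E, g * x = x * g) → g ∈ E
  card_E : Nat.card E = 32

namespace Data

variable {z : G} (D : Data z)

omit [Finite G] in
theorem mem_C_iff {h : G} : h ∈ centralizer ({z} : Set G) ↔ h * z = z * h :=
  mem_centralizer_singleton_iff

theorem E_le : D.E ≤ centralizer ({z} : Set G) := fun x hx => mem_C_iff.2 (D.cz x hx)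

theorem π_one : D.π 1 = 0 := by
  have h := D.π_mul 1 (one_mem _) 1 (one_mem _)
  rw [one_mul] at h
  exact left_eq_add.1 h

theorem π_inv {x : G} (hx : x ∈ D.E) : D.π x⁻¹ = D.π x := by
  have h := D.π_mul x hx x⁻¹ (inv_mem hx)
  rw [mul_inv_cancel, D.π_one] at h
  have h2 : ∀ u v : Vec, 0 = u + v → v = u := by decide +kernel
  exact h2 _ _ h

theorem eq_or_mul_z {x y : G} (hx : x ∈ D.E) (hy : y ∈ D.E) (h : D.π x = D.π y) :
    x = y ∨ x = y * z := by
  have h0 : D.π (y⁻¹ * x) = 0 := by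
    rw [D.π_mul _ (inv_mem hy) _ hx, D.π_inv hy, h]
    funext i; exact CharTwo.add_self_eq_zero _
  rcases D.π_ker _ (mul_mem (inv_mem hy) hx) h0 with e | e
  · exact Or.inl (inv_mul_eq_one.1 e).symm
  · exact Or.inr (inv_mul_eq_iff_eq_mul.1 e)

theorem pw_mem (t : ZMod 2) : pw z t ∈ D.E := by
  rcases two_cases t with rfl | rfl
  · rw [pw_zero]; exact one_mem _
  · rw [pw_one]; exact D.zE

theorem π_pw (t : ZMod 2) : D.π (pw z t) = 0 := by
  rcases two_cases t with rfl | rfl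
  · rw [pw_zero]; exact D.π_one
  · rw [pw_one]; exact D.π_z

theorem comm_of_bil {x y : G} (hx : x ∈ D.E) (hy : y ∈ D.E) (h : bil (D.π x) (D.π y) = 0) :
    x * y = y * x := by
  have e := D.swap x hx y hy
  rw [h, pw_zero, mul_one] at e
  exact mul_inv_eq_iff_eq_mul.1 e

theorem conj_eq_of_bil {x y : G} (hx : x ∈ D.E) (hy : y ∈ D.E) (h : bil (D.π x) (D.π y) = 1) :
    x * y * x⁻¹ = y * z := by rw [D.swap x hx y hy, h, pw_one]

theorem bil_of_comm {x y : G} (hx : x ∈ D.E) (hy : y ∈ D.E) (h : x * y = y * x) :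
    bil (D.π x) (D.π y) = 0 := by
  rcases two_cases (bil (D.π x) (D.π y)) with e | e
  · exact e
  · have h1 := D.conj_eq_of_bil hx hy e
    rw [h, mul_inv_cancel_right] at h1
    exact absurd (left_eq_mul.1 h1) D.z1

theorem φ_one : D.φ 1 = 1 := (D.φ_ker 1 (by rw [one_mul, mul_one])).2 (one_mem _)

theorem φ_of_mem {x : G} (hx : x ∈ D.E) : D.φ x = 1 := (D.φ_ker x (D.cz x hx)).2 hx

/-- The homomorphism to the symmetric group of degree four. -/
noncomputable def φHom : ↥(centralizer ({z} : Set G)) →* Equiv.Perm (Fin 4) :=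
  MonoidHom.mk' (fun h => D.φ h) fun h k => D.φ_mul h k (mem_C_iff.1 h.2) (mem_C_iff.1 k.2)

theorem φHom_surjective : Function.Surjective D.φHom := fun σ => by
  obtain ⟨h, hh, e⟩ := D.φ_surj σ
  exact ⟨⟨h, mem_C_iff.2 hh⟩, e⟩

theorem φHom_ker : D.φHom.ker = D.E.subgroupOf (centralizer ({z} : Set G)) := by
  ext h
  rw [MonoidHom.mem_ker, mem_subgroupOf]
  exact D.φ_ker h (mem_C_iff.1 h.2)

theorem φ_inv {h : G} (hh : h * z = z * h) : D.φ h⁻¹ = (D.φ h)⁻¹ :=
  map_inv D.φHom ⟨h, mem_C_iff.2 hh⟩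

theorem φ_pow {h : G} (hh : h * z = z * h) (n : ℕ) : D.φ (h ^ n) = D.φ h ^ n :=
  map_pow D.φHom ⟨h, mem_C_iff.2 hh⟩ n

theorem φ_conj {h k : G} (hh : h * z = z * h) (hk : k * z = z * k) :
    D.φ (h * k * h⁻¹) = D.φ h * D.φ k * (D.φ h)⁻¹ := by
  rw [D.φ_mul _ _ (mem_C_iff.1 (mul_mem (mem_C_iff.2 hh) (mem_C_iff.2 hk)))
    (mem_C_iff.1 (inv_mem (mem_C_iff.2 hh))), D.φ_mul _ _ hh hk, D.φ_inv hh]

include D in
theorem card_C : Nat.card (centralizer ({z} : Set G)) = 768 := by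
  have h := Subgroup.card_mul_index (D.φHom).ker
  rw [index_ker, MonoidHom.range_eq_top.2 D.φHom_surjective, card_top, Nat.card_perm, Nat.card_fin,
    D.φHom_ker, Nat.card_congr (subgroupOfEquivOfLe D.E_le).toEquiv, D.card_E] at h
  exact h.symm

theorem E_conj {h x : G} (hh : h * z = z * h) (hx : x ∈ D.E) : h * x * h⁻¹ ∈ D.E := (D.conj h hh x hx).1

/-- An element of `E` over a vector. -/
noncomputable def lift (v : Vec) : G := (D.π_surj v).choose

theorem lift_mem (v : Vec) : D.lift v ∈ D.E := (D.π_surj v).choose_spec.1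

theorem π_lift (v : Vec) : D.π (D.lift v) = v := (D.π_surj v).choose_spec.2

/-- The non-central involution whose pair is fixed by `C(z)`. -/
noncomputable def a : G := D.lift aV

theorem a_mem : D.a ∈ D.E := D.lift_mem aV

theorem π_a : D.π D.a = aV := D.π_lift aV

theorem aa : D.a * D.a = 1 := by rw [D.sq _ D.a_mem, D.π_a, qf_facts.1, pw_zero]

theorem a_ne_one : D.a ≠ 1 := fun h => aV_ne.1 (by rw [← D.π_a, h, D.π_one])

theorem a_ne_z : D.a ≠ z := fun h => aV_ne.1 (by rw [← D.π_a, h, D.π_z])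

theorem az_ne_one : D.a * z ≠ 1 := fun h => aV_ne.1 (by
  rw [← D.π_a, ← add_zero (D.π D.a), ← D.π_z, ← D.π_mul _ D.a_mem _ D.zE, h, D.π_one, D.π_z])

theorem conj_a {h : G} (hh : h * z = z * h) : h * D.a * h⁻¹ = D.a ∨ h * D.a * h⁻¹ = D.a * z :=
  D.eq_or_mul_z (D.E_conj hh D.a_mem) D.a_mem (by rw [(D.conj h hh _ D.a_mem).2, D.π_a, act_aV])

/-- `z` is not central in a larger two-group: Sylow subgroups of `C(z)` centralise only `1` and `z`. -/
theorem eq_of_cent_E {g : G} (hg : ∀ x ∈ D.E, g * x = x * g) : g = 1 ∨ g = z := by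
  have hm := D.cent g hg
  refine D.π_ker g hm (bil_nondeg _ fun w => ?_)
  rw [← D.π_lift w]
  exact D.bil_of_comm hm (D.lift_mem w) (hg _ (D.lift_mem w))

end Data

end Cfsg.Agent.Fus.AutL34
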