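import Mathlib
import Cfsg.Agent.Lib.Fus.AutLThreeFour.Data

/-!
A criterion for a Sylow 2-subgroup of the centraliser of an involution to centralise `z`.
-/

set_option autoImplicit false
set_option linter.unusedSectionVars false

namespace Cfsg.Agent.Fus.AutL34

open Subgroup

variable {G : Type*} [Group G] [Finite G]

/-- Conjugate to `z`. -/
def IsX (z x : G) : Prop := ∃ g : G, g * z * g⁻¹ = x

theorem IsX.self (z : G) : IsX z z := ⟨1, by group⟩

theorem IsX.conj {z x : G} (h : IsX z x) (g : G) : IsX z (g * x * g⁻¹) := by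
  obtain ⟨k, rfl⟩ := h
  exact ⟨g * k, by group⟩

theorem IsX.mul_self {z x : G} (hzz : z * z = 1) (h : IsX z x) : x * x = 1 := by
  obtain ⟨g, rfl⟩ := h
  rw [show g * z * g⁻¹ * (g * z * g⁻¹) = g * (z * z) * g⁻¹ by group, hzz, mul_one, mul_inv_cancel]

theorem IsX.ne_one {z x : G} (hz1 : z ≠ 1) (h : IsX z x) : x ≠ 1 := by
  obtain ⟨g, rfl⟩ := h
  exact fun e => hz1 (conj_eq_one_iff.1 e)

theorem IsX.orderOf {z x : G} (hzz : z * z = 1) (hz1 : z ≠ 1) (h : IsX z x) : orderOf x = 2 :=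
  orderOf_eq_prime (by rw [pow_two]; exact h.mul_self hzz) (h.ne_one hz1)

theorem comm_conj {x y g : G} (h : x * y = y * x) :
    g * x * g⁻¹ * (g * y * g⁻¹) = g * y * g⁻¹ * (g * x * g⁻¹) :=
  calc g * x * g⁻¹ * (g * y * g⁻¹) = g * (x * y) * g⁻¹ := by group
    _ = g * y * g⁻¹ * (g * x * g⁻¹) := by rw [h]; group

/-- If squares conjugate to `z` in the two-elements of `C(z,x)` are equal to `z`, a Sylow 2-subgroup of
`C(x)` lies in `C(z)`. -/
theorem sylow_cent {z : G} {x : G} {k : G} (hkx : k * x = x * k) (hkz : k * z = z * k)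
    (hkk : k * k = z) (hk2 : ∃ n : ℕ, k ^ 2 ^ n = 1)
    (hsq : ∀ h : G, h * x = x * h → h * z = z * h → (∃ n : ℕ, h ^ 2 ^ n = 1) →
      IsX z (h * h) → h * h = z) :
    ∃ W : Subgroup G, W ≤ centralizer ({z} : Set G) ⊓ centralizer ({x} : Set G) ∧ IsPGroup 2 W ∧
      k ∈ W ∧ ∀ Q : Subgroup G, IsPGroup 2 Q → Q ≤ centralizer ({x} : Set G) →
        ∃ c ∈ centralizer ({x} : Set G), ∀ q ∈ Q, c * q * c⁻¹ ∈ W := by
  classical
  haveI : Fact (Nat.Prime 2) := ⟨Nat.prime_two⟩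
  set Cx := centralizer ({x} : Set G) with hCx
  set K : Subgroup G := centralizer ({z} : Set G) ⊓ Cx with hK
  have hkK : k ∈ K := ⟨mem_centralizer_singleton_iff.2 hkz, mem_centralizer_singleton_iff.2 hkx⟩
  have hpk : IsPGroup 2 (zpowers (⟨k, hkK⟩ : K)) := by
    obtain ⟨n, hn⟩ := hk2
    rintro ⟨y, hy⟩
    obtain ⟨i, rfl⟩ := mem_zpowers_iff.1 hy
    refine ⟨n, Subtype.ext (Subtype.ext ?_)⟩
    push_cast
    show (k ^ i) ^ 2 ^ n = 1
    rw [← zpow_natCast, zpow_comm, zpow_natCast, hn, one_zpow]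
  obtain ⟨S, hS⟩ := hpk.exists_le_sylow
  set W : Subgroup G := (S : Subgroup K).map K.subtype with hW
  have hWK : W ≤ K := map_subtype_le _
  have hWp : IsPGroup 2 W := S.isPGroup'.map _
  have hkW : k ∈ W := ⟨⟨k, hkK⟩, hS (mem_zpowers _), rfl⟩
  -- `W` is a Sylow subgroup of `C(x)`
  set W' := W.subgroupOf Cx with hW'
  have hWx : W ≤ Cx := hWK.trans inf_le_right
  obtain ⟨Q, hQ⟩ := (hWp.comap_subtype : IsPGroup 2 W').exists_le_sylow
  have heq : (Q : Subgroup Cx) = W' := by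
    by_contra hne
    have hlt : W' < (Q : Subgroup Cx) := lt_of_le_of_ne hQ (Ne.symm hne)
    have hnc : Group.IsNilpotent ↥(Q : Subgroup Cx) := Q.isPGroup'.isNilpotent
    have hlt' : W'.subgroupOf (Q : Subgroup Cx) < ⊤ := by
      rw [lt_top_iff_ne_top]
      intro e
      exact hne (le_antisymm (subgroupOf_eq_top.1 e) hQ)
    have hgrow := normalizerCondition_of_isNilpotent (G := ↥(Q : Subgroup Cx)) _ hlt'
    obtain ⟨⟨n, hnQ⟩, hn1, hn2⟩ := SetLike.exists_of_lt hgrow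
    have hnorm : ∀ w, w ∈ W → (n : G) * w * (n : G)⁻¹ ∈ W := fun w hw => by
      have hw' : (⟨w, hWx hw⟩ : Cx) ∈ (Q : Subgroup Cx) := hQ hw
      have := (mem_normalizer_iff.1 hn1 ⟨⟨w, hWx hw⟩, hw'⟩).1 hw
      exact this
    have hnz : (n : G) * z = z * (n : G) := by
      have h1 := hnorm k hkW
      have h2 : (n : G) * z * (n : G)⁻¹ = (n : G) * k * (n : G)⁻¹ * ((n : G) * k * (n : G)⁻¹) := by
        rw [← hkk]; group
      obtain ⟨m, hm⟩ := hWp ⟨_, h1⟩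
      have h3 := hsq _ (mem_centralizer_singleton_iff.1 (hWK h1).2)
        (mem_centralizer_singleton_iff.1 (hWK h1).1) ⟨m, congrArg Subtype.val hm⟩ ⟨n, h2⟩
      rw [← h2] at h3
      exact mul_inv_eq_iff_eq_mul.1 h3
    have hnK : (n : G) ∈ K := ⟨mem_centralizer_singleton_iff.2 hnz, n.2⟩
    set Q' : Subgroup K := ((Q : Subgroup Cx).map Cx.subtype).subgroupOf K with hQ'
    have hQp : IsPGroup 2 Q' := (Q.isPGroup'.map _).comap_subtype
    have hSQ : (S : Subgroup K) ≤ Q' := fun s hs =>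
      ⟨⟨(s : G), s.2.2⟩, hQ (show (s : G) ∈ W from ⟨s, hs, rfl⟩), rfl⟩
    have hnS : (⟨n, hnK⟩ : K) ∈ (S : Subgroup K) := by
      rw [← S.is_maximal' hQp hSQ]; exact ⟨n, hnQ, rfl⟩
    exact hn2 (show (n : G) ∈ W from ⟨_, hnS, rfl⟩)
  refine ⟨W, hWK, hWp, hkW, fun R hR hRC => ?_⟩
  obtain ⟨R', hR'⟩ := (hR.comap_subtype : IsPGroup 2 (R.subgroupOf Cx)).exists_le_sylow
  obtain ⟨c, hc⟩ := MulAction.exists_smul_eq Cx R' Q
  refine ⟨c, c.2, fun q hq => ?_⟩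
  have h1 : (⟨q, hRC hq⟩ : Cx) ∈ (R' : Subgroup Cx) := hR' hq
  have h2 : c * ⟨q, hRC hq⟩ * c⁻¹ ∈ ((c • R' : Sylow 2 Cx) : Subgroup Cx) := ⟨_, h1, rfl⟩
  rw [hc, heq] at h2
  exact h2

end Cfsg.Agent.Fus.AutL34
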