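import Mathlib
import Cfsg.Agent.Lib.Fus.AutLThreeFour.Model

/-!
Finite facts about the coordinates used to fuse the central involution.
-/

set_option autoImplicit false

namespace Cfsg.Agent.Fus.AutL34

theorem point_facts : ∀ i : Fin 4, ∃ (r : Equiv.Perm (Fin 4)) (v : Vec), r ^ 3 = 1 ∧ r ≠ 1 ∧ r i = i ∧
    bil (eV i) v = 0 ∧ qf v = 1 ∧ bil v (act r v) = 1 := by decide +kernel

theorem no_commuting_three : ∀ s : Equiv.Perm (Fin 4), s * s = 1 → s ≠ 1 → ∀ r : Equiv.Perm (Fin 4),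
    r ^ 3 = 1 → r ≠ 1 → r * s ≠ s * r := by decide +kernel

theorem fixed_point_trivial : ∀ (j : Fin 4) (s : Equiv.Perm (Fin 4)), s * s = 1 → s j = j →
    ∀ r : Equiv.Perm (Fin 4), r ^ 3 = 1 → r ≠ 1 → r j = j →
      s * (r * s * r⁻¹) = r * s * r⁻¹ * s → s = 1 := by decide +kernel

set_option synthInstance.maxSize 4096 in
set_option synthInstance.maxHeartbeats 400000 in
theorem involution_cases : ∀ s : Equiv.Perm (Fin 4), s * s = 1 → s ≠ 1 →
    (∃ v1 v2 : Vec, qf v1 = 1 ∧ qf v2 = 1 ∧ qf (v1 + v2) = 1 ∧ act s v1 = v1 ∧ act s v2 = v2 ∧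
      (∀ h : Equiv.Perm (Fin 4), h * s = s * h → h * h = 1)) ∨
    ∃ (i : Fin 4) (w : Vec), qf (eV i + act s (eV i)) = 1 ∧ qf (eV i + act s (eV i) + aV) = 1 ∧
      act s (eV i + act s (eV i)) = eV i + act s (eV i) ∧ bil aV (eV i + act s (eV i)) = 0 ∧
      bil aV w = 0 ∧ w + act s w = aV ∧
      (∀ h : Equiv.Perm (Fin 4), h * s = s * h →
        act h (eV i + act s (eV i) + aV) = eV i + act s (eV i) + aV → h * h = 1) ∧
      (∀ h : Equiv.Perm (Fin 4), h * s = s * h →
        act h (eV i + act s (eV i) + aV) = eV i + act s (eV i) + aV ∨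
          act h (eV i + act s (eV i) + aV) = eV i + act s (eV i)) := by decide +kernel

theorem sum_fixed : ∀ (s : Equiv.Perm (Fin 4)) (v w : Vec), act s v = v → act s w = w →
    act s (v + w) = v + w := by decide +kernel

theorem act_add (s : Equiv.Perm (Fin 4)) (v w : Vec) : act s (v + w) = act s v + act s w := rfl

end Cfsg.Agent.Fus.AutL34
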