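import Mathlib
import Cfsg.Agent.Lib.Fus.AutLThreeFour.Cent
import Cfsg.Agent.Lib.Fus.AutLThreeFour.WeakData

/-!
The central involution is conjugate to the fixed non-central involution of the extraspecial subgroup.
-/

set_option autoImplicit false
set_option linter.unusedSectionVars false
set_option linter.style.haveILetI false

namespace Cfsg.Agent.Fus.AutL34

open Subgroup Cfsg.Agent.Spor.ExtraOut

variable {G : Type*} [Group G] [Finite G] {z : G} (D : Data z)

namespace Data

include D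

/-- Lifts of elements of order three. -/
theorem exists_lift_three (r : Equiv.Perm (Fin 4)) (hr : r ^ 3 = 1) :
    ∃ p : G, p * z = z * p ∧ D.φ p = r ∧ p ^ 3 = 1 := by
  obtain ⟨h, hh, e⟩ := D.φ_surj r
  refine ⟨h ^ 256, (Commute.pow_left hh 256 :), ?_, ?_⟩
  · rw [D.φ_pow hh, e, show 256 = 3 * 85 + 1 from rfl, pow_add, pow_mul, hr, one_pow, one_mul, pow_one]
  · rw [← pow_mul]
    have h1 : orderOf (⟨h, mem_C_iff.2 hh⟩ : centralizer ({z} : Set G)) ∣ 768 := D.card_C ▸ orderOf_dvd_natCard _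
    rw [Subgroup.orderOf_mk] at h1
    exact orderOf_dvd_iff_pow_eq_one.1 h1

/-- An element of odd order moving an element at most by `z` fixes it. -/
theorem fix_of_three {p x : G} (hpz : p * z = z * p) (hp : p ^ 3 = 1)
    (h : p * x * p⁻¹ = x ∨ p * x * p⁻¹ = x * z) : p * x = x * p := by
  rcases h with h | h
  · exact mul_inv_eq_iff_eq_mul.1 h
  · exfalso
    have h2 : ∀ y, p * (y * z) * p⁻¹ = p * y * p⁻¹ * z := fun y => by
      calc p * (y * z) * p⁻¹ = p * y * (z * p⁻¹) := by group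
        _ = p * y * (p⁻¹ * z) := by rw [(Commute.inv_left hpz).symm.eq]
        _ = p * y * p⁻¹ * z := by group
    have h3 : p * (p * (p * x * p⁻¹) * p⁻¹) * p⁻¹ = x * z := by
      rw [h, h2, h, mul_assoc x z z, D.zz, mul_one, h]
    rw [show p * (p * (p * x * p⁻¹) * p⁻¹) * p⁻¹ = p ^ 3 * x * (p ^ 3)⁻¹ by
      simp only [pow_succ, pow_zero, one_mul, mul_inv_rev]; group, hp, one_mul, inv_one, mul_one] at h3
    exact D.z1 (left_eq_mul.1 h3)

theorem sq_E {x : G} (hx : x ∈ D.E) : x * x = 1 ∨ x * x = z := by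
  rw [D.sq x hx]
  rcases two_cases (qf (D.π x)) with e | e <;> rw [e]
  · exact Or.inl (pw_zero z)
  · exact Or.inr (pw_one z)

theorem sq_eq_z {x : G} (hx : x ∈ D.E) (h : qf (D.π x) = 1) : x * x = z := by rw [D.sq x hx, h, pw_one]

theorem pow_four_of_sq {x : G} (hxx : x * x = z) : ∃ n : ℕ, x ^ 2 ^ n = 1 :=
  ⟨2, by rw [show 2 ^ 2 = 2 * 2 from rfl, pow_mul, pow_two, pow_two, hxx, D.zz]⟩

/-- The conjugates of `a` by elements of odd weight. -/
theorem exists_flip : ∃ f ∈ D.E, f * D.a * f⁻¹ = D.a * z :=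
  ⟨D.lift (eV 0), D.lift_mem _, D.conj_eq_of_bil (D.lift_mem _) D.a_mem (by
    rw [D.π_lift, D.π_a, bil_comm]; exact (aV_ne.2 0).2.2)⟩

variable (hw : ¬ IsX z D.a)

include hw

theorem not_az : ¬ IsX z (D.a * z) := by
  obtain ⟨f, hf, e⟩ := D.exists_flip
  intro h
  refine hw ?_
  have h2 := h.conj f⁻¹
  rw [← e, inv_inv, show f⁻¹ * (f * D.a * f⁻¹) * f = D.a by group] at h2
  exact h2

/-- An element of `E` conjugate to `z` and different from it lies over a unit vector. -/
theorem point_of_mem {x : G} (hx : x ∈ D.E) (hX : IsX z x) (hxz : x ≠ z) : ∃ i, D.π x = eV i := by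
  have h1 : D.π x ≠ 0 := fun e => (D.π_ker x hx e).elim (hX.ne_one D.z1) hxz
  have h2 : qf (D.π x) = 0 := by
    rcases two_cases (qf (D.π x)) with e | e
    · exact e
    · exact absurd ((hX.mul_self D.zz).symm.trans (D.sq_eq_z hx e)).symm D.z1
  rcases qf_facts.2.2.2 _ h1 h2 with e | h
  · exfalso
    rcases D.eq_or_mul_z hx D.a_mem (e.trans D.π_a.symm) with rfl | rfl
    · exact hw hX
    · exact D.not_az hw hX
  · exact h

/-- `z` is weakly closed in `E`. -/
theorem weakly_closed {x : G} (hx : x ∈ D.E) (hX : IsX z x) : x = z := by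
  by_contra hxz
  obtain ⟨i, hi⟩ := D.point_of_mem hw hx hX hxz
  obtain ⟨g, hg⟩ := hX
  obtain ⟨r, v, hr3, hr1, hri, hbv, hqv, hvv⟩ := point_facts i
  obtain ⟨p, hpz, hpφ, hp3⟩ := D.exists_lift_three r hr3
  obtain ⟨hpx, hπpx⟩ := D.conj p hpz x hx
  have hpx' : p * x = x * p := D.fix_of_three hpz hp3
    (D.eq_or_mul_z hpx hx (by rw [hπpx, hi, hpφ, act_eV, hri]))
  set k := D.lift v with hk
  have hkE := D.lift_mem v
  have hkx : k * x = x * k := D.comm_of_bil hkE hx (by rw [hi, D.π_lift, bil_comm, hbv])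
  have hkk : k * k = z := D.sq_eq_z hkE (by rw [D.π_lift, hqv])
  obtain ⟨hlE, hπl⟩ := D.conj p hpz k hkE
  set l := p * k * p⁻¹ with hl
  have hkl : k * l * k⁻¹ = l * z := D.conj_eq_of_bil hkE hlE (by rw [hπl, hpφ, D.π_lift, hvv])
  -- move to the centraliser of `z`
  let c : G → G := fun y => g⁻¹ * y * g
  have cmul : ∀ y y', c (y * y') = c y * c y' := fun y y' => by simp only [c]; group
  have hcx : c x = z := by simp only [c, ← hg]; group
  have hC : ∀ y, y * x = x * y → c y * z = z * c y := fun y hy => by rw [← hcx, ← cmul, hy, cmul]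
  have hzx : z * x = x * z := (D.cz x hx).symm
  have hlx : l * x = x * l := by
    rw [hl]
    calc p * k * p⁻¹ * x = p * k * (p⁻¹ * x) := by group
      _ = p * k * (x * p⁻¹) := by rw [(Commute.inv_left hpx').eq]
      _ = p * (k * x) * p⁻¹ := by group
      _ = p * x * k * p⁻¹ := by rw [hkx]; group
      _ = x * (p * k * p⁻¹) := by rw [hpx']; group
  set z' := c z with hz'
  have hz'X : IsX z z' := ⟨g⁻¹, by simp only [hz', c]; group⟩
  have hz'ne : z' ≠ z := fun e => hxz (by
    calc x = g * z * g⁻¹ := hg.symm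
      _ = g * c z * g⁻¹ := by rw [← hz', e]
      _ = z := by simp only [c]; group)
  have hz'C : z' * z = z * z' := hC z hzx
  have hz'z' : z' * z' = 1 := hz'X.mul_self D.zz
  have hp'C := hC p hpx'
  have hp'3 : c p ^ 3 = 1 := by
    simp only [pow_succ, pow_zero, one_mul, ← cmul]
    rw [show p * p * p = p ^ 3 by simp only [pow_succ, pow_zero, one_mul], hp3]; simp [c]
  have hp'1 : D.φ (c p) ≠ 1 := fun e => by
    have hm := (D.φ_ker _ hp'C).1 e
    have h1 : c p = 1 := by
      rcases D.sq_E hm with e' | e'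
      · have : c p ^ 3 = c p := by rw [pow_succ, pow_two, e', one_mul]
        exact this.symm.trans hp'3
      · exfalso
        have : c p ^ 3 = z * c p := by rw [pow_succ, pow_two, e']
        rw [hp'3] at this
        have h6 : c p = z := by rw [eq_inv_of_mul_eq_one_right this.symm, inv_eq_of_mul_eq_one_right D.zz]
        rw [h6, D.zz] at e'
        exact D.z1 e'.symm
    apply hr1
    have hp1 : p = 1 := by
      calc p = g * c p * g⁻¹ := by simp only [c]; group
        _ = 1 := by rw [h1, mul_one, mul_inv_cancel]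
    rw [← hpφ, hp1, D.φ_one]
  have hφ3 : D.φ (c p) ^ 3 = 1 := by rw [← D.φ_pow hp'C, hp'3, D.φ_one]
  by_cases hz'E : z' ∈ D.E
  · obtain ⟨j, hj⟩ := D.point_of_mem hw hz'E hz'X hz'ne
    have hfixj : ∀ y, y * z = z * y → y * z' = z' * y → D.φ y j = j := fun y hy hyz' => by
      have h1 := (D.conj y hy z' hz'E).2
      rw [hyz', mul_inv_cancel_right, hj, act_eV] at h1
      by_contra hne
      have := congrFun h1 j
      simp [eV, Pi.single_apply, Ne.symm hne] at this
    have hk'C := hC k hkx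
    have hl'C := hC l hlx
    have hkk' : c k * c k = z' := by rw [← cmul, hkk]
    have hsq : D.φ (c k) * D.φ (c k) = 1 := by
      rw [← D.φ_mul _ _ hk'C hk'C, hkk', D.φ_of_mem hz'E]
    have hφl : D.φ (c l) = D.φ (c p) * D.φ (c k) * (D.φ (c p))⁻¹ := by
      rw [← D.φ_conj hp'C hk'C]; congr 1; simp only [hl, c]; group
    have hkl' : c k * c l = c l * c k * z' := by
      rw [← cmul, ← cmul, ← cmul]
      congr 1
      calc k * l = k * l * k⁻¹ * k := by group
        _ = l * (z * k) := by rw [hkl, mul_assoc]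
        _ = l * k * z := by rw [← D.cz k hkE, mul_assoc l k z]
    have hcomm : D.φ (c k) * D.φ (c l) = D.φ (c l) * D.φ (c k) := by
      rw [← D.φ_mul _ _ hk'C hl'C, hkl', D.φ_mul _ _ (mem_C_iff.1 (mul_mem (mem_C_iff.2 hl'C) (mem_C_iff.2 hk'C)))
        hz'C, D.φ_of_mem hz'E, mul_one, D.φ_mul _ _ hl'C hk'C]
    rw [hφl] at hcomm
    have h1 := fixed_point_trivial j _ hsq
      (hfixj _ hk'C (by rw [← cmul, ← cmul]; congr 1; exact D.cz k hkE))
      _ hφ3 hp'1 (hfixj _ hp'C (by rw [← cmul, ← cmul, hpz])) hcomm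
    rcases D.sq_E ((D.φ_ker _ hk'C).1 h1) with e | e
    · rw [hkk'] at e; exact hz'X.ne_one D.z1 e
    · rw [hkk'] at e; exact hz'ne e
  · refine no_commuting_three (D.φ z') ?_ (fun e => hz'E ((D.φ_ker _ hz'C).1 e)) _ hφ3 hp'1 ?_
    · rw [← D.φ_mul _ _ hz'C hz'C, hz'z', D.φ_one]
    · rw [← D.φ_mul _ _ hp'C hz'C, ← D.φ_mul _ _ hz'C hp'C, ← cmul, ← cmul, hpz]

/-- If every two-element of `C(z, x)` has square in `E`, then `x` is not conjugate to `z`. -/
theorem not_isX_of_sq {x k : G} (hxz : x * z = z * x) (hx : x ≠ z) (hkx : k * x = x * k)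
    (hkz : k * z = z * k) (hkk : k * k = z)
    (hsq : ∀ h : G, h * x = x * h → h * z = z * h → (∃ n : ℕ, h ^ 2 ^ n = 1) → D.φ h * D.φ h = 1) :
    ¬ IsX z x := by
  intro hX
  obtain ⟨W, hW, hWp, -, hconj⟩ := sylow_cent hkx hkz hkk (D.pow_four_of_sq hkk)
    fun h hh hhz hn hXh => D.weakly_closed hw ((D.φ_ker _ (mem_C_iff.1 (mul_mem (mem_C_iff.2 hhz) (mem_C_iff.2 hhz)))).1
      (by rw [D.φ_mul _ _ hhz hhz, hsq h hh hhz hn])) hXh
  haveI : Fact (Nat.Prime 2) := ⟨Nat.prime_two⟩
  obtain ⟨g, hg⟩ := hX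
  obtain ⟨S⟩ := (inferInstance : Nonempty (Sylow 2 ↥(centralizer ({z} : Set G))))
  set P := (S : Subgroup ↥(centralizer ({z} : Set G))).map (centralizer ({z} : Set G)).subtype with hP
  have hPc : Nat.card P = 256 := by
    rw [hP, card_map_of_injective (subtype_injective _), S.card_eq_multiplicity, D.card_C,
      show (768 : ℕ) = 2 ^ 8 * 3 by norm_num, Nat.factorization_mul (by norm_num) (by norm_num),
      Finsupp.add_apply, Nat.factorization_pow, Finsupp.smul_apply, Nat.Prime.factorization_self Nat.prime_two,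
      Nat.factorization_eq_zero_of_not_dvd (by norm_num : ¬ 2 ∣ 3)]
    norm_num
  obtain ⟨c, hc, hcW⟩ := hconj (P.map (MulAut.conj g).toMonoidHom) (S.isPGroup'.map _ |>.map _) (by
    rintro _ ⟨y, hy, rfl⟩
    rw [mem_centralizer_singleton_iff]
    show g * y * g⁻¹ * x = x * (g * y * g⁻¹)
    rw [← hg]
    exact comm_conj (mem_C_iff.1 (map_subtype_le _ hy)))
  have hWz : W ≤ centralizer ({z} : Set G) := hW.trans inf_le_left
  have h256 : 256 ≤ Nat.card W := by
    rw [← hPc]
    refine Nat.card_le_card_of_injective (fun y : P => (⟨c * (g * y * g⁻¹) * c⁻¹, hcW _ ⟨y, y.2, rfl⟩⟩ : W))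
      fun y y' e => Subtype.ext ?_
    have e1 : c * (g * (y : G) * g⁻¹) * c⁻¹ = c * (g * (y' : G) * g⁻¹) * c⁻¹ := congrArg Subtype.val e
    exact mul_left_cancel (mul_right_cancel (mul_left_cancel (mul_right_cancel e1)))
  haveI hEn : (D.E.subgroupOf (centralizer ({z} : Set G))).Normal := by rw [← D.φHom_ker]; infer_instance
  have hWE : IsPGroup 2 ↥(W.subgroupOf (centralizer ({z} : Set G)) ⊔ D.E.subgroupOf (centralizer ({z} : Set G))) :=
    IsPGroup.to_sup_of_normal_right hWp.comap_subtype (IsPGroup.of_card (n := 5) (by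
      rw [Nat.card_congr (subgroupOfEquivOfLe D.E_le).toEquiv, D.card_E]; norm_num))
  obtain ⟨S', hS'⟩ := hWE.exists_le_sylow
  have hS'c : Nat.card S' = 256 := by
    rw [← hPc, hP, card_map_of_injective (subtype_injective _)]
    rw [S'.card_eq_multiplicity, S.card_eq_multiplicity]
  have hEW : D.E ≤ W := by
    intro y hy
    have heq : W.subgroupOf (centralizer ({z} : Set G)) = S' := by
      refine Subgroup.eq_of_le_of_card_ge (le_sup_left.trans hS') ?_
      rw [hS'c, Nat.card_congr (subgroupOfEquivOfLe hWz).toEquiv]; exact h256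
    have h1 : (⟨y, D.E_le hy⟩ : ↥(centralizer ({z} : Set G))) ∈ W.subgroupOf (centralizer ({z} : Set G)) :=
      heq.ge (hS' (mem_sup_right (show _ ∈ D.E.subgroupOf _ from hy)))
    exact h1
  rcases D.eq_of_cent_E (g := x) (fun y hy => (mem_centralizer_singleton_iff.1 (hW (hEW hy)).2).symm) with e | e
  · exact (IsX.ne_one D.z1 ⟨g, hg⟩) e
  · exact hx e

end Data

end Cfsg.Agent.Fus.AutL34
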