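import Mathlib
import Cfsg.Agent.Lib.Fus.AutLThreeFour.Weak

/-!
If `z` is not isolated it is conjugate to `a`.
-/

set_option autoImplicit false
set_option linter.unusedSectionVars false

namespace Cfsg.Agent.Fus.AutL34

open Subgroup Cfsg.Agent.Spor.ExtraOut

variable {G : Type*} [Group G] [Finite G] {z : G} (D : Data z)

theorem z2_cases : ∀ t : ZMod 2, t + t = 0 := by decide

theorem vec_add_cancel : ∀ u v : Vec, u + v + u = v := by decide +kernel

namespace Data

include D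

theorem moved_or_fixed {x y : G} (hxz : x * z = z * x) (hy : y ∈ D.E) (hf : act (D.φ x) (D.π y) = D.π y) :
    x * y * x⁻¹ = y ∨ x * y * x⁻¹ = y * z :=
  D.eq_or_mul_z (D.E_conj hxz hy) hy (by rw [(D.conj x hxz y hy).2, hf])

theorem a_mem_C : D.a * z = z * D.a := D.cz _ D.a_mem

theorem aV_cases {y : G} (hy : y ∈ D.E) (h : D.π y = aV) : y = D.a ∨ y = D.a * z :=
  D.eq_or_mul_z hy D.a_mem (h.trans D.π_a.symm)

/-- The commutator of an involution with an element of `E` squaring to `z` is moved. -/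
theorem conj_commutator {x f : G} (hxz : x * z = z * x) (hxx : x * x = 1) (hf : f ∈ D.E)
    (hq : qf (D.π f + act (D.φ x) (D.π f)) = 1) :
    f * x * f⁻¹ * x⁻¹ ∈ D.E ∧ D.π (f * x * f⁻¹ * x⁻¹) = D.π f + act (D.φ x) (D.π f) ∧
      x * (f * x * f⁻¹ * x⁻¹) * x⁻¹ = f * x * f⁻¹ * x⁻¹ * z := by
  set c := f * x * f⁻¹ * x⁻¹ with hc
  have e : c = f * (x * f⁻¹ * x⁻¹) := by rw [hc]; group
  have hc' := D.conj x hxz f⁻¹ (inv_mem hf)
  have hcE : c ∈ D.E := e ▸ mul_mem hf hc'.1
  have hπ : D.π c = D.π f + act (D.φ x) (D.π f) := by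
    rw [e, D.π_mul _ hf _ hc'.1, hc'.2, D.π_inv hf]
  have hcc : c * c = z := D.sq_eq_z hcE (by rw [hπ]; exact hq)
  refine ⟨hcE, hπ, ?_⟩
  have h1 : c * x * (c * x) = 1 := by
    rw [show c * x * (c * x) = f * (x * x) * f⁻¹ by rw [hc]; group, hxx, mul_one, mul_inv_cancel]
  have h2 : x * c * x = c⁻¹ := eq_inv_of_mul_eq_one_right (by rw [← h1]; group)
  have h3 : c⁻¹ = c * z := inv_eq_of_mul_eq_one_right (by rw [← mul_assoc, hcc, D.zz])
  rw [inv_eq_of_mul_eq_one_right hxx, h2, h3]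

variable (hw : ¬ IsX z D.a)

include hw

/-- The conjugates of `z` in `C(z)` other than `z`. -/
theorem star {x : G} (hX : IsX z x) (hxz : x * z = z * x) (hx : x ≠ z) :
    x * D.a = D.a * x ∧ IsX z (x * z) ∧ IsX z (x * D.a) ∧ IsX z (x * (D.a * z)) := by
  have hxE : x ∉ D.E := fun h => hx (D.weakly_closed hw h hX)
  have hxx : x * x = 1 := hX.mul_self D.zz
  set s := D.φ x with hs
  have hss : s * s = 1 := by rw [← D.φ_mul _ _ hxz hxz, hxx, D.φ_one]
  have hs1 : s ≠ 1 := fun e => hxE ((D.φ_ker x hxz).1 e)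
  have hmov : ∀ y ∈ D.E, x * y ≠ y * x → act s (D.π y) = D.π y → x * y * x⁻¹ = y * z := fun y hy h hf =>
    (D.moved_or_fixed hxz hy hf).resolve_left fun e => h (mul_inv_eq_iff_eq_mul.1 e)
  have hcomm_h : ∀ h, h * x = x * h → h * z = z * h → D.φ h * s = s * D.φ h := fun h hh hhz => by
    rw [← D.φ_mul _ _ hhz hxz, ← D.φ_mul _ _ hxz hhz, hh]
  rcases involution_cases s hss hs1 with ⟨v1, v2, q1, q2, q3, f1, f2, hC⟩ |
    ⟨i, w, q1, q2, f1, b1, bw, hw2, hC, hC'⟩
  · exfalso
    obtain ⟨k, hk, hkx, hkk⟩ : ∃ k ∈ D.E, k * x = x * k ∧ k * k = z := by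
      have hk1 := D.lift_mem v1
      have hk2 := D.lift_mem v2
      by_cases h1 : D.lift v1 * x = x * D.lift v1
      · exact ⟨_, hk1, h1, D.sq_eq_z hk1 (by rw [D.π_lift, q1])⟩
      by_cases h2 : D.lift v2 * x = x * D.lift v2
      · exact ⟨_, hk2, h2, D.sq_eq_z hk2 (by rw [D.π_lift, q2])⟩
      refine ⟨_, mul_mem hk1 hk2, ?_, D.sq_eq_z (mul_mem hk1 hk2) (by rw [D.π_mul _ hk1 _ hk2, D.π_lift, D.π_lift, q3])⟩
      have e1 := hmov _ hk1 (fun e => h1 e.symm) (by rw [D.π_lift, f1])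
      have e2 := hmov _ hk2 (fun e => h2 e.symm) (by rw [D.π_lift, f2])
      suffices h5 : x * (D.lift v1 * D.lift v2) * x⁻¹ = D.lift v1 * D.lift v2 from (mul_inv_eq_iff_eq_mul.1 h5).symm
      calc x * (D.lift v1 * D.lift v2) * x⁻¹ = (x * D.lift v1 * x⁻¹) * (x * D.lift v2 * x⁻¹) := by group
        _ = D.lift v1 * (z * D.lift v2) * z := by rw [e1, e2]; group
        _ = D.lift v1 * D.lift v2 * (z * z) := by rw [← D.cz _ hk2]; group
        _ = D.lift v1 * D.lift v2 := by rw [D.zz, mul_one]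
    exact D.not_isX_of_sq hw hxz hx hkx (D.cz k hk) hkk (fun h hh hhz _ => hC _ (hcomm_h h hh hhz)) hX
  · have hfE := D.lift_mem (eV i)
    obtain ⟨hcE, hπc, hcx⟩ := D.conj_commutator hxz hxx hfE (by rw [D.π_lift, ← hs, q1])
    rw [D.π_lift, ← hs] at hπc
    set c := D.lift (eV i) * x * (D.lift (eV i))⁻¹ * x⁻¹ with hc
    have ha : x * D.a = D.a * x := by
      rcases D.conj_a hxz with e | e
      · exact mul_inv_eq_iff_eq_mul.1 e
      exfalso
      set k := c * D.a with hk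
      have hkE : k ∈ D.E := mul_mem hcE D.a_mem
      have hπk : D.π k = eV i + act s (eV i) + aV := by rw [hk, D.π_mul _ hcE _ D.a_mem, hπc, D.π_a]
      have hkx : k * x = x * k := by
        suffices h5 : x * k * x⁻¹ = k from (mul_inv_eq_iff_eq_mul.1 h5).symm
        calc x * k * x⁻¹ = (x * c * x⁻¹) * (x * D.a * x⁻¹) := by rw [hk]; group
          _ = c * (z * D.a) * z := by rw [hcx, e]; group
          _ = c * D.a * (z * z) := by rw [← D.a_mem_C]; group
          _ = k := by rw [D.zz, mul_one]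
      refine D.not_isX_of_sq hw hxz hx hkx (D.cz k hkE) (D.sq_eq_z hkE (by rw [hπk, q2]))
        (fun h hh hhz _ => hC _ (hcomm_h h hh hhz) ?_) hX
      obtain ⟨hE', hπ'⟩ := D.conj h hhz k hkE
      rw [hπk] at hπ'
      rcases hC' _ (hcomm_h h hh hhz) with e' | e'
      · exact e'
      exfalso
      rw [e', ← hπc] at hπ'
      have hfix : x * (h * k * h⁻¹) = h * k * h⁻¹ * x :=
        calc x * (h * k * h⁻¹) = (x * h) * k * h⁻¹ := by group
          _ = h * (x * k) * h⁻¹ := by rw [← hh]; group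
          _ = h * (k * x) * h⁻¹ := by rw [hkx]
          _ = h * k * (h⁻¹ * x) := by rw [(Commute.inv_left hh).symm.eq.symm]; group
          _ = h * k * h⁻¹ * x := by group
      rcases D.eq_or_mul_z hE' hcE hπ' with e'' | e'' <;> rw [e''] at hfix
      · suffices h6 : c = c * z from D.z1 (left_eq_mul.1 h6)
        rw [← hcx, hfix, mul_inv_cancel_right]
      · suffices h6 : c = c * z from D.z1 (left_eq_mul.1 h6)
        have h5 : x * c = c * x := by
          calc x * c = x * c * (z * z) := by rw [D.zz, mul_one]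
            _ = x * (c * z) * z := by simp only [mul_assoc]
            _ = c * (z * x) * z := by rw [hfix]; group
            _ = c * x * (z * z) := by rw [← hxz]; group
            _ = c * x := by rw [D.zz, mul_one]
        rw [← hcx, h5, mul_inv_cancel_right]
    have hcz : c * x * c⁻¹ = x * z := by
      have hcx' : x * c = c * z * x := mul_inv_eq_iff_eq_mul.1 hcx
      calc c * x * c⁻¹ = c * z * x * (z * c⁻¹) := by
            rw [mul_assoc c z x, ← hxz]
            rw [show c * (x * z) * (z * c⁻¹) = c * x * (z * z) * c⁻¹ by group, D.zz, mul_one]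
        _ = x * (c * z * c⁻¹) := by rw [← hcx']; group
        _ = x * z := by rw [D.cz c hcE, mul_inv_cancel_right]
    have hwE := D.lift_mem w
    set k := D.lift w with hk
    set d := x⁻¹ * k * x * k⁻¹ with hd
    have hxi : x⁻¹ = x := inv_eq_of_mul_eq_one_right hxx
    obtain ⟨hd1, hd2⟩ := D.conj x hxz k hwE
    have hdE : d ∈ D.E := by
      rw [hd, hxi]; nth_rewrite 2 [← hxi]; exact mul_mem hd1 (inv_mem hwE)
    have hπd : D.π d = aV := by
      rw [hd, hxi]; nth_rewrite 2 [← hxi]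
      rw [D.π_mul _ hd1 _ (inv_mem hwE), hd2, D.π_inv hwE, hk, D.π_lift, add_comm, ← hs, hw2]
    have hkx : k * x * k⁻¹ = x * d := by rw [hd]; group
    have hca : c * D.a = D.a * c := D.comm_of_bil hcE D.a_mem (by rw [hπc, D.π_a, bil_comm, b1])
    have hXz : IsX z (x * z) := hcz ▸ hX.conj c
    have hXd : IsX z (x * d) := hkx ▸ hX.conj k
    have hXdz : IsX z (x * (d * z)) := by
      have h1 := hXd.conj c
      have hdc : c * d = d * c := D.comm_of_bil hcE hdE (by rw [hπc, hπd, bil_comm, b1])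
      rwa [show c * (x * d) * c⁻¹ = (c * x * c⁻¹) * (c * d * c⁻¹) by group, hcz, hdc, mul_inv_cancel_right,
        mul_assoc x z d, ← D.cz d hdE] at h1
    refine ⟨ha, hXz, ?_⟩
    rcases D.aV_cases hdE hπd with e | e
    · rw [e] at hXd hXdz
      exact ⟨hXd, hXdz⟩
    · rw [e] at hXd hXdz
      rw [mul_assoc D.a z z, D.zz, mul_one] at hXdz
      exact ⟨hXdz, hXd⟩

omit hw in
/-- A non-isolated `z` is conjugate to `a`. -/
theorem fused (hfus : ∃ x, IsX z x ∧ x * z = z * x ∧ x ≠ z) : IsX z D.a := by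
  by_contra hw
  obtain ⟨x, ⟨g, hg⟩, hxz, hx⟩ := hfus
  set x' := g⁻¹ * z * g with hx'
  have hX' : IsX z x' := ⟨g⁻¹, by rw [hx']; group⟩
  have hgx' : g * x' * g⁻¹ = z := by rw [hx']; group
  have hx'z : x' * z = z * x' := by
    have := comm_conj (g := g⁻¹) hxz
    rw [← hg, show g⁻¹ * (g * z * g⁻¹) * g⁻¹⁻¹ = z by group, inv_inv] at this
    exact this.symm
  have hx'ne : x' ≠ z := fun e => hx (by rw [e] at hgx'; rw [← hg, hgx'])
  obtain ⟨ha', -, hXa', -⟩ := D.star hw hX' hx'z hx'ne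
  set a' := g * D.a * g⁻¹ with ha'def
  have haz : a' * z = z * a' := by
    have := comm_conj (g := g) ha'
    rw [hgx'] at this; exact this.symm
  have hy : IsX z (z * a') := by
    have := hXa'.conj g
    rwa [show g * (x' * D.a) * g⁻¹ = (g * x' * g⁻¹) * (g * D.a * g⁻¹) by group, hgx'] at this
  have hy1 : z * a' * z = a' := by rw [mul_assoc, haz, ← mul_assoc, D.zz, one_mul]
  have hyne : z * a' ≠ z := fun e => D.a_ne_one (by
    have h1 : a' = 1 := mul_eq_left.1 e
    exact conj_eq_one_iff.1 h1)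
  obtain ⟨-, hXz, -, -⟩ := D.star hw hy (by rw [hy1, ← mul_assoc, D.zz, one_mul]) hyne
  rw [hy1] at hXz
  have := hXz.conj g⁻¹
  rw [ha'def, show g⁻¹ * (g * D.a * g⁻¹) * g⁻¹⁻¹ = D.a by group] at this
  exact hw this

end Data

end Cfsg.Agent.Fus.AutL34
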