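import Mathlib
import Cfsg.Agent.Lib.Fus.AutLThreeFour.Fused

/-!
The four-group `⟨z, a⟩`, its centraliser and the normal subgroup of order 64 of its normaliser.
-/

set_option autoImplicit false
set_option linter.unusedSectionVars false
set_option linter.style.haveILetI false

namespace Cfsg.Agent.Fus.AutL34

open Subgroup Cfsg.Agent.Spor.ExtraOut

/-- Membership in the normal four-group of the symmetric group of degree four. -/
def InV (s : Equiv.Perm (Fin 4)) : Prop := s = 1 ∨ (s * s = 1 ∧ ∀ i, s i ≠ i)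

instance (s : Equiv.Perm (Fin 4)) : Decidable (InV s) := by unfold InV; infer_instance

theorem inV_facts : InV 1 ∧ (∀ s, InV s → InV s⁻¹) ∧ (∀ s, InV s → ∀ t, InV t → InV (s * t)) ∧
    (∀ s, InV s → ∀ t : Equiv.Perm (Fin 4), InV (t * s * t⁻¹)) ∧ (∀ s, InV s → s * s = 1) := by
  decide +kernel

theorem not_inV : ∀ s : Equiv.Perm (Fin 4), ¬ InV s → (s ^ 3 = 1 ∧ s ≠ 1) ∨
    ∃ t : Equiv.Perm (Fin 4), (s * (t * s * t⁻¹)) ^ 3 = 1 ∧ s * (t * s * t⁻¹) ≠ 1 := by decide +kernel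

theorem card_inV : (Finset.univ.filter InV).card = 4 := by decide +kernel

theorem cube_pow : ∀ s : Equiv.Perm (Fin 4), s ^ 3 = 1 → ∀ n : ℕ, s ^ 2 ^ n = 1 → s = 1 := by
  intro s h3 n hn
  have h1 : orderOf s ∣ 3 := orderOf_dvd_of_pow_eq_one h3
  have h2 : orderOf s ∣ 2 ^ n := orderOf_dvd_of_pow_eq_one hn
  exact orderOf_eq_one_iff.1 (Nat.eq_one_of_dvd_coprimes (Nat.Coprime.pow_right n (by norm_num)) h1 h2)

theorem even_fixed : ∀ v : Vec, bil aV v = 0 → (∀ s, InV s → act s v = v) → v = 0 ∨ v = aV := by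
  decide +kernel

theorem aV_perp : ∀ v : Vec, (∀ w, bil aV w = 0 → bil v w = 0) → v = 0 ∨ v = aV := by decide +kernel

theorem act_even : ∀ s : Equiv.Perm (Fin 4), (∀ v, bil aV v = 0 → act s v = v) → s = 1 := by decide +kernel

variable {G : Type*} [Group G] [Finite G] {z : G} (D : Data z)

namespace Data

/-- The four-group. -/
def A : Subgroup G where
  carrier := {x | x = 1 ∨ x = z ∨ x = D.a ∨ x = D.a * z}
  one_mem' := Or.inl rfl
  inv_mem' := by
    have hz : z⁻¹ = z := inv_eq_of_mul_eq_one_right D.zz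
    have ha : D.a⁻¹ = D.a := inv_eq_of_mul_eq_one_right D.aa
    intro x hx
    rcases hx with e | e | e | e <;> rw [e]
    · exact Or.inl inv_one
    · exact Or.inr (Or.inl hz)
    · exact Or.inr (Or.inr (Or.inl ha))
    · right; right; right; rw [mul_inv_rev, hz, ha, D.a_mem_C]
  mul_mem' := by
    have hc := D.a_mem_C
    have e1 : z * (D.a * z) = D.a := by rw [← mul_assoc, ← hc, mul_assoc, D.zz, mul_one]
    have e2 : D.a * (D.a * z) = z := by rw [← mul_assoc, D.aa, one_mul]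
    have e3 : D.a * z * z = D.a := by rw [mul_assoc, D.zz, mul_one]
    have e4 : D.a * z * D.a = z := by rw [mul_assoc, ← hc, e2]
    have e5 : D.a * z * (D.a * z) = 1 := by rw [← mul_assoc, e4, D.zz]
    intro x y hx hy
    rcases hx with f1 | f1 | f1 | f1 <;> rcases hy with f2 | f2 | f2 | f2 <;> rw [f1, f2]
    all_goals simp only [one_mul, mul_one, D.zz, D.aa, Set.mem_setOf_eq, hc.symm, e1, e2, e3, e4, e5, true_or, or_true]
    all_goals first | exact Or.inl rfl | exact Or.inr (Or.inl rfl) | exact Or.inr (Or.inr (Or.inl rfl)) |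
      exact Or.inr (Or.inr (Or.inr rfl))

theorem mem_A {x : G} : x ∈ D.A ↔ x = 1 ∨ x = z ∨ x = D.a ∨ x = D.a * z := Iff.rfl

theorem z_mem_A : z ∈ D.A := Or.inr (Or.inl rfl)

theorem a_mem_A : D.a ∈ D.A := Or.inr (Or.inr (Or.inl rfl))

theorem az_mem_A : D.a * z ∈ D.A := Or.inr (Or.inr (Or.inr rfl))

theorem A_le_E : D.A ≤ D.E := by
  intro x hx
  rcases hx with e | e | e | e <;> rw [e]
  exacts [one_mem _, D.zE, D.a_mem, mul_mem D.a_mem D.zE]

theorem A_sq {x : G} (hx : x ∈ D.A) : x * x = 1 := by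
  rcases hx with e | e | e | e <;> rw [e]
  · exact one_mul 1
  · exact D.zz
  · exact D.aa
  · rw [mul_assoc, ← mul_assoc z, ← D.a_mem_C, mul_assoc D.a z z, D.zz, mul_one, D.aa]

theorem A_comm {x y : G} (hx : x ∈ D.A) (hy : y ∈ D.A) : x * y = y * x := by
  have h := D.A_sq (mul_mem hx hy)
  calc x * y = (x * y)⁻¹ := (inv_eq_of_mul_eq_one_left h).symm
    _ = y * x := by rw [mul_inv_rev, inv_eq_of_mul_eq_one_left (D.A_sq hx), inv_eq_of_mul_eq_one_left (D.A_sq hy)]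

/-- The centraliser of the four-group. -/
def CA : Subgroup G := centralizer ({z} : Set G) ⊓ centralizer ({D.a} : Set G)

theorem mem_CA {x : G} : x ∈ D.CA ↔ x * z = z * x ∧ x * D.a = D.a * x :=
  ⟨fun h => ⟨mem_centralizer_singleton_iff.1 h.1, mem_centralizer_singleton_iff.1 h.2⟩,
    fun h => ⟨mem_centralizer_singleton_iff.2 h.1, mem_centralizer_singleton_iff.2 h.2⟩⟩

theorem CA_comm {x y : G} (hx : x ∈ D.CA) (hy : y ∈ D.A) : x * y = y * x := by
  obtain ⟨h1, h2⟩ := D.mem_CA.1 hx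
  rcases hy with e | e | e | e <;> rw [e]
  · rw [mul_one, one_mul]
  · exact h1
  · exact h2
  · rw [← mul_assoc, h2, mul_assoc, h1, mul_assoc]

theorem A_le_CA : D.A ≤ D.CA := fun _ hx =>
  D.mem_CA.2 ⟨D.A_comm hx D.z_mem_A, D.A_comm hx D.a_mem_A⟩

theorem E_CA_iff {x : G} (hx : x ∈ D.E) : x ∈ D.CA ↔ bil aV (D.π x) = 0 := by
  rw [D.mem_CA]
  constructor
  · intro h
    rw [bil_comm, ← D.π_a]; exact D.bil_of_comm hx D.a_mem h.2
  · intro h
    exact ⟨D.cz x hx, D.comm_of_bil hx D.a_mem (by rw [D.π_a, bil_comm]; exact h)⟩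

/-- An element of `C(z)` over a permutation centralising `a`. -/
theorem exists_CA (s : Equiv.Perm (Fin 4)) : ∃ h ∈ D.CA, D.φ h = s := by
  obtain ⟨h, hh, e⟩ := D.φ_surj s
  obtain ⟨f, hf, hfa⟩ := D.exists_flip
  rcases D.conj_a hh with e' | e'
  · exact ⟨h, D.mem_CA.2 ⟨hh, mul_inv_eq_iff_eq_mul.1 e'⟩, e⟩
  · refine ⟨f * h, D.mem_CA.2 ⟨?_, ?_⟩, ?_⟩
    · exact mem_C_iff.1 (mul_mem (D.E_le hf) (mem_C_iff.2 hh))
    · refine mul_inv_eq_iff_eq_mul.1 ?_
      calc f * h * D.a * (f * h)⁻¹ = f * (h * D.a * h⁻¹) * f⁻¹ := by group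
        _ = f * D.a * (z * f⁻¹) := by rw [e']; group
        _ = f * D.a * (f⁻¹ * z) := by rw [(Commute.inv_left (D.cz f hf)).eq.symm]
        _ = f * D.a * f⁻¹ * z := by group
        _ = D.a := by rw [hfa, mul_assoc, D.zz, mul_one]
    · rw [D.φ_mul _ _ (D.cz f hf) hh, D.φ_of_mem hf, one_mul, e]

include D in
theorem relIndex_two (K : Subgroup G) (hK : K ≤ centralizer ({z} : Set G)) {f : G} (hfK : f ∈ K)
    (hf : f * D.a * f⁻¹ = D.a * z) : 2 * Nat.card ↥(K ⊓ centralizer ({D.a} : Set G)) = Nat.card K := by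
  classical
  have hmove : ∀ x, x ∈ K → x ∉ centralizer ({D.a} : Set G) → x * D.a * x⁻¹ = D.a * z := fun x hx hn =>
    (D.conj_a (mem_C_iff.1 (hK hx))).resolve_left fun e =>
      hn (mem_centralizer_singleton_iff.2 (mul_inv_eq_iff_eq_mul.1 e))
  have hidx : ((centralizer ({D.a} : Set G)).subgroupOf K).index = 2 := by
    rw [index_eq_two_iff]
    refine ⟨⟨f, hfK⟩, fun x => ?_⟩
    simp only [mem_subgroupOf, coe_mul, mem_centralizer_singleton_iff]
    by_cases hx : (x : G) * D.a = D.a * x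
    · refine Or.inr ⟨hx, fun h => D.a_ne_one ?_⟩
      exfalso
      have h1 : (x : G) * f * D.a * ((x : G) * f)⁻¹ = D.a * z := by
        rw [show (x : G) * f * D.a * ((x : G) * f)⁻¹ = (x : G) * (f * D.a * f⁻¹) * (x : G)⁻¹ by group, hf,
          ← mul_assoc, hx, mul_assoc D.a, mem_C_iff.1 (hK x.2), mul_assoc D.a, mul_inv_cancel_right]
      rw [h, mul_inv_cancel_right] at h1
      exact D.z1 (left_eq_mul.1 h1)
    · refine Or.inl ⟨?_, hx⟩
      refine mul_inv_eq_iff_eq_mul.1 ?_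
      have hxm := hmove x x.2 (fun h => hx (mem_centralizer_singleton_iff.1 h))
      rw [show (x : G) * f * D.a * ((x : G) * f)⁻¹ = (x : G) * (f * D.a * f⁻¹) * (x : G)⁻¹ by group, hf,
        show (x : G) * (D.a * z) * (x : G)⁻¹ = (x : G) * D.a * (z * (x : G)⁻¹) by group,
        ← (Commute.inv_left (mem_C_iff.1 (hK x.2))).eq, ← mul_assoc, hxm, mul_assoc, D.zz, mul_one]
  have h := ((centralizer ({D.a} : Set G)).subgroupOf K).card_mul_index
  rw [hidx, ← inf_subgroupOf_left, Nat.card_congr (subgroupOfEquivOfLe inf_le_left).toEquiv] at h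
  omega

theorem card_CA : Nat.card D.CA = 384 := by
  obtain ⟨f, hf, hfa⟩ := D.exists_flip
  have := D.relIndex_two (centralizer ({z} : Set G)) le_rfl (D.E_le hf) hfa
  rw [D.card_C] at this
  show Nat.card ↥(centralizer ({z} : Set G) ⊓ centralizer ({D.a} : Set G)) = 384
  omega

theorem card_U : Nat.card ↥(D.E ⊓ centralizer ({D.a} : Set G)) = 16 := by
  obtain ⟨f, hf, hfa⟩ := D.exists_flip
  have := D.relIndex_two D.E D.E_le hf hfa
  rw [D.card_E] at this
  omega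

/-- The subgroup of order 64. -/
def T : Subgroup G where
  carrier := {x | x ∈ D.CA ∧ InV (D.φ x)}
  one_mem' := ⟨one_mem _, by rw [D.φ_one]; exact inV_facts.1⟩
  inv_mem' := fun {x} hx => ⟨inv_mem hx.1, by rw [D.φ_inv (D.mem_CA.1 hx.1).1]; exact inV_facts.2.1 _ hx.2⟩
  mul_mem' := fun {x y} hx hy => ⟨mul_mem hx.1 hy.1, by
    rw [D.φ_mul _ _ (D.mem_CA.1 hx.1).1 (D.mem_CA.1 hy.1).1]; exact inV_facts.2.2.1 _ hx.2 _ hy.2⟩

theorem mem_T {x : G} : x ∈ D.T ↔ x ∈ D.CA ∧ InV (D.φ x) := Iff.rfl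

theorem T_le_CA : D.T ≤ D.CA := fun _ hx => hx.1

theorem U_le_T {x : G} (hx : x ∈ D.E) (hC : x ∈ D.CA) : x ∈ D.T :=
  ⟨hC, by rw [D.φ_of_mem hx]; exact inV_facts.1⟩

theorem A_le_T : D.A ≤ D.T := fun _ hx => D.U_le_T (D.A_le_E hx) (D.A_le_CA hx)

theorem card_T : Nat.card D.T = 64 := by
  classical
  let ψ : ↥D.T →* Equiv.Perm (Fin 4) := MonoidHom.mk' (fun x => D.φ x) fun x y =>
    D.φ_mul _ _ (D.mem_CA.1 x.2.1).1 (D.mem_CA.1 y.2.1).1
  have hker : ψ.ker = (D.E ⊓ centralizer ({D.a} : Set G)).subgroupOf D.T := by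
    ext x
    rw [MonoidHom.mem_ker, mem_subgroupOf]
    exact ⟨fun h => ⟨(D.φ_ker _ (D.mem_CA.1 x.2.1).1).1 h, x.2.1.2⟩, fun h => D.φ_of_mem h.1⟩
  have hr : (ψ.range : Set (Equiv.Perm (Fin 4))) = ↑(Finset.univ.filter InV) := by
    ext s
    simp only [Finset.coe_filter, Finset.mem_univ, true_and, Set.mem_setOf_eq, SetLike.mem_coe, MonoidHom.mem_range]
    constructor
    · rintro ⟨x, rfl⟩; exact x.2.2
    · intro hs
      obtain ⟨h, hh, e⟩ := D.exists_CA s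
      exact ⟨⟨h, hh, e.symm ▸ hs⟩, e⟩
  have h := Subgroup.card_mul_index ψ.ker
  have hle : D.E ⊓ centralizer ({D.a} : Set G) ≤ D.T :=
    fun x hx => D.U_le_T hx.1 ⟨D.E_le hx.1, hx.2⟩
  rw [index_ker, hker, Nat.card_congr (subgroupOfEquivOfLe hle).toEquiv, D.card_U,
    show Nat.card ψ.range = 4 by
      rw [← SetLike.coe_sort_coe, Nat.card_coe_set_eq, hr, Set.ncard_coe_finset, card_inV]] at h
  exact h.symm

theorem T_isPGroup : IsPGroup 2 D.T := IsPGroup.of_card (n := 6) (by rw [D.card_T]; norm_num)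

theorem conj_T_of_C {h x : G} (hh : h * z = z * h) (hx : x ∈ D.T) : h * x * h⁻¹ ∈ D.T := by
  obtain ⟨hx1, hx2⟩ := hx
  have hxz := (D.mem_CA.1 hx1).1
  have hz' : h * x * h⁻¹ * z = z * (h * x * h⁻¹) :=
    mem_C_iff.1 (mul_mem (mul_mem (mem_C_iff.2 hh) (mem_C_iff.2 hxz)) (inv_mem (mem_C_iff.2 hh)))
  refine ⟨D.mem_CA.2 ⟨hz', ?_⟩, by rw [D.φ_conj hh hxz]; exact inV_facts.2.2.2.1 _ hx2 _⟩
  have ha : h⁻¹ * D.a * h ∈ D.A := by
    have hh' : h⁻¹ * z = z * h⁻¹ := (Commute.inv_left hh :)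
    rcases D.conj_a hh' with e | e <;> rw [inv_inv] at e <;> rw [e]
    · exact D.a_mem_A
    · exact D.az_mem_A
  calc h * x * h⁻¹ * D.a = h * (x * (h⁻¹ * D.a * h)) * h⁻¹ := by group
    _ = h * ((h⁻¹ * D.a * h) * x) * h⁻¹ := by rw [D.CA_comm hx1 ha]
    _ = D.a * (h * x * h⁻¹) := by group

/-- The normaliser of the four-group. -/
def N : Subgroup G := normalizer (D.A : Set G)

theorem C_le_N : centralizer ({z} : Set G) ≤ D.N := by
  have hstep : ∀ h, h * z = z * h → ∀ y ∈ D.A, h * y * h⁻¹ ∈ D.A := by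
    intro h hh y hy
    have hz' : h * z * h⁻¹ = z := by rw [hh, mul_inv_cancel_right]
    have ha : h * D.a * h⁻¹ ∈ D.A := by
      rcases D.conj_a hh with e | e <;> rw [e]
      exacts [D.a_mem_A, D.az_mem_A]
    rcases hy with e | e | e | e <;> rw [e]
    · rw [mul_one, mul_inv_cancel]; exact one_mem _
    · rw [hz']; exact D.z_mem_A
    · exact ha
    · rw [show h * (D.a * z) * h⁻¹ = (h * D.a * h⁻¹) * (h * z * h⁻¹) by group, hz']
      exact mul_mem ha D.z_mem_A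
  intro h hh
  rw [mem_C_iff] at hh
  refine mem_normalizer_iff.2 fun y => ⟨hstep h hh y, fun hy => ?_⟩
  have := hstep h⁻¹ (Commute.inv_left hh :) _ hy
  rwa [inv_inv, show h⁻¹ * (h * y * h⁻¹) * h = y by group] at this

theorem conj_CA {n x : G} (hn : n ∈ D.N) (hx : x ∈ D.CA) : n * x * n⁻¹ ∈ D.CA := by
  have h : ∀ y ∈ D.A, n * x * n⁻¹ * y = y * (n * x * n⁻¹) := fun y hy => by
    have hy' : n⁻¹ * y * n ∈ D.A := (mem_normalizer_iff''.1 hn y).1 hy
    calc n * x * n⁻¹ * y = n * (x * (n⁻¹ * y * n)) * n⁻¹ := by group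
      _ = n * ((n⁻¹ * y * n) * x) * n⁻¹ := by rw [D.CA_comm hx hy']
      _ = y * (n * x * n⁻¹) := by group
  exact D.mem_CA.2 ⟨h z D.z_mem_A, h D.a D.a_mem_A⟩

theorem conj_T {n x : G} (hn : n ∈ D.N) (hx : x ∈ D.T) : n * x * n⁻¹ ∈ D.T := by
  refine ⟨D.conj_CA hn hx.1, ?_⟩
  by_contra hV
  have hyC := (D.mem_CA.1 (D.conj_CA hn hx.1)).1
  have key : ∀ y ∈ D.T, D.φ (n * y * n⁻¹) ^ 3 = 1 → D.φ (n * y * n⁻¹) = 1 := fun y hy h3 => by
    obtain ⟨m, hm⟩ := D.T_isPGroup ⟨y, hy⟩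
    refine cube_pow _ h3 m ?_
    have hm' : y ^ 2 ^ m = 1 := congrArg Subtype.val hm
    rw [← D.φ_pow (D.mem_CA.1 (D.conj_CA hn hy.1)).1, conj_pow, hm', mul_one, mul_inv_cancel, D.φ_one]
  rcases not_inV _ hV with ⟨h3, h1⟩ | ⟨s, h3, h1⟩
  · exact h1 (key x hx h3)
  obtain ⟨k, hk, rfl⟩ := D.exists_CA s
  have hk' : n⁻¹ * k * n ∈ D.CA := by
    have := D.conj_CA (inv_mem hn) hk; rwa [inv_inv] at this
  set w := n⁻¹ * k * n with hw
  have hy : x * (w * x * w⁻¹) ∈ D.T := mul_mem hx (D.conj_T_of_C (D.mem_CA.1 hk').1 hx)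
  have e : n * (x * (w * x * w⁻¹)) * n⁻¹ = n * x * n⁻¹ * (k * (n * x * n⁻¹) * k⁻¹) := by rw [hw]; group
  have he : D.φ (n * (x * (w * x * w⁻¹)) * n⁻¹) =
      D.φ (n * x * n⁻¹) * (D.φ k * D.φ (n * x * n⁻¹) * (D.φ k)⁻¹) := by
    rw [e, D.φ_mul _ _ hyC, D.φ_conj (D.mem_CA.1 hk).1 hyC]
    exact mem_C_iff.1 (mul_mem (mul_mem hk.1 (mem_C_iff.2 hyC)) (inv_mem hk.1))
  refine h1 (he ▸ key _ hy ?_)
  rw [he]; exact h3

/-- Elements centralising `E ∩ C(a)` lie in the four-group. -/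
theorem mem_A_of_cent {w : G} (hw : ∀ u ∈ D.E, bil aV (D.π u) = 0 → w * u = u * w) : w ∈ D.A := by
  have hwz : w * z = z * w := hw z D.zE (by rw [D.π_z]; exact (bil_zero aV).2)
  have hφ : D.φ w = 1 := by
    refine act_even _ fun v hv => ?_
    obtain ⟨h1, h2⟩ := D.conj w hwz _ (D.lift_mem v)
    rw [D.π_lift] at h2
    rw [← h2, hw _ (D.lift_mem v) (by rw [D.π_lift]; exact hv), mul_inv_cancel_right, D.π_lift]
  have hwE := (D.φ_ker w hwz).1 hφ
  rcases aV_perp (D.π w) (fun v hv => by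
    rw [← D.π_lift v]; exact D.bil_of_comm hwE (D.lift_mem v) (hw _ (D.lift_mem v) (by rw [D.π_lift]; exact hv)))
    with e | e
  · rcases D.π_ker w hwE e with e' | e' <;> rw [e']
    exacts [one_mem _, D.z_mem_A]
  · rcases D.eq_or_mul_z hwE D.a_mem (e.trans D.π_a.symm) with e' | e' <;> rw [e']
    exacts [D.a_mem_A, D.az_mem_A]

variable (hXa : IsX z D.a)

include hXa

/-- Some element of the normaliser exchanges `z` and `az`. -/
theorem exists_swap : ∃ n ∈ D.N, n * z * n⁻¹ = D.a * z := by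
  classical
  haveI : Fact (Nat.Prime 2) := ⟨Nat.prime_two⟩
  obtain ⟨g, hg⟩ := hXa
  set Ca := centralizer ({D.a} : Set G) with hCa
  have hUn : ((D.E ⊓ Ca).subgroupOf D.CA).Normal := ⟨fun x hx h => by
    refine ⟨D.E_conj (D.mem_CA.1 h.2).1 hx.1, mem_centralizer_singleton_iff.2 ?_⟩
    exact (D.mem_CA.1 ((h * x * h⁻¹ : D.CA)).2).2⟩
  have hUle : D.E ⊓ Ca ≤ D.CA := fun x hx => ⟨D.E_le hx.1, hx.2⟩
  have hUp : IsPGroup 2 ((D.E ⊓ Ca).subgroupOf D.CA) := IsPGroup.of_card (n := 4) (by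
    rw [Nat.card_congr (subgroupOfEquivOfLe hUle).toEquiv, D.card_U]; norm_num)
  obtain ⟨S, hS⟩ := hUp.exists_le_sylow
  set W := (S : Subgroup D.CA).map D.CA.subtype with hW
  have hWCA : W ≤ D.CA := map_subtype_le _
  have hWa : W ≤ Ca := hWCA.trans inf_le_right
  have hcW : Nat.card W = 128 := by
    rw [hW, card_map_of_injective (subtype_injective _), S.card_eq_multiplicity, D.card_CA,
      show (384 : ℕ) = 2 ^ 7 * 3 by norm_num, Nat.factorization_mul (by norm_num) (by norm_num),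
      Finsupp.add_apply, Nat.factorization_pow, Finsupp.smul_apply, Nat.Prime.factorization_self Nat.prime_two,
      Nat.factorization_eq_zero_of_not_dvd (by norm_num : ¬ 2 ∣ 3)]
    norm_num
  obtain ⟨Q, hQ⟩ := ((S.isPGroup'.map _).comap_subtype : IsPGroup 2 (W.subgroupOf Ca)).exists_le_sylow
  have hcCa : Nat.card Ca = 768 := by
    rw [← D.card_C]
    have e : Ca = (centralizer ({z} : Set G)).map (MulAut.conj g).toMonoidHom := by
      ext x
      rw [mem_map_equiv, MulAut.conj_symm_apply, hCa, mem_centralizer_singleton_iff, mem_C_iff, ← hg]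
      constructor <;> intro h
      · calc g⁻¹ * x * g * z = g⁻¹ * (x * (g * z * g⁻¹)) * g := by group
          _ = z * (g⁻¹ * x * g) := by rw [h]; group
      · calc x * (g * z * g⁻¹) = g * (g⁻¹ * x * g * z) * g⁻¹ := by group
          _ = g * z * g⁻¹ * x := by rw [h]; group
    rw [e]
    exact card_map_of_injective (MulAut.conj g).injective
  have hcQ : Nat.card Q = 256 := by
    rw [Q.card_eq_multiplicity, hcCa, show (768 : ℕ) = 2 ^ 8 * 3 by norm_num,
      Nat.factorization_mul (by norm_num) (by norm_num), Finsupp.add_apply, Nat.factorization_pow,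
      Finsupp.smul_apply, Nat.Prime.factorization_self Nat.prime_two,
      Nat.factorization_eq_zero_of_not_dvd (by norm_num : ¬ 2 ∣ 3)]
    norm_num
  have hlt : W.subgroupOf Ca < (Q : Subgroup Ca) := by
    refine lt_of_le_of_ne hQ fun e => ?_
    have h1 : Nat.card ↥(W.subgroupOf Ca) = 256 := by rw [e, hcQ]
    rw [Nat.card_congr (subgroupOfEquivOfLe hWa).toEquiv, hcW] at h1
    omega
  have hnc : Group.IsNilpotent ↥(Q : Subgroup Ca) := Q.isPGroup'.isNilpotent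
  have hlt' : (W.subgroupOf Ca).subgroupOf (Q : Subgroup Ca) < ⊤ := by
    rw [lt_top_iff_ne_top]
    exact fun e => hlt.ne (le_antisymm hQ (subgroupOf_eq_top.1 e))
  obtain ⟨⟨n, hnQ⟩, hn1, hn2⟩ :=
    SetLike.exists_of_lt (normalizerCondition_of_isNilpotent (G := ↥(Q : Subgroup Ca)) _ hlt')
  have hna : (n : G) * D.a = D.a * (n : G) := mem_centralizer_singleton_iff.1 n.2
  have hnorm : ∀ w, w ∈ W ↔ (n : G) * w * (n : G)⁻¹ ∈ W := fun w => by
    constructor
    · intro hw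
      exact (mem_normalizer_iff.1 hn1 ⟨⟨w, hWa hw⟩, hQ (show w ∈ W from hw)⟩).1 hw
    · intro hw
      have h2 := (mem_normalizer_iff''.1 hn1 ⟨⟨_, hWa hw⟩, hQ (show (n : G) * w * (n : G)⁻¹ ∈ W from hw)⟩).1 hw
      simpa [mem_subgroupOf, mul_assoc] using h2
  have hUW : ∀ u ∈ D.E, bil aV (D.π u) = 0 → u ∈ W := fun u hu hb => by
    have hm := (D.E_CA_iff hu).2 hb
    exact ⟨⟨u, hm⟩, hS (show (⟨u, hm⟩ : D.CA) ∈ (D.E ⊓ Ca).subgroupOf D.CA from ⟨hu, hm.2⟩), rfl⟩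
  have hAn : ∀ y ∈ D.A, (n : G) * y * (n : G)⁻¹ ∈ D.A := fun y hy => by
    refine D.mem_A_of_cent fun u hu hb => ?_
    have h1 : (n : G)⁻¹ * u * (n : G) ∈ W := by
      rw [hnorm, show (n : G) * ((n : G)⁻¹ * u * (n : G)) * (n : G)⁻¹ = u by group]
      exact hUW u hu hb
    have h2 := D.CA_comm (hWCA h1) hy
    calc (n : G) * y * (n : G)⁻¹ * u = (n : G) * (y * ((n : G)⁻¹ * u * (n : G))) * (n : G)⁻¹ := by group
      _ = (n : G) * (((n : G)⁻¹ * u * (n : G)) * y) * (n : G)⁻¹ := by rw [h2]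
      _ = u * ((n : G) * y * (n : G)⁻¹) := by group
  have hnN : (n : G) ∈ D.N := by
    refine Subgroup.mem_normalizer_fintype ?_
    exact fun y hy => hAn y hy
  refine ⟨n, hnN, ?_⟩
  rcases hAn z D.z_mem_A with e | e | e | e
  · exact absurd (conj_eq_one_iff.1 e) D.z1
  · exfalso
    have hnCA : (n : G) ∈ D.CA := D.mem_CA.2 ⟨mul_inv_eq_iff_eq_mul.1 e, hna⟩
    set Q' : Subgroup D.CA := ((Q : Subgroup Ca).map Ca.subtype).subgroupOf D.CA with hQ'
    have hQp : IsPGroup 2 Q' := (Q.isPGroup'.map _).comap_subtype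
    have hSQ : (S : Subgroup D.CA) ≤ Q' := fun s hs =>
      ⟨⟨(s : G), s.2.2⟩, hQ (show (s : G) ∈ W from ⟨s, hs, rfl⟩), rfl⟩
    have hnS : (⟨n, hnCA⟩ : D.CA) ∈ (S : Subgroup D.CA) := by
      rw [← S.is_maximal' hQp hSQ]; exact ⟨n, hnQ, rfl⟩
    exact hn2 (show (n : G) ∈ W from ⟨_, hnS, rfl⟩)
  · exfalso
    have : (n : G) * z * (n : G)⁻¹ = (n : G) * D.a * (n : G)⁻¹ := by rw [e, hna, mul_inv_cancel_right]
    exact D.a_ne_z (mul_left_cancel (mul_right_cancel this)).symm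
  · exact e

theorem card_N : Nat.card D.N = 2304 := by
  classical
  obtain ⟨n, hn, hnz⟩ := D.exists_swap hXa
  obtain ⟨f, hf, hfa⟩ := D.exists_flip
  have hfN : f ∈ D.N := D.C_le_N (D.E_le hf)
  have hconj : ∀ m ∈ D.N, m * z * m⁻¹ ∈ ({z, D.a, D.a * z} : Set G) := by
    intro m hm
    rcases (mem_normalizer_iff.1 hm z).1 D.z_mem_A with e | e | e | e
    · exact absurd (conj_eq_one_iff.1 e) D.z1
    all_goals simp [e]
  let F : D.N ⧸ (centralizer ({z} : Set G)).subgroupOf D.N → ↥({z, D.a, D.a * z} : Set G) := fun c =>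
    ⟨(c.out : G) * z * (c.out : G)⁻¹, hconj _ c.out.2⟩
  have hF : ∀ m : D.N, ((F (QuotientGroup.mk m)) : G) = (m : G) * z * (m : G)⁻¹ := fun m => by
    obtain ⟨k, hk⟩ := QuotientGroup.mk_out_eq_mul ((centralizer ({z} : Set G)).subgroupOf D.N) m
    show ((QuotientGroup.mk m : D.N ⧸ _).out : G) * z * _⁻¹ = _
    rw [hk, coe_mul, mul_inv_rev, show (m : G) * ((k : D.N) : G) * z * (((k : D.N) : G)⁻¹ * (m : G)⁻¹) =
      (m : G) * (((k : D.N) : G) * z * ((k : D.N) : G)⁻¹) * (m : G)⁻¹ by group,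
      mem_C_iff.1 (mem_subgroupOf.1 k.2), mul_inv_cancel_right]
  have hbij : Function.Bijective F := by
    constructor
    · intro c d e
      obtain ⟨m, rfl⟩ := QuotientGroup.mk_surjective c
      obtain ⟨m', rfl⟩ := QuotientGroup.mk_surjective d
      have e' : (m : G) * z * (m : G)⁻¹ = (m' : G) * z * (m' : G)⁻¹ := by
        rw [← hF, ← hF]; exact congrArg Subtype.val e
      rw [QuotientGroup.eq, mem_subgroupOf, mem_C_iff, coe_mul, coe_inv]
      calc (m : G)⁻¹ * m' * z = (m : G)⁻¹ * ((m' : G) * z * (m' : G)⁻¹) * m' := by group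
        _ = z * ((m : G)⁻¹ * m') := by rw [← e']; group
    · rintro ⟨y, hy⟩
      have key : ∀ m : D.N, (m : G) * z * (m : G)⁻¹ = y → ∃ c, F c = ⟨y, hy⟩ := fun m h =>
        ⟨QuotientGroup.mk m, Subtype.ext ((hF m).trans h)⟩
      have hy' := hy
      simp only [Set.mem_insert_iff, Set.mem_singleton_iff] at hy'
      rcases hy' with e | e | e
      · exact key 1 (by rw [e]; simp)
      · refine key ⟨f * n, mul_mem hfN hn⟩ ?_
        rw [e]
        show f * n * z * (f * n)⁻¹ = D.a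
        rw [show f * n * z * (f * n)⁻¹ = f * (n * z * n⁻¹) * f⁻¹ by group, hnz,
          show f * (D.a * z) * f⁻¹ = f * D.a * (z * f⁻¹) by group, ← (Commute.inv_left (D.cz f hf)).eq,
          ← mul_assoc, hfa, mul_assoc, D.zz, mul_one]
      · exact key ⟨n, hn⟩ (hnz.trans e.symm)
  have h := ((centralizer ({z} : Set G)).subgroupOf D.N).card_mul_index
  rw [index_eq_card, Nat.card_eq_of_bijective F hbij, Nat.card_congr (subgroupOfEquivOfLe D.C_le_N).toEquiv,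
    D.card_C] at h
  have h3 : Nat.card ↥({z, D.a, D.a * z} : Set G) = 3 := by
    rw [Nat.card_coe_set_eq, Set.ncard_eq_three]
    refine ⟨z, D.a, D.a * z, D.a_ne_z.symm, fun e => D.a_ne_one (mul_eq_right.1 e.symm), fun e => D.z1 (left_eq_mul.1 e), rfl⟩
  rw [h3] at h
  omega

end Data

end Cfsg.Agent.Fus.AutL34
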