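import Mathlib
import Cfsg.Agent.Lib.Fus.AutLThreeFour.Normal
import Cfsg.Agent.Lib.Invol.Sylow

/-!
Complements: two commuting elements of order three and two commuting involutions in the normaliser
of the four-group.
-/

set_option autoImplicit false
set_option linter.unusedSectionVars false
set_option linter.style.haveILetI false

namespace Cfsg.Agent.Fus.AutL34

open Subgroup Cfsg.Agent.Spor.ExtraOut

/-- The three-cycle used for the coordinates. -/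
def r0 : Equiv.Perm (Fin 4) := Equiv.swap 0 1 * Equiv.swap 1 2

set_option synthInstance.maxSize 4096 in
set_option synthInstance.maxHeartbeats 400000 in
theorem r0_facts : r0 ^ 3 = 1 ∧ r0 ≠ 1 ∧ r0 ≠ r0 ^ 2 ∧ act r0 (eV 3) = eV 3 ∧ Equiv.Perm.sign r0 = 1 ∧
    (∀ s : Equiv.Perm (Fin 4), s * r0 = r0 * s → s = 1 ∨ s = r0 ∨ s = r0 ^ 2) ∧
    (∀ s : Equiv.Perm (Fin 4), s * r0 * s⁻¹ = r0 ^ 2 → s * s = 1 ∧ Equiv.Perm.sign s = -1 ∧ ¬ InV s) ∧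
    (∀ v : Vec, bil aV v = 0 → act r0 v = v → v = 0 ∨ v = aV) ∧ ¬ InV r0 ∧
    (∀ j : Fin 3, r0 ^ (2 * (j : ℕ)) = 1 → j = 0) := by decide +kernel

variable {G : Type*} [Group G] [Finite G] {z : G}

/-- The complements. -/
structure Frame (D : Data z) where
  ρ : G
  σ : G
  t : G
  f : G
  ρ3 : ρ ^ 3 = 1
  σ3 : σ ^ 3 = 1
  t2 : t * t = 1
  f2 : f * f = 1
  ρσ : ρ * σ = σ * ρ
  tσ : t * σ = σ * t
  tρ : t * ρ * t = ρ ^ 2
  fρ : f * ρ = ρ * f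
  fσ : f * σ * f = σ ^ 2
  ft : f * t = t * f
  ρ_CA : ρ ∈ D.CA
  φρ : D.φ ρ = r0
  σN : σ ∈ D.N
  σz : σ * z * σ⁻¹ ≠ z
  t_CA : t ∈ D.CA
  φt : D.φ t * r0 * (D.φ t)⁻¹ = r0 ^ 2
  fE : f ∈ D.E
  fa : f * D.a * f = D.a * z

variable (D : Data z)

namespace Data

theorem eq_one_of_three {x : G} (h3 : x ^ 3 = 1) (h2 : x * x = 1) : x = 1 := by
  rw [pow_succ, pow_two, h2, one_mul] at h3; exact h3

include D

/-- The centraliser of the element of order three in `C(A)`. -/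
theorem cent_three {ρ h : G} (hρ : ρ ∈ D.CA) (hφ : D.φ ρ = r0) (hh : h ∈ D.CA) (hc : h * ρ = ρ * h) :
    ∃ α ∈ D.A, ∃ j : Fin 3, h = α * ρ ^ (j : ℕ) := by
  have hhz := (D.mem_CA.1 hh).1
  have hρz := (D.mem_CA.1 hρ).1
  have hs : D.φ h * r0 = r0 * D.φ h := by rw [← hφ, ← D.φ_mul _ _ hhz hρz, ← D.φ_mul _ _ hρz hhz, hc]
  obtain ⟨j, hj⟩ : ∃ j : Fin 3, D.φ h = r0 ^ (j : ℕ) := by
    rcases r0_facts.2.2.2.2.2.1 _ hs with e | e | e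
    exacts [⟨0, e.trans (pow_zero r0).symm⟩, ⟨1, e.trans (pow_one r0).symm⟩, ⟨2, e⟩]
  refine ⟨h * (ρ ^ (j : ℕ))⁻¹, ?_, j, (inv_mul_cancel_right _ _).symm⟩
  set w := h * (ρ ^ (j : ℕ))⁻¹ with hw
  have hwC : w ∈ D.CA := mul_mem hh (inv_mem (pow_mem hρ _))
  have hwz := (D.mem_CA.1 hwC).1
  have hwE : w ∈ D.E := (D.φ_ker _ hwz).1 (by
    rw [hw, D.φ_mul _ _ hhz (Commute.inv_left (Commute.pow_left hρz _) :), D.φ_inv (Commute.pow_left hρz _ :),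
      D.φ_pow hρz, hφ, hj, mul_inv_cancel])
  have hwρ : ρ * w * ρ⁻¹ = w := by
    rw [hw, ← mul_assoc, ← hc, mul_assoc h, ← (Commute.inv_left (Commute.pow_self ρ (j : ℕ))).eq]
    group
  have hπ : act r0 (D.π w) = D.π w := by rw [← hφ, ← (D.conj ρ hρz w hwE).2, hwρ]
  rcases r0_facts.2.2.2.2.2.2.2.1 _ ((D.E_CA_iff hwE).1 hwC) hπ with e | e
  · rcases D.π_ker w hwE e with e' | e' <;> rw [e']
    exacts [one_mem _, D.z_mem_A]
  · rcases D.eq_or_mul_z hwE D.a_mem (e.trans D.π_a.symm) with e' | e' <;> rw [e']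
    exacts [D.a_mem_A, D.az_mem_A]

variable (hXa : IsX z D.a)

include hXa

theorem exists_frame : Nonempty (Frame D) := by
  classical
  haveI : Fact (Nat.Prime 2) := ⟨Nat.prime_two⟩
  haveI : Fact (Nat.Prime 3) := ⟨Nat.prime_three⟩
  obtain ⟨hr3, hr1, hr12, hr3v, hrsign, -, hrinv, -, -, hr2j⟩ := r0_facts
  -- `ρ`
  obtain ⟨ρ, hρz, hρφ, hρ3⟩ := D.exists_lift_three r0 hr3
  have hρ : ρ ∈ D.CA := D.mem_CA.2 ⟨hρz, D.fix_of_three hρz hρ3 (D.conj_a hρz)⟩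
  have hρN : ρ ∈ D.N := D.C_le_N (mem_C_iff.2 hρz)
  have hρ1 : ρ ≠ 1 := fun e => hr1 (by rw [← hρφ, e, D.φ_one])
  have hρord : orderOf ρ = 3 := orderOf_eq_prime hρ3 hρ1
  -- a Sylow 3-subgroup of the normaliser
  have hpρ : IsPGroup 3 ((zpowers ρ).subgroupOf D.N) := IsPGroup.of_card (n := 1) (by
    rw [Nat.card_congr (subgroupOfEquivOfLe (zpowers_le.2 hρN)).toEquiv, Nat.card_zpowers, hρord, pow_one])
  obtain ⟨R, hR⟩ := hpρ.exists_le_sylow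
  have hR9 : Nat.card R = 9 := by
    rw [R.card_eq_multiplicity, D.card_N hXa, show (2304 : ℕ) = 2 ^ 8 * 3 ^ 2 by norm_num,
      Nat.factorization_mul (by norm_num) (by norm_num), Finsupp.add_apply, Nat.factorization_pow,
      Nat.factorization_pow, Finsupp.smul_apply, Finsupp.smul_apply, Nat.Prime.factorization_self Nat.prime_three,
      Nat.factorization_eq_zero_of_not_dvd (by norm_num : ¬ 3 ∣ 2)]
    norm_num
  have hRc : ∀ x y : D.N, x ∈ (R : Subgroup D.N) → y ∈ (R : Subgroup D.N) → x * y = y * x := fun x y hx hy =>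
    congrArg Subtype.val ((IsPGroup.commutative_of_card_eq_prime_sq
      (G := ↥(R : Subgroup D.N)) (p := 3) (by rw [hR9]; norm_num)) ⟨x, hx⟩ ⟨y, hy⟩)
  obtain ⟨⟨σ₀, hσN⟩, hσR, hσC⟩ : ∃ σ : D.N, σ ∈ (R : Subgroup D.N) ∧ (σ : G) * z ≠ z * σ := by
    by_contra h
    push Not at h
    have h1 : ((R : Subgroup D.N).map D.N.subtype) ≤ centralizer ({z} : Set G) := by
      rintro _ ⟨x, hx, rfl⟩; exact mem_C_iff.2 (h x hx)
    have h2 := Subgroup.card_dvd_of_le h1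
    rw [card_map_of_injective (subtype_injective _), hR9, D.card_C] at h2
    norm_num at h2
  have hρσ : ρ * σ₀ = σ₀ * ρ :=
    congrArg Subtype.val (hRc ⟨ρ, hρN⟩ ⟨σ₀, hσN⟩ (hR (mem_zpowers ρ)) hσR)
  have hσ9 : σ₀ ^ 9 = 1 := by
    have := pow_card_eq_one' (x := (⟨⟨σ₀, hσN⟩, hσR⟩ : ↥(R : Subgroup D.N)))
    rw [hR9] at this
    exact congrArg (fun x : ↥(R : Subgroup D.N) => ((x : D.N) : G)) this
  clear hRc hR hR9 hpρ
  -- the cycle on the four-group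
  have hNA : ∀ {n y}, n ∈ D.N → y ∈ D.A → n * y * n⁻¹ ∈ D.A := fun hn hy => (mem_normalizer_iff.1 hn _).1 hy
  set u := σ₀ * z * σ₀⁻¹ with hu
  set w := σ₀ * u * σ₀⁻¹ with hw
  have huA : u ∈ D.A := hNA hσN D.z_mem_A
  have hwA : w ∈ D.A := hNA hσN huA
  have hu1 : u ≠ 1 := fun e => D.z1 (conj_eq_one_iff.1 e)
  have huz : u ≠ z := fun e => hσC (mul_inv_eq_iff_eq_mul.1 e)
  have hwz : w ≠ z := fun e => by
    have h2 : Commute (σ₀ ^ 2) z := by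
      show σ₀ ^ 2 * z = z * σ₀ ^ 2
      calc σ₀ ^ 2 * z = w * σ₀ ^ 2 := by rw [hw, hu, pow_two]; group
        _ = z * σ₀ ^ 2 := by rw [e]
    have h3 := h2.pow_left 5
    rw [← pow_mul, show 2 * 5 = 9 + 1 from rfl, pow_succ, hσ9, one_mul] at h3
    exact hσC h3
  have hwu : w ≠ u := fun e => huz (by
    rw [hw, hu] at e
    exact mul_left_cancel (mul_right_cancel e))
  have hw1 : w ≠ 1 := fun e => hu1 (conj_eq_one_iff.1 e)
  have hAcases : ∀ y ∈ D.A, y = 1 ∨ y = z ∨ y = u ∨ y = w := by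
    intro y hy
    rcases hy with e | e | e | e
    · exact Or.inl e
    · exact Or.inr (Or.inl e)
    all_goals
      rcases huA with f1 | f1 | f1 | f1
      · exact absurd f1 hu1
      · exact absurd f1 huz
      all_goals
        rcases hwA with f2 | f2 | f2 | f2
        · exact absurd f2 hw1
        · exact absurd f2 hwz
        all_goals
          first
            | exact Or.inr (Or.inr (Or.inl (e.trans f1.symm)))
            | exact Or.inr (Or.inr (Or.inr (e.trans f2.symm)))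
            | exact absurd (f2.trans f1.symm) hwu
  have hwσ : σ₀ * w * σ₀⁻¹ = z := by
    rcases hAcases _ (hNA hσN hwA) with e | e | e | e
    · exact absurd (conj_eq_one_iff.1 e) hw1
    · exact e
    · exact absurd (mul_left_cancel (mul_right_cancel (e.trans hu))) hwz
    · exact absurd (mul_left_cancel (mul_right_cancel (e.trans hw))) hwu
  have huw : u * w = z := by
    rcases hAcases _ (mul_mem huA hwA) with e | e | e | e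
    · exact absurd ((eq_inv_of_mul_eq_one_right e).trans (inv_eq_of_mul_eq_one_right (D.A_sq huA))) hwu
    · exact e
    · exact absurd (mul_eq_left.1 e) hw1
    · exact absurd (mul_eq_right.1 e) hu1
  have hfix : ∀ s, s * z * s⁻¹ = u → s * u * s⁻¹ = w → ∀ y ∈ D.A, s * y = y * s → y = 1 := by
    intro s h1 h2 y hy hc
    have hc' : s * y * s⁻¹ = y := mul_inv_eq_iff_eq_mul.2 hc
    rcases hAcases y hy with e | e | e | e
    · exact e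
    · rw [e, h1] at hc'; exact absurd hc' huz
    · rw [e, h2] at hc'; exact absurd hc' hwu
    · exfalso
      rw [e] at hc'
      have hw' : w = z * u := by
        calc w = u * u * w := by rw [D.A_sq huA, one_mul]
          _ = u * (u * w) := mul_assoc _ _ _
          _ = z * u := by rw [huw, D.A_comm huA D.z_mem_A]
      have h3 : s * w * s⁻¹ = z := by
        calc s * w * s⁻¹ = s * (z * u) * s⁻¹ := by rw [← hw']
          _ = (s * z * s⁻¹) * (s * u * s⁻¹) := by group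
          _ = z := by rw [h1, h2, huw]
      exact hwz (hc'.symm.trans h3)
  -- centralisers of the four-group
  have hCA_iff : ∀ x, x * z = z * x → x * u = u * x → x ∈ D.CA := by
    intro x h1 h2
    refine D.mem_CA.2 ⟨h1, ?_⟩
    rcases hAcases D.a D.a_mem_A with e | e | e | e
    · exact absurd e D.a_ne_one
    · exact absurd e D.a_ne_z
    · rw [e]; exact h2
    · rw [e, show w = u * z by
        calc w = u * u * w := by rw [D.A_sq huA, one_mul]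
          _ = u * z := by rw [mul_assoc, huw]]
      exact (Commute.mul_right (show Commute x u from h2) (show Commute x z from h1)).eq
  have hσ3 : σ₀ ^ 3 ∈ D.CA := by
    refine hCA_iff _ ?_ ?_
    · calc σ₀ ^ 3 * z = σ₀ * w * σ₀⁻¹ * σ₀ ^ 3 := by rw [hw, hu]; simp only [pow_succ, pow_zero]; group
        _ = z * σ₀ ^ 3 := by rw [hwσ]
    · calc σ₀ ^ 3 * u = σ₀ * (σ₀ * w * σ₀⁻¹) * σ₀⁻¹ * σ₀ ^ 3 := by rw [hw]; simp only [pow_succ, pow_zero]; group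
        _ = u * σ₀ ^ 3 := by rw [hwσ]
  obtain ⟨α₀, hα₀, j₀, he₀⟩ := D.cent_three hρ hρφ hσ3 (Commute.pow_left hρσ.symm 3 :)
  have hσρ : σ₀ ^ 3 = ρ ^ (j₀ : ℕ) := by
    have h1 : (σ₀ ^ 3) ^ 3 = α₀ := by
      rw [he₀, (Commute.pow_right (D.CA_comm hρ hα₀).symm (j₀ : ℕ)).mul_pow, ← pow_mul, mul_comm _ 3, pow_mul, hρ3,
        one_pow, mul_one, pow_succ, pow_two, D.A_sq hα₀, one_mul]
    rw [← pow_mul, show 3 * 3 = 9 from rfl, hσ9] at h1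
    rw [he₀, ← h1, one_mul]
  -- an element inverting `ρ`
  let sgn : ↥D.CA →* ℤˣ := (Equiv.Perm.sign).comp
    ((D.φHom).comp (inclusion (inf_le_left : D.CA ≤ centralizer ({z} : Set G))))
  let K1 : Subgroup D.CA := sgn.ker
  haveI hK1n : K1.Normal := sgn.normal_ker
  have hρK : (⟨ρ, hρ⟩ : D.CA) ∈ K1 := by
    show Equiv.Perm.sign (D.φ ρ) = 1
    rw [hρφ, hrsign]
  have hK1 : Nat.card K1 = 192 := by
    have h := Subgroup.card_mul_index K1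
    rw [show K1.index = Nat.card sgn.range from index_ker sgn, D.card_CA] at h
    have hr : Nat.card sgn.range = 2 := by
      rw [MonoidHom.range_eq_top.2 (fun x => ?_), card_top]
      · simp
      obtain ⟨s, hs⟩ := Equiv.Perm.sign_surjective (Fin 4) x
      obtain ⟨h', hh', e⟩ := D.exists_CA s
      exact ⟨⟨h', hh'⟩, by show Equiv.Perm.sign (D.φ h') = x; rw [e, hs]⟩
    rw [hr] at h
    show Nat.card K1 = 192
    omega
  obtain ⟨P3, hP3⟩ := (Invol.isPGroup_zpowers (n := 1) (p := 3) (by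
    rw [← Subgroup.orderOf_coe, ← Subgroup.orderOf_coe]; exact hρord.trans (pow_one 3).symm) :
      IsPGroup 3 (zpowers (⟨⟨ρ, hρ⟩, hρK⟩ : K1))).exists_le_sylow
  have hP3e : (P3 : Subgroup K1) = zpowers (⟨⟨ρ, hρ⟩, hρK⟩ : K1) := by
    refine (Subgroup.eq_of_le_of_card_ge hP3 ?_).symm
    rw [P3.card_eq_multiplicity, hK1, show (192 : ℕ) = 2 ^ 6 * 3 by norm_num,
      Nat.factorization_mul (by norm_num) (by norm_num), Finsupp.add_apply, Nat.factorization_pow,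
      Finsupp.smul_apply, Nat.factorization_eq_zero_of_not_dvd (by norm_num : ¬ 3 ∣ 2),
      Nat.Prime.factorization_self Nat.prime_three, Nat.card_zpowers, ← Subgroup.orderOf_coe,
      ← Subgroup.orderOf_coe, hρord]
    norm_num
  obtain ⟨t₀, ht₀n, ht₀K⟩ : ∃ t₀ : D.CA,
      t₀ ∈ normalizer (((P3 : Subgroup K1).map K1.subtype : Subgroup D.CA) : Set D.CA) ∧ t₀ ∉ K1 := by
    by_contra h
    push Not at h
    have h1 := Sylow.normalizer_sup_eq_top P3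
    rw [sup_eq_right.2 h] at h1
    rw [h1, card_top, D.card_CA] at hK1
    norm_num at hK1
  have ht₀C := (D.mem_CA.1 t₀.2).1
  set t : G := (t₀ : G) ^ 3 with ht
  have htCA : t ∈ D.CA := pow_mem t₀.2 3
  have htz := (D.mem_CA.1 htCA).1
  have ht₀ρ : ∃ k : ℤ, (t₀ : G) * ρ * (t₀ : G)⁻¹ = ρ ^ k := by
    have hm : (⟨ρ, hρ⟩ : D.CA) ∈ (P3 : Subgroup K1).map K1.subtype :=
      ⟨⟨⟨ρ, hρ⟩, hρK⟩, hP3e ▸ mem_zpowers _, rfl⟩
    obtain ⟨y, hy, hye⟩ := (mem_normalizer_iff.1 ht₀n _).1 hm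
    rw [hP3e] at hy
    obtain ⟨k, rfl⟩ := mem_zpowers_iff.1 hy
    refine ⟨k, ?_⟩
    have := congrArg (fun x : D.CA => (x : G)) hye
    simpa using this.symm
  have hpow3 : ∀ k : ℤ, ρ ^ k = 1 ∨ ρ ^ k = ρ ∨ ρ ^ k = ρ ^ 2 := fun k => by
    rw [← zpow_mod_orderOf, hρord]
    rcases (by omega : k % 3 = 0 ∨ k % 3 = 1 ∨ k % 3 = 2) with e | e | e <;>
      rw [show ((3 : ℕ) : ℤ) = 3 from rfl, e]
    · exact Or.inl (zpow_zero ρ)
    · exact Or.inr (Or.inl (zpow_one ρ))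
    · exact Or.inr (Or.inr (zpow_two ρ |>.trans (pow_two ρ).symm))
  have ht₀inv : (t₀ : G) * ρ * (t₀ : G)⁻¹ = ρ ^ 2 := by
    obtain ⟨k, hk⟩ := ht₀ρ
    rcases hpow3 k with e | e | e <;> rw [e] at hk
    · exact absurd (conj_eq_one_iff.1 hk) hρ1
    · exfalso
      refine ht₀K ?_
      show Equiv.Perm.sign (D.φ (t₀ : G)) = 1
      have hc : D.φ (t₀ : G) * r0 = r0 * D.φ (t₀ : G) := by
        rw [← hρφ, ← D.φ_mul _ _ ht₀C hρz, ← D.φ_mul _ _ hρz ht₀C, mul_inv_eq_iff_eq_mul.1 hk]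
      rcases r0_facts.2.2.2.2.2.1 _ hc with e' | e' | e' <;> simp [e', hrsign]
    · exact hk
  have htinv : t * ρ * t⁻¹ = ρ ^ 2 := by
    have h2 : ∀ n : ℕ, (t₀ : G) * ρ ^ n * (t₀ : G)⁻¹ = ρ ^ (2 * n) := fun n => by
      rw [← conj_pow, ht₀inv, ← pow_mul]
    rw [ht, show (t₀ : G) ^ 3 * ρ * ((t₀ : G) ^ 3)⁻¹ =
        (t₀ : G) * ((t₀ : G) * ((t₀ : G) * ρ * (t₀ : G)⁻¹) * (t₀ : G)⁻¹) * (t₀ : G)⁻¹ by
      simp only [pow_succ, pow_zero]; group, ht₀inv, h2, h2, show 2 * (2 * 2) = 3 * 2 + 2 from rfl, pow_add,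
      pow_mul, hρ3, one_pow, one_mul]
  have hφt : D.φ t * r0 * (D.φ t)⁻¹ = r0 ^ 2 := by
    rw [← hρφ, ← D.φ_conj htz hρz, htinv, D.φ_pow hρz]
  obtain ⟨htsq, -, -⟩ := hrinv _ hφt
  have htρ' : ∀ n : ℕ, t * ρ ^ n * t⁻¹ = ρ ^ (2 * n) := fun n => by rw [← conj_pow, htinv, ← pow_mul]
  have hρ4 : ∀ n : ℕ, ρ ^ (2 * (2 * n)) = ρ ^ n := fun n => by
    rw [← mul_assoc, show 2 * 2 * n = 3 * n + n by omega, pow_add, pow_mul, hρ3, one_pow, one_mul]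
  -- the action of `t` on `σ₀`
  have htA : ∀ y ∈ D.A, t * y = y * t := fun y hy => D.CA_comm htCA hy
  have hd : σ₀⁻¹ * (t * σ₀ * t⁻¹) ∈ D.CA := by
    have key : ∀ y ∈ D.A, σ₀⁻¹ * (t * σ₀ * t⁻¹) * y = y * (σ₀⁻¹ * (t * σ₀ * t⁻¹)) := fun y hy => by
      have hy' : σ₀ * y * σ₀⁻¹ ∈ D.A := hNA hσN hy
      calc σ₀⁻¹ * (t * σ₀ * t⁻¹) * y = σ₀⁻¹ * (t * σ₀ * (t⁻¹ * y)) := by group
        _ = σ₀⁻¹ * (t * σ₀ * (y * t⁻¹)) := by rw [(Commute.inv_left (htA y hy)).eq]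
        _ = σ₀⁻¹ * (t * (σ₀ * y * σ₀⁻¹)) * σ₀ * t⁻¹ := by group
        _ = σ₀⁻¹ * ((σ₀ * y * σ₀⁻¹) * t) * σ₀ * t⁻¹ := by rw [htA _ hy']
        _ = y * (σ₀⁻¹ * (t * σ₀ * t⁻¹)) := by group
    exact D.mem_CA.2 ⟨key z D.z_mem_A, key D.a D.a_mem_A⟩
  have htσρ : t * σ₀ * t⁻¹ * ρ = ρ * (t * σ₀ * t⁻¹) := by
    have h1 : t * ρ ^ 2 * t⁻¹ = ρ := by
      rw [htρ', show 2 * 2 = 2 * (2 * 1) from rfl, hρ4, pow_one]
    calc t * σ₀ * t⁻¹ * ρ = t * σ₀ * t⁻¹ * (t * ρ ^ 2 * t⁻¹) := by rw [h1]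
      _ = t * (σ₀ * ρ ^ 2) * t⁻¹ := by group
      _ = t * (ρ ^ 2 * σ₀) * t⁻¹ := by rw [(Commute.pow_right hρσ.symm 2 :).eq]
      _ = t * ρ ^ 2 * t⁻¹ * (t * σ₀ * t⁻¹) := by group
      _ = ρ * (t * σ₀ * t⁻¹) := by rw [h1]
  obtain ⟨α, hα, j, hej⟩ := D.cent_three hρ hρφ hd (by
    calc σ₀⁻¹ * (t * σ₀ * t⁻¹) * ρ = σ₀⁻¹ * (t * σ₀ * t⁻¹ * ρ) := mul_assoc _ _ _
      _ = σ₀⁻¹ * ρ * (t * σ₀ * t⁻¹) := by rw [htσρ, ← mul_assoc σ₀⁻¹ ρ]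
      _ = ρ * σ₀⁻¹ * (t * σ₀ * t⁻¹) := by rw [(Commute.inv_left hρσ.symm :).eq]
      _ = ρ * (σ₀⁻¹ * (t * σ₀ * t⁻¹)) := mul_assoc _ _ _)
  have htσ : t * σ₀ * t⁻¹ = σ₀ * α * ρ ^ (j : ℕ) := by rw [mul_assoc σ₀, ← hej, mul_inv_cancel_left]
  have hαρ : ∀ n : ℕ, Commute (ρ ^ n) α := fun n => Commute.pow_left (D.CA_comm hρ hα) n
  have hnorm : ∀ y ∈ D.A, (σ₀ * y) ^ 3 = σ₀ ^ 3 := by
    intro y hy
    have e : (σ₀ * y) ^ 3 = (σ₀ * y * σ₀⁻¹) * (σ₀ * (σ₀ * y * σ₀⁻¹) * σ₀⁻¹) * (σ₀ ^ 3 * y * (σ₀ ^ 3)⁻¹) * σ₀ ^ 3 := by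
      simp only [pow_succ, pow_zero]; group
    rw [e, D.CA_comm hσ3 hy, mul_inv_cancel_right]
    have hwu' : w * u = z := by rw [D.A_comm hwA huA]; exact huw
    have hzw : w * z = u := by
      calc w * z = w * (w * u) := by rw [hwu']
        _ = u := by rw [← mul_assoc, D.A_sq hwA, one_mul]
    have hzu : z * u = w := by
      calc z * u = w * u * u := by rw [hwu']
        _ = w := by rw [mul_assoc, D.A_sq huA, mul_one]
    rcases hAcases y hy with f1 | f1 | f1 | f1 <;> rw [f1]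
    · simp
    · rw [← hu, ← hw, huw, D.zz, one_mul]
    · rw [← hw, hwσ, hzw, D.A_sq huA, one_mul]
    · rw [hwσ, ← hu, hzu, D.A_sq hwA, one_mul]
  have hσρc : ∀ n : ℕ, Commute (σ₀) (ρ ^ n) := fun n => (Commute.pow_right hρσ.symm n :)
  have hσ3' : σ₀ ^ 3 = 1 := by
    have h1 : (t * σ₀ * t⁻¹) ^ 3 = ρ ^ (2 * (j₀ : ℕ)) := by rw [conj_pow, hσρ, htρ']
    have h2 : (t * σ₀ * t⁻¹) ^ 3 = σ₀ ^ 3 := by
      rw [htσ, ((hσρc _).mul_left (hαρ _).symm).mul_pow, hnorm α hα, ← pow_mul, mul_comm _ 3, pow_mul, hρ3,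
        one_pow, mul_one]
    rw [h1, hσρ] at h2
    rw [hσρ, ← mul_left_cancel (a := ρ ^ (j₀ : ℕ)) (b := ρ ^ (j₀ : ℕ)) (c := 1)
      (by rw [mul_one, ← pow_add, ← two_mul, h2])]
  -- `σ`
  set σ := σ₀ * ρ ^ (2 * (j : ℕ)) with hσdef
  have hσ : σ ∈ D.N := mul_mem hσN (pow_mem hρN _)
  have hσconj : ∀ y ∈ D.A, σ * y * σ⁻¹ = σ₀ * y * σ₀⁻¹ := fun y hy => by
    calc σ * y * σ⁻¹ = σ₀ * (ρ ^ (2 * (j : ℕ)) * y) * (ρ ^ (2 * (j : ℕ)))⁻¹ * σ₀⁻¹ := by rw [hσdef]; group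
      _ = σ₀ * y * σ₀⁻¹ := by rw [D.CA_comm (pow_mem hρ _) hy]; group
  have hσz : σ * z * σ⁻¹ = u := hσconj z D.z_mem_A
  have hσu : σ * u * σ⁻¹ = w := hσconj u huA
  have hσ3f : σ ^ 3 = 1 := by
    rw [hσdef, (hσρc _).mul_pow, hσ3', one_mul, ← pow_mul, mul_comm _ 3, pow_mul, hρ3, one_pow]
  have hρσ' : ρ * σ = σ * ρ := ((show Commute ρ σ₀ from hρσ).mul_right (Commute.pow_right rfl _) :)
  have htσ' : t * σ * t⁻¹ = σ * α := by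
    rw [hσdef, show t * (σ₀ * ρ ^ (2 * (j : ℕ))) * t⁻¹ = (t * σ₀ * t⁻¹) * (t * ρ ^ (2 * (j : ℕ)) * t⁻¹) by group,
      htσ, htρ', mul_assoc (σ₀ * α), hρ4, ← pow_add, ← two_mul, mul_assoc σ₀ (ρ ^ _), (hαρ _).eq, mul_assoc]
  have hσfix : ∀ y ∈ D.A, σ * y = y * σ → y = 1 := hfix σ hσz hσu
  have hsurj : ∀ s ∈ D.N, (∀ y ∈ D.A, s * y = y * s → y = 1) → ∀ γ ∈ D.A, ∃ β ∈ D.A, s * β * s⁻¹ * β = γ := by
    intro s hs hsf γ hγ
    let F : D.A → D.A := fun β => ⟨s * β * s⁻¹ * β, mul_mem (hNA hs β.2) β.2⟩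
    have hF : Function.Injective F := by
      rintro ⟨x, hx⟩ ⟨y, hy⟩ e
      have e' : s * x * s⁻¹ * x = s * y * s⁻¹ * y := congrArg Subtype.val e
      refine Subtype.ext ?_
      have h1 : s * (x * y) * s⁻¹ = x * y := by
        calc s * (x * y) * s⁻¹ = (s * x * s⁻¹) * (s * y * s⁻¹) := by group
          _ = (s * x * s⁻¹ * x) * x * (s * y * s⁻¹) := by rw [mul_assoc _ x x, D.A_sq hx, mul_one]
          _ = s * y * s⁻¹ * y * x * (s * y * s⁻¹) := by rw [e']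
          _ = (s * y * s⁻¹) * (s * y * s⁻¹) * (y * x) := by
              rw [mul_assoc (s * y * s⁻¹) y x, mul_assoc, D.A_comm (mul_mem hy hx) (hNA hs hy), ← mul_assoc]
          _ = x * y := by rw [D.A_sq (hNA hs hy), one_mul, D.A_comm hy hx]
      exact (eq_inv_of_mul_eq_one_left (hsf _ (mul_mem hx hy) (mul_inv_eq_iff_eq_mul.1 h1))).trans
        (inv_eq_of_mul_eq_one_left (D.A_sq hy))
    obtain ⟨⟨β, hβ⟩, hb⟩ := (Finite.injective_iff_surjective.1 hF) ⟨γ, hγ⟩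
    exact ⟨β, hβ, congrArg Subtype.val hb⟩
  have hσ' : σ⁻¹ ∈ D.N := inv_mem hσ
  obtain ⟨β, hβ, hβe⟩ := hsurj σ⁻¹ hσ' (fun y hy h => hσfix y hy (Commute.inv_left_iff.1 h :)) α hα
  rw [inv_inv] at hβe
  set t1 := t * β with ht1
  have ht1CA : t1 ∈ D.CA := mul_mem htCA (D.A_le_CA hβ)
  have ht1σ : t1 * σ = σ * t1 := by
    refine mul_inv_eq_iff_eq_mul.1 ?_
    calc t1 * σ * t1⁻¹ = t * σ * (σ⁻¹ * β * σ * β⁻¹) * t⁻¹ := by rw [ht1]; group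
      _ = t * σ * (t⁻¹ * α) := by
          rw [show β⁻¹ = β from inv_eq_of_mul_eq_one_right (D.A_sq hβ), hβe, mul_assoc _ α,
            ← (Commute.inv_left (htA α hα)).eq]
      _ = t * σ * t⁻¹ * α := by group
      _ = σ := by rw [htσ', mul_assoc, D.A_sq hα, mul_one]
  have ht1ρ : t1 * ρ * t1⁻¹ = ρ ^ 2 := by
    calc t1 * ρ * t1⁻¹ = t * (β * ρ) * β⁻¹ * t⁻¹ := by rw [ht1]; group
      _ = t * ρ * t⁻¹ := by rw [← D.CA_comm hρ hβ]; group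
      _ = ρ ^ 2 := htinv
  have hφt1 : D.φ t1 = D.φ t := by
    rw [ht1, D.φ_mul _ _ htz (D.mem_CA.1 (D.A_le_CA hβ)).1, D.φ_of_mem (D.A_le_E hβ), mul_one]
  have ht1z := (D.mem_CA.1 ht1CA).1
  have ht1sq : t1 * t1 = 1 := by
    have hcρ : t1 * t1 * ρ = ρ * (t1 * t1) := by
      refine mul_inv_eq_iff_eq_mul.1 ?_
      calc t1 * t1 * ρ * (t1 * t1)⁻¹ = t1 * (t1 * ρ * t1⁻¹) * t1⁻¹ := by group
        _ = ρ := by
            rw [ht1ρ, ← conj_pow, ht1ρ, ← pow_mul, show 2 * 2 = 3 + 1 from rfl, pow_succ, hρ3, one_mul]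
    obtain ⟨α', hα', j', hj'⟩ := D.cent_three hρ hρφ (mul_mem ht1CA ht1CA) hcρ
    have h1 : D.φ (t1 * t1) = 1 := by rw [D.φ_mul _ _ ht1z ht1z, hφt1, htsq]
    rw [hj', D.φ_mul _ _ (D.mem_CA.1 (D.A_le_CA hα')).1 (Commute.pow_left hρz _ :), D.φ_of_mem (D.A_le_E hα'),
      one_mul, D.φ_pow hρz, hρφ] at h1
    have hj0 : j' = 0 := hr2j j' (by rw [mul_comm, pow_mul, h1, one_pow])
    rw [hj0, Fin.val_zero, pow_zero, mul_one] at hj'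
    rw [hj']
    exact hσfix α' hα' (by rw [← hj', ← mul_assoc, ← ht1σ, mul_assoc, ← ht1σ, ← mul_assoc])
  have ht1i : t1⁻¹ = t1 := inv_eq_of_mul_eq_one_right ht1sq
  -- the involution of `E`
  set f₀ := D.lift (eV 3) with hf₀
  have hf₀E := D.lift_mem (eV 3)
  have hf₀z := D.cz _ hf₀E
  obtain ⟨hρf, hρfπ⟩ := D.conj ρ hρz f₀ hf₀E
  have hρf₀ : ρ * f₀ = f₀ * ρ := D.fix_of_three hρz hρ3 (D.eq_or_mul_z hρf hf₀E (by
    rw [hρfπ, hρφ, D.π_lift, hr3v]))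
  have hf₀a : f₀ * D.a * f₀⁻¹ = D.a * z := D.conj_eq_of_bil hf₀E D.a_mem (by
    rw [D.π_lift, D.π_a, bil_comm]; exact (aV_ne.2 3).2.2)
  have hf₀N : f₀ ∈ D.N := D.C_le_N (D.E_le hf₀E)
  have hf₀u : f₀ * u * f₀⁻¹ = w := by
    rcases hAcases _ (hNA hf₀N huA) with e | e | e | e
    · exact absurd (conj_eq_one_iff.1 e) hu1
    · exfalso
      refine huz (mul_left_cancel (a := f₀) (mul_right_cancel (b := f₀⁻¹) ?_))
      rw [e, hf₀z, mul_inv_cancel_right]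
    · exfalso
      have hfu : f₀ * u = u * f₀ := mul_inv_eq_iff_eq_mul.1 e
      have hm : f₀ ∈ D.CA := hCA_iff f₀ hf₀z hfu
      rw [(D.mem_CA.1 hm).2, mul_inv_cancel_right] at hf₀a
      exact D.z1 (left_eq_mul.1 hf₀a)
    · exact e
  have hf₀2 : f₀ * f₀ = 1 := by rw [D.sq _ hf₀E, D.π_lift, qf_facts.2.2.1, pw_zero]
  have hf₀w : f₀ * w * f₀⁻¹ = u := by
    rw [← hf₀u, show f₀ * (f₀ * u * f₀⁻¹) * f₀⁻¹ = f₀ * f₀ * u * (f₀ * f₀)⁻¹ by group, hf₀2]; simp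
  have hd2 : σ * (f₀ * σ * f₀⁻¹) ∈ D.CA := by
    have hf₀z' : f₀ * z * f₀⁻¹ = z := by rw [hf₀z, mul_inv_cancel_right]
    refine hCA_iff _ (mul_inv_eq_iff_eq_mul.1 ?_) (mul_inv_eq_iff_eq_mul.1 ?_)
    · calc σ * (f₀ * σ * f₀⁻¹) * z * (σ * (f₀ * σ * f₀⁻¹))⁻¹ =
          σ * (f₀ * (σ * (f₀⁻¹ * z * f₀) * σ⁻¹) * f₀⁻¹) * σ⁻¹ := by group
        _ = z := by
            rw [mul_assoc f₀⁻¹, ← hf₀z, inv_mul_cancel_left, hσz, hf₀u, hσconj w hwA, hwσ]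
    · calc σ * (f₀ * σ * f₀⁻¹) * u * (σ * (f₀ * σ * f₀⁻¹))⁻¹ =
          σ * (f₀ * (σ * (f₀⁻¹ * u * f₀) * σ⁻¹) * f₀⁻¹) * σ⁻¹ := by group
        _ = u := by
            rw [show f₀⁻¹ * u * f₀ = w by
              rw [inv_eq_of_mul_eq_one_right hf₀2]; rw [inv_eq_of_mul_eq_one_right hf₀2] at hf₀u; exact hf₀u,
              hσconj w hwA, hwσ, hf₀z', hσz]
  have hfσρ : f₀ * σ * f₀⁻¹ * ρ = ρ * (f₀ * σ * f₀⁻¹) :=
    ((Commute.mul_left (Commute.mul_left (show Commute f₀ ρ from hρf₀.symm) (show Commute σ ρ from hρσ'.symm))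
      (Commute.inv_left hρf₀.symm)) :)
  obtain ⟨α2, hα2, j2, hej2⟩ := D.cent_three hρ hρφ hd2 (by
    rw [mul_assoc, hfσρ, ← mul_assoc, ← hρσ', mul_assoc])
  have hfσ : f₀ * σ * f₀⁻¹ = σ⁻¹ * α2 * ρ ^ (j2 : ℕ) := by rw [mul_assoc σ⁻¹, ← hej2, inv_mul_cancel_left]
  -- commutators of `f₀` and `t1`
  have hcomA : ∀ g, g ∈ D.E → g * z = z * g → g * ρ = ρ * g → g * t1 * g⁻¹ * t1⁻¹ ∈ D.A := by
    intro g hg hgz hgρ
    have hgt : g * t1 * g⁻¹ ∈ D.CA := D.conj_CA (D.C_le_N (mem_C_iff.2 hgz)) ht1CA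
    have hc : g * t1 * g⁻¹ * ρ * (g * t1 * g⁻¹)⁻¹ = ρ ^ 2 := by
      calc g * t1 * g⁻¹ * ρ * (g * t1 * g⁻¹)⁻¹ = g * (t1 * (g⁻¹ * ρ * g) * t1⁻¹) * g⁻¹ := by group
        _ = g * ρ ^ 2 * g⁻¹ := by
            rw [mul_assoc g⁻¹, ← hgρ, inv_mul_cancel_left, ht1ρ]
        _ = ρ ^ 2 := by rw [(Commute.pow_right hgρ 2 :).eq, mul_inv_cancel_right]
    have hcm : g * t1 * g⁻¹ * t1⁻¹ * ρ = ρ * (g * t1 * g⁻¹ * t1⁻¹) := by
      refine mul_inv_eq_iff_eq_mul.1 ?_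
      calc g * t1 * g⁻¹ * t1⁻¹ * ρ * (g * t1 * g⁻¹ * t1⁻¹)⁻¹ =
          g * t1 * g⁻¹ * (t1⁻¹ * ρ * t1) * (g * t1 * g⁻¹)⁻¹ := by group
        _ = g * t1 * g⁻¹ * ρ ^ 2 * (g * t1 * g⁻¹)⁻¹ := by
            rw [show t1⁻¹ * ρ * t1 = ρ ^ 2 by rw [← ht1ρ, ht1i]]
        _ = ρ := by rw [← conj_pow, hc, ← pow_mul, show 2 * 2 = 3 + 1 from rfl, pow_succ, hρ3, one_mul]
    have hmem : g * t1 * g⁻¹ * t1⁻¹ ∈ D.E := by
      rw [show g * t1 * g⁻¹ * t1⁻¹ = g * (t1 * g⁻¹ * t1⁻¹) by group]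
      exact mul_mem hg (D.E_conj ht1z (inv_mem hg))
    obtain ⟨α', hα', j', hj'⟩ := D.cent_three hρ hρφ (mul_mem hgt (inv_mem ht1CA)) hcm
    have h1 := D.φ_of_mem hmem
    rw [hj', D.φ_mul _ _ (D.mem_CA.1 (D.A_le_CA hα')).1 (Commute.pow_left hρz _ :), D.φ_of_mem (D.A_le_E hα'),
      one_mul, D.φ_pow hρz, hρφ] at h1
    have hj0 : j' = 0 := hr2j j' (by rw [mul_comm, pow_mul, h1, one_pow])
    rw [hj', hj0, Fin.val_zero, pow_zero, mul_one]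
    exact hα'
  have hj2 : j2 = 0 := by
    obtain ⟨e₂, he₂⟩ : ∃ e, e = f₀ * t1 * f₀⁻¹ * t1⁻¹ := ⟨_, rfl⟩
    have he₂A : e₂ ∈ D.A := he₂ ▸ hcomA f₀ hf₀E hf₀z hρf₀.symm
    have h1 : e₂ * t1 * (f₀ * σ * f₀⁻¹) = f₀ * σ * f₀⁻¹ * (e₂ * t1) := by
      rw [show e₂ * t1 = f₀ * t1 * f₀⁻¹ by rw [he₂]; group]
      exact comm_conj ht1σ
    rw [hfσ] at h1
    have ht1α : t1 * α2 = α2 * t1 := D.CA_comm ht1CA hα2
    have h2 : t1 * (σ⁻¹ * α2 * ρ ^ (j2 : ℕ)) = σ⁻¹ * α2 * ρ ^ (2 * (j2 : ℕ)) * t1 := by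
      refine mul_inv_eq_iff_eq_mul.1 ?_
      rw [show t1 * (σ⁻¹ * α2 * ρ ^ (j2 : ℕ)) * t1⁻¹ = (t1 * σ⁻¹) * (α2) * t1⁻¹ * (t1 * ρ ^ (j2 : ℕ) * t1⁻¹) by group,
        (Commute.inv_right ht1σ).eq, mul_assoc σ⁻¹, ht1α, ← conj_pow, ht1ρ, ← pow_mul]
      group
    rw [mul_assoc e₂, h2, ← mul_assoc] at h1
    rw [← mul_assoc (σ⁻¹ * α2 * ρ ^ (j2 : ℕ))] at h1
    have h3 := mul_right_cancel h1
    have he' : σ⁻¹ * (σ * e₂ * σ⁻¹) = e₂ * σ⁻¹ := by group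
    have h4 : σ * e₂ * σ⁻¹ * α2 * ρ ^ (2 * (j2 : ℕ)) = α2 * e₂ * ρ ^ (j2 : ℕ) := by
      refine mul_left_cancel (a := σ⁻¹) ?_
      rw [← mul_assoc, ← mul_assoc, he', mul_assoc e₂, mul_assoc e₂, h3, mul_assoc (σ⁻¹ * α2), D.CA_comm (pow_mem hρ _) he₂A]
      simp only [mul_assoc]
    have hA1 : σ * e₂ * σ⁻¹ * α2 ∈ D.A := mul_mem (hNA hσ he₂A) hα2
    have hA2 : α2 * e₂ ∈ D.A := mul_mem hα2 he₂A
    have hp : ∀ n : ℕ, ρ ^ n * z = z * ρ ^ n := fun n => (Commute.pow_left hρz n :)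
    have h5 := congrArg D.φ h4
    rw [D.φ_mul _ _ (D.cz _ (D.A_le_E hA1)) (hp _), D.φ_of_mem (D.A_le_E hA1), one_mul,
      D.φ_mul _ _ (D.cz _ (D.A_le_E hA2)) (hp _), D.φ_of_mem (D.A_le_E hA2), one_mul, D.φ_pow hρz, D.φ_pow hρz,
      hρφ, two_mul, pow_add] at h5
    exact hr2j j2 (by rw [two_mul, pow_add, mul_eq_left.1 h5, one_mul])
  rw [hj2, Fin.val_zero, pow_zero, mul_one] at hfσ
  obtain ⟨β2, hβ2, hβ2e⟩ := hsurj σ hσ hσfix α2 hα2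
  set f := β2 * f₀ with hf
  have hfE : f ∈ D.E := mul_mem (D.A_le_E hβ2) hf₀E
  have hfz := D.cz f hfE
  have hfρ : f * ρ = ρ * f :=
    ((show Commute β2 ρ from (D.CA_comm hρ hβ2).symm).mul_left (show Commute f₀ ρ from hρf₀.symm) :)
  have hfσ' : f * σ * f⁻¹ = σ⁻¹ := by
    rw [hf, show β2 * f₀ * σ * (β2 * f₀)⁻¹ = β2 * (f₀ * σ * f₀⁻¹) * β2⁻¹ by group, hfσ,
      inv_eq_of_mul_eq_one_right (D.A_sq hβ2)]
    calc β2 * (σ⁻¹ * α2) * β2 = σ⁻¹ * (σ * β2 * σ⁻¹ * (α2 * β2)) := by group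
      _ = σ⁻¹ * (σ * β2 * σ⁻¹ * β2 * α2) := by rw [D.A_comm hα2 hβ2]; group
      _ = σ⁻¹ := by rw [hβ2e, D.A_sq hα2, mul_one]
  have hf2 : f * f = 1 := by
    rcases D.sq_E hfE with e | e
    · exact e
    · exfalso
      refine hσfix z D.z_mem_A ?_ |> D.z1
      rw [← e]
      refine (mul_inv_eq_iff_eq_mul.1 ?_).symm
      calc f * f * σ * (f * f)⁻¹ = f * (f * σ * f⁻¹) * f⁻¹ := by group
        _ = σ := by rw [hfσ', show f * σ⁻¹ * f⁻¹ = (f * σ * f⁻¹)⁻¹ by group, hfσ', inv_inv]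
  have hfi : f⁻¹ = f := inv_eq_of_mul_eq_one_right hf2
  have hσinv : σ⁻¹ = σ ^ 2 := inv_eq_of_mul_eq_one_right (by rw [← pow_succ', hσ3f])
  have hft : f * t1 = t1 * f := by
    have hm := hcomA f hfE hfz hfρ
    have hh : f * t1 * f⁻¹ * t1⁻¹ = 1 := by
      refine hσfix _ hm ?_
      have h1 : f * t1 * f⁻¹ * σ⁻¹ = σ⁻¹ * (f * t1 * f⁻¹) := by
        rw [← hfσ']; exact comm_conj ht1σ
      exact (Commute.mul_right (Commute.inv_left_iff.1 (show Commute σ⁻¹ (f * t1 * f⁻¹) from h1.symm))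
        (Commute.inv_right (show Commute σ t1 from ht1σ.symm)) :)
    rw [mul_inv_eq_one, mul_inv_eq_iff_eq_mul] at hh
    exact hh
  exact ⟨{
    ρ := ρ
    σ := σ
    t := t1
    f := f
    ρ3 := hρ3
    σ3 := hσ3f
    t2 := ht1sq
    f2 := hf2
    ρσ := hρσ'
    tσ := ht1σ
    tρ := by rw [← ht1ρ, ht1i]
    fρ := hfρ
    fσ := by rw [← hσinv, ← hfσ', hfi]
    ft := hft
    ρ_CA := hρ
    φρ := hρφ
    σN := hσ
    σz := by rw [hσz]; exact huz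
    t_CA := ht1CA
    φt := by rw [hφt1]; exact hφt
    fE := hfE
    fa := by
      nth_rewrite 2 [← hfi]
      rw [hf, show β2 * f₀ * D.a * (β2 * f₀)⁻¹ = β2 * (f₀ * D.a * f₀⁻¹) * β2⁻¹ by group, hf₀a,
        D.A_comm hβ2 D.az_mem_A, mul_inv_cancel_right] }⟩

end Data

end Cfsg.Agent.Fus.AutL34
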