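import Mathlib
import Cfsg.Agent.Lib.Fus.AutLThreeFour.Frame
import Cfsg.Agent.Lib.Grp.CoprimeAbelian

/-!
Coordinates on the normal subgroup of order 64: `T = A C₁ C₂`.
-/

set_option autoImplicit false
set_option linter.unusedSectionVars false
set_option linter.style.haveILetI false

namespace Cfsg.Agent.Fus.AutL34

open Subgroup Cfsg.Agent.Spor.ExtraOut

theorem even_sing : ∀ v : Vec, bil aV v = 0 → qf v = 0 → v = 0 ∨ v = aV := by decide +kernel

theorem odd_moved : ∀ v : Vec, bil aV v = 1 → ∀ s, InV s → act s v = v → s = 1 := by decide +kernel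

theorem even_moved : ∀ s, InV s → ∀ v : Vec, bil aV v = 0 → act s v + v = 0 ∨ act s v + v = aV := by
  decide +kernel

theorem two_even : ∃ v w : Vec, bil aV v = 0 ∧ bil aV w = 0 ∧ bil v w = 1 := by decide +kernel

theorem inV_orbit : ∀ s, InV s → s ≠ 1 → ∀ u, InV u → u ≠ 1 →
    u = s ∨ u = r0 * s * r0⁻¹ ∨ u = r0⁻¹ * s * r0 := by decide +kernel

theorem r0_twice : ∀ s : Equiv.Perm (Fin 4), r0 * (r0 * s * r0⁻¹) * r0⁻¹ = r0⁻¹ * s * r0 ∧
    r0⁻¹ * (r0⁻¹ * s * r0) * r0 = r0 * s * r0⁻¹ := by decide +kernel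

theorem inV_two : ∃ s u, InV s ∧ InV u ∧ s ≠ 1 ∧ u ≠ 1 ∧ s ≠ u := by decide +kernel

variable {G : Type*} [Group G] [Finite G] {z : G} {D : Data z} (F : Frame D)

namespace Frame

/-- The element of order three fixing the first summand. -/
def r1 : G := F.σ * F.ρ

/-- The element of order three fixing the second summand. -/
def r2 : G := F.σ * F.ρ ^ 2

theorem ρ_N : F.ρ ∈ D.N := D.C_le_N (F.ρ_CA.1)

theorem t_N : F.t ∈ D.N := D.C_le_N (F.t_CA.1)

theorem f_N : F.f ∈ D.N := D.C_le_N (D.E_le F.fE)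

theorem t_inv : F.t⁻¹ = F.t := inv_eq_of_mul_eq_one_right F.t2

theorem f_inv : F.f⁻¹ = F.f := inv_eq_of_mul_eq_one_right F.f2

theorem ρ_inv : F.ρ⁻¹ = F.ρ ^ 2 := inv_eq_of_mul_eq_one_right (by rw [← pow_succ', F.ρ3])

theorem ρz : F.ρ * z = z * F.ρ := (D.mem_CA.1 F.ρ_CA).1

theorem φρ_ne : F.ρ ≠ 1 := fun e => r0_facts.2.1 (by rw [← F.φρ, e, D.φ_one])

theorem conj_A {x : G} (hx : x ∈ D.N) {y : G} (hy : y ∈ D.A) : x * y * x⁻¹ ∈ D.A :=
  (mem_normalizer_iff.1 hx _).1 hy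

/-- `σ` fixes no non-trivial element of the four-group. -/
theorem σ_fix {y : G} (hy : y ∈ D.A) (h : F.σ * y = y * F.σ) : y = 1 := by
  have hy' : F.σ * y * F.σ⁻¹ = y := mul_inv_eq_iff_eq_mul.2 h
  set u := F.σ * z * F.σ⁻¹ with hu
  have huA : u ∈ D.A := conj_A F.σN D.z_mem_A
  have swap : ∀ v, u = v → F.σ * v * F.σ⁻¹ = z → False := by
    intro v hv hvz
    have h2 : Commute (F.σ ^ 2) z := by
      show F.σ ^ 2 * z = z * F.σ ^ 2
      calc F.σ ^ 2 * z = F.σ * u * F.σ⁻¹ * F.σ ^ 2 := by rw [hu, pow_two]; group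
        _ = z * F.σ ^ 2 := by rw [hv, hvz]
    have h4 := h2.pow_left 2
    rw [← pow_mul, show 2 * 2 = 3 + 1 from rfl, pow_succ, F.σ3, one_mul] at h4
    exact F.σz (mul_inv_eq_iff_eq_mul.2 h4)
  rcases hy with e | e | e | e
  · exact e
  · rw [e] at hy'; exact absurd hy' F.σz
  · exfalso
    rw [e] at hy'
    rcases huA with f | f | f | f
    · exact D.z1 (conj_eq_one_iff.1 f)
    · exact F.σz f
    · exact D.a_ne_z (mul_left_cancel (mul_right_cancel (hy'.trans f.symm)))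
    · refine swap _ f ?_
      rw [show F.σ * (D.a * z) * F.σ⁻¹ = (F.σ * D.a * F.σ⁻¹) * u by rw [hu]; group, hy', f, ← mul_assoc, D.aa,
        one_mul]
  · exfalso
    rw [e] at hy'
    rcases huA with f | f | f | f
    · exact D.z1 (conj_eq_one_iff.1 f)
    · exact F.σz f
    · refine swap _ f ?_
      have : F.σ * D.a * F.σ⁻¹ = (F.σ * (D.a * z) * F.σ⁻¹) * u⁻¹ := by rw [hu]; group
      rw [this, hy', f, inv_eq_of_mul_eq_one_right D.aa, mul_assoc, ← D.a_mem_C, ← mul_assoc, D.aa, one_mul]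
    · exact D.a_ne_one (mul_eq_right.1 (mul_left_cancel (mul_right_cancel (hy'.trans f.symm))))

theorem ρ_A {y : G} (hy : y ∈ D.A) : F.ρ * y = y * F.ρ := D.CA_comm F.ρ_CA hy

theorem σρ_fix {y : G} (hy : y ∈ D.A) (j : ℕ) (h : F.σ * F.ρ ^ j * y = y * (F.σ * F.ρ ^ j)) : y = 1 := by
  refine F.σ_fix hy ?_
  have h' : F.σ * y * F.ρ ^ j = y * F.σ * F.ρ ^ j := by
    rw [mul_assoc F.σ, ← (Commute.pow_left (F.ρ_A hy) j :).eq, ← mul_assoc, h, mul_assoc]
  exact mul_right_cancel h'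

/-- Elements of `T ∩ E` fixed by an element acting fixed-point-freely on `A` are trivial. -/
theorem cap_E {x r : G} (hx : x ∈ D.T) (hxE : x ∈ D.E) (hr : r * x = x * r)
    (hfix : ∀ y ∈ D.A, r * y = y * r → y = 1) : x = 1 := by
  have hb := (D.E_CA_iff hxE).1 hx.1
  have hxx : x * x = 1 := by
    rcases D.sq_E hxE with e | e
    · exact e
    · exact absurd (hfix z D.z_mem_A (e ▸ (Commute.mul_right hr hr :))) D.z1
  have hq : qf (D.π x) = 0 := by
    rcases two_cases (qf (D.π x)) with e | e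
    · exact e
    · exact absurd ((D.sq_eq_z hxE e).symm.trans hxx) D.z1
  refine hfix x ?_ hr
  rcases even_sing _ hb hq with e | e
  · rcases D.π_ker x hxE e with e' | e' <;> rw [e']
    exacts [one_mem _, D.z_mem_A]
  · rcases D.aV_cases hxE e with e' | e' <;> rw [e']
    exacts [D.a_mem_A, D.az_mem_A]

theorem T_E {x : G} (hx : x ∈ D.T) (h : D.φ x = 1) : x ∈ D.E := (D.φ_ker x (D.mem_CA.1 hx.1).1).1 h

theorem tz {x : G} (hx : x ∈ D.T) : x * z = z * x := (D.mem_CA.1 hx.1).1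

theorem bil_f : bil aV (D.π F.f) = 1 := by
  rcases two_cases (bil aV (D.π F.f)) with e | e
  · exfalso
    have hc := D.comm_of_bil F.fE D.a_mem (by rw [D.π_a, bil_comm, e])
    have := F.fa
    rw [hc, mul_assoc, F.f2, mul_one] at this
    exact D.z1 (left_eq_mul.1 this)
  · exact e

/-- `σ` acts fixed-point-freely on `T`. -/
theorem cent_σ {x : G} (hx : x ∈ D.T) (h : F.σ * x = x * F.σ) : x = 1 := by
  have hfx : F.f * x * F.f * x⁻¹ ∈ D.E := by
    rw [show F.f * x * F.f * x⁻¹ = F.f * (x * F.f * x⁻¹) by group]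
    exact mul_mem F.fE (D.E_conj (tz hx) F.fE)
  have hfT : F.f * x * F.f * x⁻¹ ∈ D.T := by
    have := D.conj_T F.f_N hx
    rw [F.f_inv] at this
    exact mul_mem this (inv_mem hx)
  have hσf : Commute F.σ (F.f * x * F.f) := by
    have h2 : Commute (F.σ ^ 2) (F.f * x * F.f) := by
      have := comm_conj (g := F.f) h
      rwa [F.f_inv, F.fσ] at this
    have := h2.pow_left 2
    rwa [← pow_mul, show 2 * 2 = 3 + 1 from rfl, pow_succ, F.σ3, one_mul] at this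
  have h1 : F.f * x * F.f * x⁻¹ = 1 :=
    cap_E hfT hfx (hσf.mul_right (Commute.inv_right h) :) fun y hy hc => F.σ_fix hy hc
  rw [mul_inv_eq_one] at h1
  have hxf : x * F.f * x⁻¹ = F.f := by
    calc x * F.f * x⁻¹ = (F.f * x * F.f) * F.f * x⁻¹ := by rw [h1]
      _ = F.f * x * x⁻¹ := by rw [mul_assoc (F.f * x), F.f2, mul_one]
      _ = F.f := mul_inv_cancel_right _ _
  have hs := (D.conj x (tz hx) _ F.fE).2
  rw [hxf] at hs
  exact cap_E hx (T_E hx (odd_moved _ F.bil_f _ hx.2 hs.symm)) h fun y hy hc => F.σ_fix hy hc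

theorem cent_ρ {x : G} (hx : x ∈ D.T) (h : F.ρ * x = x * F.ρ) : x ∈ D.A := by
  obtain ⟨α, hα, j, rfl⟩ := D.cent_three F.ρ_CA F.φρ hx.1 h.symm
  have h2 := hx.2
  rw [D.φ_mul _ _ (D.cz _ (D.A_le_E hα)) (Commute.pow_left F.ρz _ :), D.φ_of_mem (D.A_le_E hα), one_mul,
    D.φ_pow F.ρz, F.φρ] at h2
  have hj : ∀ j : Fin 3, InV (r0 ^ (j : ℕ)) → j = 0 := by decide +kernel
  rw [hj j h2, Fin.val_zero, pow_zero, mul_one]
  exact hα

/-- The first summand. -/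
def C1 : Subgroup G := D.T ⊓ centralizer ({F.r1} : Set G)

/-- The second summand. -/
def C2 : Subgroup G := D.T ⊓ centralizer ({F.r2} : Set G)

theorem r1_fix {y : G} (hy : y ∈ D.A) (h : F.r1 * y = y * F.r1) : y = 1 :=
  F.σρ_fix hy 1 (by rw [pow_one]; exact h)

theorem r2_fix {y : G} (hy : y ∈ D.A) (h : F.r2 * y = y * F.r2) : y = 1 := F.σρ_fix hy 2 h

theorem mem_C1 {x : G} : x ∈ F.C1 ↔ x ∈ D.T ∧ F.r1 * x = x * F.r1 := by
  rw [C1, mem_inf, mem_centralizer_singleton_iff]; exact and_congr_right fun _ => eq_comm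

theorem mem_C2 {x : G} : x ∈ F.C2 ↔ x ∈ D.T ∧ F.r2 * x = x * F.r2 := by
  rw [C2, mem_inf, mem_centralizer_singleton_iff]; exact and_congr_right fun _ => eq_comm

theorem t_r1 : F.t * F.r1 * F.t = F.r2 := by
  calc F.t * (F.σ * F.ρ) * F.t = F.t * F.σ * (F.t * F.t) * F.ρ * F.t := by rw [F.t2]; group
    _ = F.σ * (F.t * F.t) * (F.t * F.ρ * F.t) := by rw [F.tσ]; group
    _ = F.r2 := by rw [F.t2, mul_one, F.tρ]; rfl

theorem t_conj (x : G) : F.t * (F.t * x * F.t) * F.t = x := by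
  calc F.t * (F.t * x * F.t) * F.t = (F.t * F.t) * x * (F.t * F.t) := by group
    _ = x := by rw [F.t2, one_mul, mul_one]

theorem t_T {x : G} (hx : x ∈ D.T) : F.t * x * F.t ∈ D.T := by
  have := D.conj_T F.t_N hx; rwa [F.t_inv] at this

theorem t_C1 {x : G} (hx : x ∈ F.C1) : F.t * x * F.t ∈ F.C2 := by
  obtain ⟨h1, h2⟩ := F.mem_C1.1 hx
  refine F.mem_C2.2 ⟨F.t_T h1, ?_⟩
  have := comm_conj (g := F.t) h2
  rwa [F.t_inv, F.t_r1] at this

theorem t_C2 {x : G} (hx : x ∈ F.C2) : F.t * x * F.t ∈ F.C1 := by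
  obtain ⟨h1, h2⟩ := F.mem_C2.1 hx
  refine F.mem_C1.2 ⟨F.t_T h1, ?_⟩
  have := comm_conj (g := F.t) h2
  rwa [F.t_inv, ← F.t_r1, F.t_conj] at this

theorem φ_inj1 {x y : G} (hx : x ∈ F.C1) (hy : y ∈ F.C1) (h : D.φ x = D.φ y) : x = y := by
  obtain ⟨hm, hc⟩ := F.mem_C1.1 (F.C1.mul_mem (inv_mem hx) hy)
  refine inv_mul_eq_one.1 (cap_E hm (T_E hm ?_) hc fun w hw hcw => F.r1_fix hw hcw)
  rw [D.φ_mul _ _ (tz (inv_mem (F.mem_C1.1 hx).1)) (tz (F.mem_C1.1 hy).1), D.φ_inv (tz (F.mem_C1.1 hx).1), h,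
    inv_mul_cancel]

theorem φ_inj2 {x y : G} (hx : x ∈ F.C2) (hy : y ∈ F.C2) (h : D.φ x = D.φ y) : x = y := by
  obtain ⟨hm, hc⟩ := F.mem_C2.1 (F.C2.mul_mem (inv_mem hx) hy)
  refine inv_mul_eq_one.1 (cap_E hm (T_E hm ?_) hc fun w hw hcw => F.r2_fix hw hcw)
  rw [D.φ_mul _ _ (tz (inv_mem (F.mem_C2.1 hx).1)) (tz (F.mem_C2.1 hy).1), D.φ_inv (tz (F.mem_C2.1 hx).1), h,
    inv_mul_cancel]

theorem φ_conj_ρ {x : G} (hx : x ∈ D.T) : D.φ (F.ρ * x * F.ρ⁻¹) = r0 * D.φ x * r0⁻¹ := by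
  rw [D.φ_conj F.ρz (tz hx), F.φρ]

theorem r1_ρ : F.r1 * F.ρ = F.ρ * F.r1 := by rw [r1, ← mul_assoc, F.ρσ]

theorem r2_ρ : F.r2 * F.ρ = F.ρ * F.r2 := by
  rw [r2, mul_assoc, ← pow_succ, pow_succ', ← mul_assoc, ← mul_assoc, F.ρσ]

theorem ρ_C1 {x : G} (hx : x ∈ F.C1) : F.ρ * x * F.ρ⁻¹ ∈ F.C1 := by
  obtain ⟨h1, h2⟩ := F.mem_C1.1 hx
  exact F.mem_C1.2 ⟨D.conj_T F.ρ_N h1,
    ((Commute.mul_right (Commute.mul_right F.r1_ρ h2) (Commute.inv_right F.r1_ρ)) :)⟩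

theorem ρ_C2 {x : G} (hx : x ∈ F.C2) : F.ρ * x * F.ρ⁻¹ ∈ F.C2 := by
  obtain ⟨h1, h2⟩ := F.mem_C2.1 hx
  exact F.mem_C2.2 ⟨D.conj_T F.ρ_N h1,
    ((Commute.mul_right (Commute.mul_right F.r2_ρ h2) (Commute.inv_right F.r2_ρ)) :)⟩

theorem exists_C1 {s : Equiv.Perm (Fin 4)} (hs : InV s) : ∃ x ∈ F.C1, D.φ x = s := by
  classical
  by_cases hs1 : s = 1
  · exact ⟨1, one_mem _, by rw [D.φ_one, hs1]⟩
  obtain ⟨x, hx, hx1⟩ : ∃ x ∈ F.C1, x ≠ 1 := by
    by_contra hno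
    push Not at hno
    have hno2 : ∀ x ∈ F.C2, x = 1 := fun x hx => by
      rw [← F.t_conj x, hno _ (F.t_C2 hx), mul_one, F.t2]
    set R : Subgroup G := closure ({F.σ, F.ρ} : Set G) with hR
    haveI hRc : IsMulCommutative R := Subgroup.isMulCommutative_closure fun u hu v hv => by
      simp only [Set.mem_insert_iff, Set.mem_singleton_iff] at hu hv
      rcases hu with e | e <;> rcases hv with e' | e' <;> rw [e, e']
      exacts [F.ρσ.symm, F.ρσ]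
    have hmem : ∀ r ∈ R, ∃ i j : ℕ, i < 3 ∧ j < 3 ∧ r = F.σ ^ i * F.ρ ^ j := by
      intro r hr
      have hp : ∀ {g : G}, g ^ 3 = 1 → ∀ n : ℕ, g ^ (n % 3) = g ^ n := fun hg n =>
        (pow_eq_pow_mod n hg).symm
      induction hr using closure_induction with
      | mem u hu =>
        simp only [Set.mem_insert_iff, Set.mem_singleton_iff] at hu
        rcases hu with e | e
        · exact ⟨1, 0, by omega, by omega, by rw [e]; simp⟩
        · exact ⟨0, 1, by omega, by omega, by rw [e]; simp⟩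
      | one => exact ⟨0, 0, by omega, by omega, by simp⟩
      | mul u v _ _ hu hv =>
        obtain ⟨i, j, -, -, eu⟩ := hu
        obtain ⟨k, l, -, -, ev⟩ := hv
        refine ⟨(i + k) % 3, (j + l) % 3, Nat.mod_lt _ (by omega), Nat.mod_lt _ (by omega), ?_⟩
        rw [hp F.σ3, hp F.ρ3, eu, ev, pow_add, pow_add, mul_assoc, ← mul_assoc (F.ρ ^ j),
          (Commute.pow_pow F.ρσ j k :).eq]
        simp only [mul_assoc]
      | inv u _ hu =>
        obtain ⟨i, j, hi, hj, eu⟩ := hu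
        refine ⟨(3 - i) % 3, (3 - j) % 3, Nat.mod_lt _ (by omega), Nat.mod_lt _ (by omega), ?_⟩
        rw [hp F.σ3, hp F.ρ3, eu]
        refine inv_eq_of_mul_eq_one_right ?_
        rw [mul_assoc (F.σ ^ i), ← mul_assoc (F.ρ ^ j), (Commute.pow_pow F.ρσ j (3 - i) :).eq,
          mul_assoc (F.σ ^ (3 - i)), ← pow_add, show j + (3 - j) = 3 by omega, F.ρ3, mul_one, ← pow_add,
          show i + (3 - i) = 3 by omega, F.σ3]
    have hnc : ¬ IsCyclic R := by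
      intro hcyc
      have hσR : F.σ ∈ R := subset_closure (Or.inl rfl)
      have hρR : F.ρ ∈ R := subset_closure (Or.inr rfl)
      haveI : Fintype R := Fintype.ofFinite _
      have h3 := IsCyclic.card_pow_eq_one_le (α := R) (n := 3) (by norm_num)
      let S : Finset R := {1, ⟨F.ρ, hρR⟩, ⟨F.ρ, hρR⟩ ^ 2, ⟨F.σ, hσR⟩}
      have hS : S ⊆ Finset.univ.filter fun a : R => a ^ 3 = 1 := by
        intro a ha
        simp only [S, Finset.mem_insert, Finset.mem_singleton] at ha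
        simp only [Finset.mem_filter, Finset.mem_univ, true_and]
        rcases ha with e | e | e | e <;> rw [e] <;> apply Subtype.ext <;> push_cast
        · exact one_pow 3
        · exact F.ρ3
        · rw [← pow_mul, mul_comm, pow_mul, F.ρ3, one_pow]
        · exact F.σ3
      have hρ1 := F.φρ_ne
      have hρ2 : F.ρ ^ 2 ≠ 1 := fun e => hρ1 (by rw [← inv_inv F.ρ, F.ρ_inv, e, inv_one])
      have hρ12 : F.ρ ≠ F.ρ ^ 2 := fun e => hρ1 (by rw [pow_two] at e; exact left_eq_mul.1 e)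
      have hσc : ∀ n : ℕ, F.σ ≠ F.ρ ^ n := fun n e => F.σz (by
        rw [e]; exact mul_inv_eq_iff_eq_mul.2 (Commute.pow_left F.ρz n :))
      have hσ1 : F.σ ≠ 1 := fun e => hσc 0 (by rw [e, pow_zero])
      have hc : S.card = 4 := by
        simp only [S]
        rw [Finset.card_insert_of_notMem, Finset.card_insert_of_notMem, Finset.card_pair]
        · intro e; exact hσc 2 (congrArg Subtype.val e).symm
        · simp only [Finset.mem_insert, Finset.mem_singleton, not_or]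
          exact ⟨fun e => hρ12 (congrArg Subtype.val e), fun e => hσc 1 (by rw [pow_one]; exact (congrArg Subtype.val e).symm)⟩
        · simp only [Finset.mem_insert, Finset.mem_singleton, not_or]
          exact ⟨fun e => hρ1 (congrArg Subtype.val e).symm, fun e => hρ2 (congrArg Subtype.val e).symm,
            fun e => hσ1 (congrArg Subtype.val e).symm⟩
      have := (Finset.card_le_card hS).trans h3
      omega
    have hRN : R ≤ normalizer (D.T : Set G) := by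
      refine (closure_le _).2 ?_
      intro u hu
      have huN : u ∈ D.N := by
        simp only [Set.mem_insert_iff, Set.mem_singleton_iff] at hu
        rcases hu with e | e <;> rw [e]
        exacts [F.σN, F.ρ_N]
      refine mem_normalizer_iff.2 fun y => ⟨fun hy => D.conj_T huN hy, fun hy => ?_⟩
      have := D.conj_T (inv_mem huN) hy
      rwa [inv_inv, show u⁻¹ * (u * y * u⁻¹) * u = y by group] at this
    haveI : Fact (Nat.Prime 2) := ⟨Nat.prime_two⟩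
    have hcop : (Nat.card R).Coprime (Nat.card D.T) := by
      rw [D.card_T, show (64 : ℕ) = 2 ^ 6 from rfl]
      refine Nat.Coprime.pow_right _ ((Nat.prime_two.coprime_iff_not_dvd).2 fun h2 => ?_).symm
      obtain ⟨⟨r, hr⟩, hro⟩ := exists_prime_orderOf_dvd_card' 2 h2
      obtain ⟨i, j, -, -, e⟩ := hmem r hr
      rw [Subgroup.orderOf_mk] at hro
      have h3 : r ^ 3 = 1 := by
        rw [e, (Commute.pow_pow F.ρσ.symm i j :).mul_pow, ← pow_mul, ← pow_mul, mul_comm i, mul_comm j, pow_mul,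
          pow_mul, F.σ3, F.ρ3, one_pow, one_pow, one_mul]
      have := orderOf_dvd_of_pow_eq_one h3
      rw [hro] at this
      norm_num at this
    have hgen := Grp.generated_by_centralizers R D.T hnc hRN hcop
    have hle : D.T ≤ D.A := by
      rw [← hgen]
      refine iSup₂_le fun r hr => ?_
      rintro x ⟨hx, hxr⟩
      obtain ⟨hrR, hr1⟩ := hr
      have hxr' : Commute r x := (mem_centralizer_singleton_iff.1 hxr).symm
      obtain ⟨i, j, hi, hj, e⟩ := hmem r hrR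
      have hcase : ∀ k, Commute r x → r ^ 2 = k → Commute k x := fun k h e' => e' ▸ h.pow_left 2
      interval_cases i <;> interval_cases j
      all_goals try simp only [pow_zero, one_mul, mul_one, pow_one] at e
      · exact absurd e hr1
      · exact F.cent_ρ hx (e ▸ hxr')
      · refine F.cent_ρ hx (hcase _ hxr' ?_)
        rw [e, ← pow_mul, show 2 * 2 = 3 + 1 from rfl, pow_succ, F.ρ3, one_mul]
      · rw [F.cent_σ hx (e ▸ hxr')]; exact one_mem _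
      · rw [hno x (F.mem_C1.2 ⟨hx, (show r = F.r1 from e) ▸ hxr'⟩)]; exact one_mem _
      · rw [hno2 x (F.mem_C2.2 ⟨hx, (show r = F.r2 from e) ▸ hxr'⟩)]; exact one_mem _
      · rw [F.cent_σ hx (hcase _ hxr' ?_)]; exact one_mem _
        rw [e, ← pow_mul, show 2 * 2 = 3 + 1 from rfl, pow_succ, F.σ3, one_mul]
      · rw [hno2 x (F.mem_C2.2 ⟨hx, hcase _ hxr' ?_⟩)]; exact one_mem _
        rw [e, (Commute.pow_left F.ρσ.symm 2 :).mul_pow, ← pow_mul, show 2 * 2 = 3 + 1 from rfl, pow_succ, F.σ3,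
          one_mul]; rfl
      · rw [hno x (F.mem_C1.2 ⟨hx, hcase _ hxr' ?_⟩)]; exact one_mem _
        rw [e, (Commute.pow_pow F.ρσ.symm 2 2 :).mul_pow, ← pow_mul, ← pow_mul, show 2 * 2 = 3 + 1 from rfl,
          pow_succ F.σ 3, pow_succ F.ρ 3, F.σ3, F.ρ3, one_mul, one_mul]; rfl
    have := Subgroup.card_le_of_le hle
    rw [D.card_T] at this
    have h4 : Nat.card D.A ≤ 4 := by
      rw [← SetLike.coe_sort_coe, Nat.card_coe_set_eq]
      refine (Set.ncard_le_ncard (t := {1, z, D.a, D.a * z}) (fun y hy => by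
        rcases hy with e | e | e | e <;> simp [e])).trans ?_
      refine (Set.ncard_insert_le _ _).trans ?_
      refine Nat.succ_le_succ ((Set.ncard_insert_le _ _).trans (Nat.succ_le_succ ((Set.ncard_insert_le _ _).trans ?_)))
      simp
    omega
  have hx2 := (F.mem_C1.1 hx).1
  have hne : D.φ x ≠ 1 := fun e => hx1 (F.φ_inj1 hx (one_mem _) (by rw [e, D.φ_one]))
  rcases inV_orbit _ hx2.2 hne s hs hs1 with e | e | e
  · exact ⟨x, hx, e.symm⟩
  · exact ⟨_, F.ρ_C1 hx, by rw [F.φ_conj_ρ hx2, e]⟩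
  · refine ⟨_, F.ρ_C1 (F.ρ_C1 hx), ?_⟩
    rw [F.φ_conj_ρ (D.conj_T F.ρ_N hx2), F.φ_conj_ρ hx2, e, (r0_twice _).1]

theorem exists_C2 {s : Equiv.Perm (Fin 4)} (hs : InV s) : ∃ x ∈ F.C2, D.φ x = s := by
  have htz := (D.mem_CA.1 F.t_CA).1
  obtain ⟨x, hx, hxs⟩ := F.exists_C1 (inV_facts.2.2.2.1 _ hs (D.φ F.t))
  refine ⟨_, F.t_C1 hx, ?_⟩
  nth_rewrite 2 [← F.t_inv]
  rw [D.φ_conj htz (tz (F.mem_C1.1 hx).1), hxs]
  have : D.φ F.t * D.φ F.t = 1 := by rw [← D.φ_mul _ _ htz htz, F.t2, D.φ_one]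
  rw [inv_eq_of_mul_eq_one_right this]
  calc D.φ F.t * (D.φ F.t * s * D.φ F.t) * D.φ F.t = (D.φ F.t * D.φ F.t) * s * (D.φ F.t * D.φ F.t) := by group
    _ = s := by rw [this, one_mul, mul_one]

theorem C1_sq {x : G} (hx : x ∈ F.C1) : x * x = 1 :=
  F.φ_inj1 (mul_mem hx hx) (one_mem _) (by
    rw [D.φ_mul _ _ (tz (F.mem_C1.1 hx).1) (tz (F.mem_C1.1 hx).1), D.φ_one, inV_facts.2.2.2.2 _ (F.mem_C1.1 hx).1.2])

theorem C2_sq {x : G} (hx : x ∈ F.C2) : x * x = 1 :=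
  F.φ_inj2 (mul_mem hx hx) (one_mem _) (by
    rw [D.φ_mul _ _ (tz (F.mem_C2.1 hx).1) (tz (F.mem_C2.1 hx).1), D.φ_one, inV_facts.2.2.2.2 _ (F.mem_C2.1 hx).1.2])

/-- Non-trivial elements of the two summands do not agree modulo `A`. -/
theorem C1_C2_A {x y α : G} (hx : x ∈ F.C1) (hy : y ∈ F.C2) (hα : α ∈ D.A) (h : x = α * y) :
    x = 1 ∧ y = 1 ∧ α = 1 := by
  have hxT := (F.mem_C1.1 hx).1
  have hyT := (F.mem_C2.1 hy).1
  -- `x` commutes with `ρ` modulo `A`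
  obtain ⟨hm, hc⟩ := F.mem_C1.1 hx
  obtain ⟨hm', hc'⟩ := F.mem_C2.1 hy
  set w := F.r1 * y * F.r1⁻¹ with hw
  have hw2 : w ∈ F.C2 := by
    refine F.mem_C2.2 ⟨D.conj_T (mul_mem F.σN F.ρ_N) hm', ?_⟩
    have hr : Commute F.r2 F.r1 :=
      Commute.mul_right ((Commute.refl F.σ).mul_left (Commute.pow_left F.ρσ 2))
        (show Commute F.r2 F.ρ from F.r2_ρ)
    exact ((Commute.mul_right (Commute.mul_right hr hc') (Commute.inv_right hr)) :)
  have hwy : w = y := by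
    refine F.φ_inj2 hw2 hy ?_
    have h1 : w = (F.r1 * α * F.r1⁻¹) * (α * y) := by
      have : F.r1 * x * F.r1⁻¹ = x := mul_inv_eq_iff_eq_mul.2 hc
      calc w = F.r1 * (α * α * y) * F.r1⁻¹ := by rw [D.A_sq hα, one_mul]
        _ = (F.r1 * α * F.r1⁻¹) * (F.r1 * x * F.r1⁻¹) := by rw [h]; group
        _ = _ := by rw [this, h]
    have hA' : F.r1 * α * F.r1⁻¹ * α ∈ D.A := mul_mem (conj_A (mul_mem F.σN F.ρ_N) hα) hα
    rw [h1, ← mul_assoc, D.φ_mul _ _ (D.cz _ (D.A_le_E hA')) (tz hm'), D.φ_of_mem (D.A_le_E hA'), one_mul]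
  have hyr : F.r1 * y = y * F.r1 := mul_inv_eq_iff_eq_mul.1 hwy
  have hy1 : y = 1 := by
    have h2 : Commute (F.r1⁻¹ * F.r2) y := (Commute.inv_left hyr).mul_left hc'
    have e : F.r1⁻¹ * F.r2 = F.ρ := by
      rw [r1, r2, mul_inv_rev, mul_assoc, inv_mul_cancel_left, pow_two, inv_mul_cancel_left]
    rw [e] at h2
    exact F.r2_fix (F.cent_ρ hyT h2) hc'
  rw [hy1, mul_one] at h
  have hx1 : x = 1 := F.r1_fix (h ▸ hα) hc
  exact ⟨hx1, hy1, by rw [← h, hx1]⟩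

/-- Commutators of the two summands lie in `A`. -/
theorem bracket_mem {x y : G} (hx : x ∈ F.C1) (hy : y ∈ F.C2) : x * y * x * y ∈ D.A := by
  have hxT := (F.mem_C1.1 hx).1
  have hyT := (F.mem_C2.1 hy).1
  obtain ⟨c, hc, hcs⟩ := F.exists_C1 hyT.2
  have hcT := (F.mem_C1.1 hc).1
  set u := c * y with hu
  have huT : u ∈ D.T := mul_mem hcT hyT
  have huE : u ∈ D.E := T_E huT (by
    rw [hu, D.φ_mul _ _ (tz hcT) (tz hyT), hcs, inV_facts.2.2.2.2 _ hyT.2])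
  have hycu : y = c * u := by rw [hu, ← mul_assoc, F.C1_sq hc, one_mul]
  have hcomm : x * c = c * x := by
    have h := F.C1_sq (mul_mem hx hc)
    calc x * c = (x * c)⁻¹ := (inv_eq_of_mul_eq_one_left h).symm
      _ = c * x := by rw [mul_inv_rev, inv_eq_of_mul_eq_one_left (F.C1_sq hx), inv_eq_of_mul_eq_one_left (F.C1_sq hc)]
  have hxi : x⁻¹ = x := inv_eq_of_mul_eq_one_right (F.C1_sq hx)
  have hyi : y⁻¹ = y := inv_eq_of_mul_eq_one_right (F.C2_sq hy)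
  have e : x * y * x * y = c * (x * u * x⁻¹ * u⁻¹) * c⁻¹ := by
    calc x * y * x * y = x * y * x⁻¹ * y⁻¹ := by rw [hxi, hyi]
      _ = x * c * u * x⁻¹ * (u⁻¹ * c⁻¹) := by rw [hycu]; group
      _ = c * (x * u * x⁻¹ * u⁻¹) * c⁻¹ := by rw [hcomm]; group
  rw [e]
  refine conj_A (D.C_le_N (Data.mem_C_iff.2 (tz hcT))) ?_
  obtain ⟨hxu, hπ⟩ := D.conj x (tz hxT) u huE
  have hmem : x * u * x⁻¹ * u⁻¹ ∈ D.E := mul_mem hxu (inv_mem huE)
  rcases even_moved _ hxT.2 (D.π u) ((D.E_CA_iff huE).1 huT.1) with e' | e'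
  all_goals rw [← hπ, ← D.π_inv huE, ← D.π_mul _ hxu _ (inv_mem huE)] at e'
  · rcases D.π_ker _ hmem e' with e'' | e'' <;> rw [e'']
    exacts [one_mem _, D.z_mem_A]
  · rcases D.aV_cases hmem e' with e'' | e'' <;> rw [e'']
    exacts [D.a_mem_A, D.az_mem_A]

/-- Every element of `T` is a product `α c₁ c₂`. -/
theorem exists_coord {x : G} (hx : x ∈ D.T) :
    ∃ α ∈ D.A, ∃ c1 ∈ F.C1, ∃ c2 ∈ F.C2, x = α * c1 * c2 := by
  classical
  let S := {s : Equiv.Perm (Fin 4) // InV s}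
  choose g1 hg1 hg1s using fun s : S => F.exists_C1 s.2
  choose g2 hg2 hg2s using fun s : S => F.exists_C2 s.2
  let Φ : D.A × S × S → D.T := fun p => ⟨p.1 * g1 p.2.1 * g2 p.2.2,
    mul_mem (mul_mem (D.A_le_T p.1.2) (F.mem_C1.1 (hg1 _)).1) (F.mem_C2.1 (hg2 _)).1⟩
  have hinj : Function.Injective Φ := by
    rintro ⟨α, s, u⟩ ⟨α', s', u'⟩ e
    have e' : (α : G) * g1 s * g2 u = α' * g1 s' * g2 u' := congrArg Subtype.val e
    have hc : g1 s' * ((g1 s)⁻¹) = g1 s' * g1 s := by rw [inv_eq_of_mul_eq_one_right (F.C1_sq (hg1 s))]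
    have h1 : ((g1 s')⁻¹ * (α'⁻¹ * α) * g1 s') * ((g1 s')⁻¹ * g1 s) = g2 u' * (g2 u)⁻¹ := by
      calc ((g1 s')⁻¹ * ((α' : G)⁻¹ * α) * g1 s') * ((g1 s')⁻¹ * g1 s)
          = ((α' : G) * g1 s')⁻¹ * ((α : G) * g1 s * g2 u) * (g2 u)⁻¹ := by group
        _ = g2 u' * (g2 u)⁻¹ := by rw [e']; group
    set α'' := (g1 s')⁻¹ * ((α' : G)⁻¹ * α) * g1 s' with hα''
    have hα''A : α'' ∈ D.A := by
      have := conj_A (D.C_le_N (Data.mem_C_iff.2 (tz (F.mem_C1.1 (hg1 s')).1)) |> inv_mem) (mul_mem (inv_mem α'.2) α.2)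
      rwa [inv_inv] at this
    have hm2 : g2 u' * (g2 u)⁻¹ ∈ F.C2 := mul_mem (hg2 _) (inv_mem (hg2 _))
    have hm1 : (g1 s')⁻¹ * g1 s ∈ F.C1 := mul_mem (inv_mem (hg1 _)) (hg1 _)
    obtain ⟨f1, f2, f3⟩ := F.C1_C2_A hm1 hm2 (inv_mem hα''A) (by rw [← h1, hα'']; push_cast; group)
    have es : s = s' := Subtype.ext (by rw [← hg1s s, ← hg1s s', inv_mul_eq_one.1 f1])
    have eu : u = u' := Subtype.ext (by rw [← hg2s u, ← hg2s u', mul_inv_eq_one.1 f2])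
    have eα : α = α' := Subtype.ext (by
      have : (α' : G)⁻¹ * α = 1 := by
        rw [inv_eq_one, hα''] at f3
        have h5 := congrArg (fun y => g1 s' * y * (g1 s')⁻¹) f3
        simpa [mul_assoc] using h5
      exact (inv_mul_eq_one.1 this).symm)
    rw [es, eu, eα]
  have hA4 : Nat.card D.A = 4 := by
    rw [← SetLike.coe_sort_coe, Nat.card_coe_set_eq]
    refine Set.ncard_eq_succ (n := 3) |>.2 ⟨1, {z, D.a, D.a * z}, ?_, ?_, ?_⟩
    · simp [D.z1.symm, D.a_ne_one.symm, D.az_ne_one.symm]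
    · ext y; exact ⟨fun h => h, fun h => h⟩
    · exact Set.ncard_eq_three.2 ⟨z, D.a, D.a * z, D.a_ne_z.symm,
        fun e => D.a_ne_one (mul_eq_right.1 e.symm), fun e => D.z1 (left_eq_mul.1 e), rfl⟩
  have hS : Nat.card S = 4 := by
    rw [Nat.card_eq_fintype_card, Fintype.card_subtype]; exact card_inV
  have hsurj : Function.Surjective Φ := by
    refine (hinj.bijective_of_nat_card_le ?_).2
    rw [Nat.card_prod, Nat.card_prod, hA4, hS, D.card_T]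
  obtain ⟨⟨α, s, u⟩, he⟩ := hsurj ⟨x, hx⟩
  exact ⟨α, α.2, _, hg1 s, _, hg2 u, (congrArg Subtype.val he).symm⟩

theorem bracket_comm {x y : G} (hx : x ∈ F.C1) (hy : y ∈ F.C2) (h : x * y * x * y = 1) : x * y = y * x := by
  calc x * y = (x * y)⁻¹ := (inv_eq_of_mul_eq_one_left (by rw [← mul_assoc]; exact h)).symm
    _ = y * x := by rw [mul_inv_rev, inv_eq_of_mul_eq_one_left (F.C1_sq hx), inv_eq_of_mul_eq_one_left (F.C2_sq hy)]

/-- The bracket is non-degenerate. -/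
theorem bracket_ne {x y : G} (hx : x ∈ F.C1) (hy : y ∈ F.C2) (hx1 : x ≠ 1) (hy1 : y ≠ 1) :
    x * y * x * y ≠ 1 := by
  intro h
  have hxy : Commute x y := F.bracket_comm hx hy h
  obtain ⟨hxT, hxc⟩ := F.mem_C1.1 hx
  obtain ⟨hyT, hyc⟩ := F.mem_C2.1 hy
  have hys : D.φ y ≠ 1 := fun e => hy1 (F.φ_inj2 hy (one_mem _) (by rw [e, D.φ_one]))
  have hxs : D.φ x ≠ 1 := fun e => hx1 (F.φ_inj1 hx (one_mem _) (by rw [e, D.φ_one]))
  -- `r₁` moves `y` as `ρ⁻¹` does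
  have hr : ∀ w ∈ F.C2, F.r1 * w * F.r1⁻¹ = F.ρ⁻¹ * w * F.ρ := by
    intro w hw
    have e : F.r1 = F.ρ⁻¹ * F.r2 := by
      rw [r1, r2, ← mul_assoc, ← (Commute.inv_right F.ρσ.symm :).eq, mul_assoc, pow_two, inv_mul_cancel_left]
    rw [e, show F.ρ⁻¹ * F.r2 * w * (F.ρ⁻¹ * F.r2)⁻¹ = F.ρ⁻¹ * (F.r2 * w * F.r2⁻¹) * F.ρ by group,
      mul_inv_eq_iff_eq_mul.2 (F.mem_C2.1 hw).2]
  have hstep : ∀ w ∈ F.C2, Commute x w → Commute x (F.ρ⁻¹ * w * F.ρ) := by
    intro w hw hc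
    have := comm_conj (g := F.r1) hc
    rwa [mul_inv_eq_iff_eq_mul.2 hxc, hr w hw] at this
  have hinv2 : ∀ w ∈ F.C2, F.ρ⁻¹ * w * F.ρ ∈ F.C2 := fun w hw => by
    have h2 := F.ρ_C2 (F.ρ_C2 hw)
    rwa [show F.ρ * (F.ρ * w * F.ρ⁻¹) * F.ρ⁻¹ = F.ρ ^ 2 * w * (F.ρ ^ 2)⁻¹ by simp only [pow_two, mul_inv_rev, mul_assoc], ← F.ρ_inv, inv_inv] at h2
  have hall : ∀ w ∈ F.C2, x * w = w * x := by
    intro w hw
    by_cases hw1 : w = 1
    · rw [hw1, mul_one, one_mul]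
    have hws : D.φ w ≠ 1 := fun e => hw1 (F.φ_inj2 hw (one_mem _) (by rw [e, D.φ_one]))
    have hm1 := hinv2 y hy
    have hφi : ∀ v ∈ F.C2, D.φ (F.ρ⁻¹ * v * F.ρ) = r0⁻¹ * D.φ v * r0 := fun v hv => by
      have := D.φ_conj (h := F.ρ⁻¹) (Commute.inv_left F.ρz :) (tz (F.mem_C2.1 hv).1)
      rwa [inv_inv, D.φ_inv F.ρz, F.φρ, inv_inv] at this
    rcases inV_orbit _ hyT.2 hys _ (F.mem_C2.1 hw).1.2 hws with e | e | e
    · rw [F.φ_inj2 hw hy e]; exact hxy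
    · rw [F.φ_inj2 hw (hinv2 _ hm1) (by
        rw [hφi _ hm1, hφi _ hy, e, (r0_twice _).2])]
      exact hstep _ hm1 (hstep _ hy hxy)
    · rw [F.φ_inj2 hw hm1 (by rw [hφi _ hy, e])]
      exact hstep _ hy hxy
  -- then everything commutes
  have hρc : ∀ v, (∀ w ∈ F.C2, v * w = w * v) → ∀ w ∈ F.C2, F.ρ * v * F.ρ⁻¹ * w = w * (F.ρ * v * F.ρ⁻¹) := by
    intro v hv w hw
    have := comm_conj (g := F.ρ) (hv _ (hinv2 w hw))
    rwa [show F.ρ * (F.ρ⁻¹ * w * F.ρ) * F.ρ⁻¹ = w by group] at this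
  have hall2 : ∀ v ∈ F.C1, ∀ w ∈ F.C2, v * w = w * v := by
    intro v hv
    by_cases hv1 : v = 1
    · intro w _; rw [hv1, mul_one, one_mul]
    have hvs : D.φ v ≠ 1 := fun e => hv1 (F.φ_inj1 hv (one_mem _) (by rw [e, D.φ_one]))
    have hx' := F.ρ_C1 hx
    rcases inV_orbit _ hxT.2 hxs _ (F.mem_C1.1 hv).1.2 hvs with e | e | e
    · rw [F.φ_inj1 hv hx e]; exact hall
    · rw [F.φ_inj1 hv hx' (by rw [F.φ_conj_ρ hxT, e])]; exact hρc x hall
    · rw [F.φ_inj1 hv (F.ρ_C1 hx') (by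
        rw [F.φ_conj_ρ (F.mem_C1.1 hx').1, F.φ_conj_ρ hxT, e, (r0_twice _).1])]
      exact hρc _ (hρc x hall)
  obtain ⟨v, w, bv, bw, bvw⟩ := two_even
  have hT : ∀ p q, p ∈ D.T → q ∈ D.T → Commute p q := by
    intro p q hp hq
    obtain ⟨α, hα, c1, h1, c2, h2, rfl⟩ := F.exists_coord hp
    obtain ⟨β, hβ, d1, k1, d2, k2, rfl⟩ := F.exists_coord hq
    have hAT : ∀ γ ∈ D.A, ∀ y ∈ D.T, Commute γ y := fun γ hγ y hy => (D.CA_comm hy.1 hγ).symm
    have h11 : Commute c1 d1 := by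
      have h := F.C1_sq (mul_mem h1 k1)
      show c1 * d1 = d1 * c1
      calc c1 * d1 = (c1 * d1)⁻¹ := (inv_eq_of_mul_eq_one_left h).symm
        _ = d1 * c1 := by rw [mul_inv_rev, inv_eq_of_mul_eq_one_left (F.C1_sq h1), inv_eq_of_mul_eq_one_left (F.C1_sq k1)]
    have h22 : Commute c2 d2 := by
      have h := F.C2_sq (mul_mem h2 k2)
      show c2 * d2 = d2 * c2
      calc c2 * d2 = (c2 * d2)⁻¹ := (inv_eq_of_mul_eq_one_left h).symm
        _ = d2 * c2 := by rw [mul_inv_rev, inv_eq_of_mul_eq_one_left (F.C2_sq h2), inv_eq_of_mul_eq_one_left (F.C2_sq k2)]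
    have m1 := (F.mem_C1.1 k1).1
    have m2 := (F.mem_C2.1 k2).1
    exact (((hAT α hα _ (mul_mem (mul_mem (D.A_le_T hβ) m1) m2))).mul_left
      (((hAT β hβ _ (F.mem_C1.1 h1).1).symm.mul_right h11).mul_right (hall2 c1 h1 d2 k2))).mul_left
      (((hAT β hβ _ (F.mem_C2.1 h2).1).symm.mul_right (hall2 d1 k1 c2 h2 : Commute d1 c2).symm).mul_right h22)
  have hv' := D.lift_mem v
  have hw' := D.lift_mem w
  have := D.bil_of_comm hv' hw' (hT _ _ (D.U_le_T hv' ((D.E_CA_iff hv').2 (by rw [D.π_lift]; exact bv)))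
    (D.U_le_T hw' ((D.E_CA_iff hw').2 (by rw [D.π_lift]; exact bw))))
  rw [D.π_lift, D.π_lift, bvw] at this
  exact one_ne_zero this

/-- The involutions of `T` lie in one of the two elementary subgroups of order 16. -/
theorem invol_T {x : G} (hx : x ∈ D.T) (hxx : x * x = 1) :
    (∃ α ∈ D.A, ∃ c ∈ F.C1, x = α * c) ∨ ∃ α ∈ D.A, ∃ c ∈ F.C2, x = α * c := by
  obtain ⟨α, hα, c1, h1, c2, h2, rfl⟩ := F.exists_coord hx
  by_cases e1 : c1 = 1
  · exact Or.inr ⟨α, hα, c2, h2, by rw [e1, mul_one]⟩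
  by_cases e2 : c2 = 1
  · exact Or.inl ⟨α, hα, c1, h1, by rw [e2, mul_one]⟩
  exfalso
  refine F.bracket_ne h1 h2 e1 e2 ?_
  have hm : c1 * c2 ∈ D.T := mul_mem (F.mem_C1.1 h1).1 (F.mem_C2.1 h2).1
  have hc : Commute α (c1 * c2) := (D.CA_comm hm.1 hα).symm
  calc c1 * c2 * c1 * c2 = α * α * ((c1 * c2) * (c1 * c2)) := by rw [D.A_sq hα, one_mul]; group
    _ = α * c1 * c2 * (α * c1 * c2) := by
        rw [show α * α * ((c1 * c2) * (c1 * c2)) = α * (α * (c1 * c2)) * (c1 * c2) by group, hc.eq]; group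
    _ = 1 := hxx

end Frame

end Cfsg.Agent.Fus.AutL34
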