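import Mathlib
import Cfsg.Agent.Lib.Fus.AutLThreeFour.Coord

/-!
A Sylow 2-subgroup and the four cosets of `T` in it.
-/

set_option autoImplicit false
set_option linter.unusedSectionVars false
set_option linter.style.haveILetI false

namespace Cfsg.Agent.Fus.AutL34

open Subgroup Cfsg.Agent.Spor.ExtraOut

theorem sq_inV : ∀ s : Equiv.Perm (Fin 4), s ^ 4 = 1 → InV (s * s) := by decide +kernel

theorem two_power_exp : ∀ s : Equiv.Perm (Fin 4), s ^ 3 ≠ 1 → s ^ 4 = 1 := by decide +kernel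

theorem index_two_rule : ∀ s : Equiv.Perm (Fin 4), s * s = 1 → ¬ InV s → ∀ u : Equiv.Perm (Fin 4), u * u = 1 →
    ¬ InV u → (s * u) * (s * u) = 1 → InV (s * u) := by decide +kernel

theorem coset_rule : ∀ s u : Equiv.Perm (Fin 4), InV s → (InV (s * u) ↔ InV u) ∧ (InV (u * s) ↔ InV u) := by
  decide +kernel

theorem pow_four_eq : ∀ s : Equiv.Perm (Fin 4), ∀ n : ℕ, s ^ 2 ^ n = 1 → s ^ 4 = 1 := by
  intro s n h
  by_cases h3 : s ^ 3 = 1
  · have : s = 1 := cube_pow s h3 n h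
    rw [this, one_pow]
  · exact two_power_exp s h3

variable {G : Type*} [Group G] [Finite G] {z : G} {D : Data z} (F : Frame D)

namespace Frame

theorem not_inV_t : ¬ InV (D.φ F.t) := (r0_facts.2.2.2.2.2.2.1 _ F.φt).2.2

theorem f_not_CA : F.f ∉ D.CA := fun h => by
  have := (D.mem_CA.1 h).2
  have h1 := F.fa
  rw [this, mul_assoc, F.f2, mul_one] at h1
  exact D.z1 (left_eq_mul.1 h1)

theorem ft_not_CA : F.f * F.t ∉ D.CA := fun h => F.f_not_CA (by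
  have := mul_mem h F.t_CA
  rwa [mul_assoc, F.t2, mul_one] at this)

theorem fz : F.f * z = z * F.f := D.cz _ F.fE

theorem tz' : F.t * z = z * F.t := (D.mem_CA.1 F.t_CA).1

theorem φf : D.φ F.f = 1 := D.φ_of_mem F.fE

theorem φft : D.φ (F.f * F.t) = D.φ F.t := by rw [D.φ_mul _ _ F.fz F.tz', F.φf, one_mul]

theorem ft2 : F.f * F.t * (F.f * F.t) = 1 := by
  rw [mul_assoc, ← mul_assoc F.t, ← F.ft, mul_assoc F.f, F.t2, mul_one, F.f2]

theorem mem_K4 {x : G} (h : x = 1 ∨ x = F.t ∨ x = F.f ∨ x = F.f * F.t) : x * x = 1 := by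
  rcases h with e | e | e | e <;> rw [e]
  · exact one_mul 1
  · exact F.t2
  · exact F.f2
  · exact F.ft2

/-- The complement of `T` in the Sylow 2-subgroup. -/
def K4 : Subgroup G where
  carrier := {x | x = 1 ∨ x = F.t ∨ x = F.f ∨ x = F.f * F.t}
  one_mem' := Or.inl rfl
  inv_mem' := fun {x} hx => by
    show x⁻¹ = 1 ∨ x⁻¹ = F.t ∨ x⁻¹ = F.f ∨ x⁻¹ = F.f * F.t
    rw [inv_eq_of_mul_eq_one_right (F.mem_K4 hx)]; exact hx
  mul_mem' := by
    have e1 : F.t * (F.f * F.t) = F.f := by rw [← mul_assoc, ← F.ft, mul_assoc, F.t2, mul_one]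
    have e2 : F.f * (F.f * F.t) = F.t := by rw [← mul_assoc, F.f2, one_mul]
    have e3 : F.f * F.t * F.t = F.f := by rw [mul_assoc, F.t2, mul_one]
    have e4 : F.f * F.t * F.f = F.t := by rw [mul_assoc, ← F.ft, e2]
    intro x y hx hy
    rcases hx with f1 | f1 | f1 | f1 <;> rcases hy with f2 | f2 | f2 | f2 <;> rw [f1, f2]
    all_goals simp only [one_mul, mul_one, F.t2, F.f2, F.ft2, Set.mem_setOf_eq, F.ft.symm, e1, e2, e3, e4,
      true_or, or_true]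

theorem K4_le_N : F.K4 ≤ D.N := by
  intro x hx
  rcases hx with e | e | e | e <;> rw [e]
  exacts [one_mem _, F.t_N, F.f_N, mul_mem F.f_N F.t_N]

/-- The Sylow 2-subgroup. -/
def P : Subgroup G where
  carrier := {x | ∃ u ∈ D.T, ∃ k ∈ F.K4, x = u * k}
  one_mem' := ⟨1, one_mem _, 1, one_mem _, (one_mul 1).symm⟩
  inv_mem' := by
    rintro _ ⟨u, hu, k, hk, rfl⟩
    exact ⟨k⁻¹ * u⁻¹ * k⁻¹⁻¹, D.conj_T (inv_mem (F.K4_le_N hk)) (inv_mem hu), k⁻¹, inv_mem hk, by group⟩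
  mul_mem' := by
    rintro _ _ ⟨u, hu, k, hk, rfl⟩ ⟨v, hv, m, hm, rfl⟩
    exact ⟨u * (k * v * k⁻¹), mul_mem hu (D.conj_T (F.K4_le_N hk) hv), k * m, mul_mem hk hm, by group⟩

theorem T_le_P : D.T ≤ F.P := fun x hx => ⟨x, hx, 1, one_mem _, (mul_one x).symm⟩

theorem K4_le_P : F.K4 ≤ F.P := fun x hx => ⟨1, one_mem _, x, hx, (one_mul x).symm⟩

theorem t_mem_P : F.t ∈ F.P := F.K4_le_P (Or.inr (Or.inl rfl))

theorem f_mem_P : F.f ∈ F.P := F.K4_le_P (Or.inr (Or.inr (Or.inl rfl)))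

theorem P_le_C : F.P ≤ centralizer ({z} : Set G) := by
  rintro _ ⟨u, hu, k, hk, rfl⟩
  refine mul_mem hu.1.1 ?_
  rcases hk with e | e | e | e <;> rw [e]
  exacts [one_mem _, F.t_CA.1, D.E_le F.fE, mul_mem (D.E_le F.fE) F.t_CA.1]

theorem K4_inf : ∀ k ∈ F.K4, k ∈ D.T → k = 1 := by
  intro k hk hT
  rcases hk with e | e | e | e
  · exact e
  · exact absurd (e ▸ hT.2) F.not_inV_t
  · exact absurd (e ▸ hT.1) F.f_not_CA
  · exact absurd (e ▸ hT.1) F.ft_not_CA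

theorem card_P : Nat.card F.P = 256 := by
  classical
  let Φ : D.T × F.K4 → F.P := fun p => ⟨p.1 * p.2, p.1, p.1.2, p.2, p.2.2, rfl⟩
  have hb : Function.Bijective Φ := by
    constructor
    · rintro ⟨⟨u, hu⟩, ⟨k, hk⟩⟩ ⟨⟨v, hv⟩, ⟨m, hm⟩⟩ e
      have e' : u * k = v * m := congrArg Subtype.val e
      have h2 : v⁻¹ * u = m * k⁻¹ := by
        calc v⁻¹ * u = v⁻¹ * (u * k) * k⁻¹ := by group
          _ = m * k⁻¹ := by rw [e']; group
      have h1 := F.K4_inf _ (mul_mem hm (inv_mem hk)) (h2 ▸ mul_mem (inv_mem hv) hu)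
      rw [h1] at h2
      exact Prod.ext (Subtype.ext (inv_mul_eq_one.1 h2).symm) (Subtype.ext (mul_inv_eq_one.1 h1).symm)
    · rintro ⟨_, u, hu, k, hk, rfl⟩
      exact ⟨(⟨u, hu⟩, ⟨k, hk⟩), rfl⟩
  rw [← Nat.card_eq_of_bijective Φ hb, Nat.card_prod, D.card_T]
  have : Nat.card F.K4 = 4 := by
    rw [← SetLike.coe_sort_coe, Nat.card_coe_set_eq]
    have ht1 : F.t ≠ 1 := fun e => F.not_inV_t (by rw [e, D.φ_one]; exact inV_facts.1)
    have hf1 : F.f ≠ 1 := fun e => F.f_not_CA (e ▸ one_mem _)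
    have htf : F.t ≠ F.f := fun e => F.f_not_CA (e ▸ F.t_CA)
    have h1 : F.f * F.t ≠ 1 := fun e => F.ft_not_CA (e ▸ one_mem _)
    refine Set.ncard_eq_succ (n := 3) |>.2 ⟨1, {F.t, F.f, F.f * F.t}, ?_, ?_, ?_⟩
    · simp [ht1.symm, hf1.symm, h1.symm]
    · ext y; exact ⟨fun h => h, fun h => h⟩
    · exact Set.ncard_eq_three.2 ⟨F.t, F.f, F.f * F.t, htf,
        fun e => hf1 (mul_eq_right.1 e.symm), fun e => ht1 (left_eq_mul.1 e), rfl⟩
  rw [this]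

theorem P_isPGroup : IsPGroup 2 F.P := IsPGroup.of_card (n := 8) (by rw [F.card_P]; norm_num)

theorem E_le_P : D.E ≤ F.P := by
  intro x hx
  rcases D.conj_a (D.cz x hx) with e | e
  · exact F.T_le_P (D.U_le_T hx (D.mem_CA.2 ⟨D.cz x hx, mul_inv_eq_iff_eq_mul.1 e⟩))
  · have h2 : x * F.f * D.a * (x * F.f)⁻¹ = D.a := by
      rw [show x * F.f * D.a * (x * F.f)⁻¹ = x * (F.f * D.a * F.f⁻¹) * x⁻¹ by group, F.f_inv, F.fa,
        show x * (D.a * z) * x⁻¹ = (x * D.a * x⁻¹) * (x * z * x⁻¹) by group, e, D.cz x hx, mul_inv_cancel_right,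
        mul_assoc, D.zz, mul_one]
    have hm := mul_mem hx F.fE
    have h1 : x * F.f ∈ D.T := D.U_le_T hm (D.mem_CA.2 ⟨D.cz _ hm, mul_inv_eq_iff_eq_mul.1 h2⟩)
    exact ⟨_, h1, F.f, F.K4_le_P |> fun _ => Or.inr (Or.inr (Or.inl rfl)), by rw [mul_assoc, F.f2, mul_one]⟩

theorem max_C {Q : Subgroup G} (hQ : IsPGroup 2 Q) (hQC : Q ≤ centralizer ({z} : Set G)) (hPQ : F.P ≤ Q) :
    Q = F.P := by
  haveI : Fact (Nat.Prime 2) := ⟨Nat.prime_two⟩
  refine (Subgroup.eq_of_le_of_card_ge hPQ ?_).symm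
  obtain ⟨n, hn⟩ := hQ.exists_card_eq
  have h := Subgroup.card_dvd_of_le hQC
  rw [hn, D.card_C, show (768 : ℕ) = 2 ^ 8 * 3 by norm_num] at h
  have h8 : n ≤ 8 := by
    have := (Nat.Coprime.pow_left n (by norm_num : Nat.Coprime 2 3)).dvd_of_dvd_mul_right h
    exact (Nat.pow_dvd_pow_iff_le_right (by norm_num)).1 this
  rw [F.card_P, hn]
  calc 2 ^ n ≤ 2 ^ 8 := Nat.pow_le_pow_right (by norm_num) h8
    _ = 256 := by norm_num

theorem cent_P {g : G} (h : ∀ x ∈ F.P, g * x = x * g) : g = 1 ∨ g = z :=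
  D.eq_of_cent_E fun x hx => h x (F.E_le_P hx)

theorem max_P {Q : Subgroup G} (hQ : IsPGroup 2 Q) (hPQ : F.P ≤ Q) : Q = F.P := by
  classical
  haveI : Fact (Nat.Prime 2) := ⟨Nat.prime_two⟩
  by_contra hne
  have hlt : F.P < Q := lt_of_le_of_ne hPQ (Ne.symm hne)
  have hnc : Group.IsNilpotent ↥Q := hQ.isNilpotent
  have hlt' : F.P.subgroupOf Q < ⊤ := by
    rw [lt_top_iff_ne_top]
    exact fun e => hne (le_antisymm (subgroupOf_eq_top.1 e) hPQ)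
  obtain ⟨⟨n, hnQ⟩, hn1, hn2⟩ :=
    SetLike.exists_of_lt (normalizerCondition_of_isNilpotent (G := ↥Q) _ hlt')
  have hnorm : ∀ x ∈ F.P, n⁻¹ * x * n ∈ F.P := fun x hx =>
    (mem_normalizer_iff''.1 hn1 ⟨x, hPQ hx⟩).1 hx
  have hzP : z ∈ F.P := F.T_le_P (D.A_le_T D.z_mem_A)
  have hc : ∀ x ∈ F.P, n * z * n⁻¹ * x = x * (n * z * n⁻¹) := fun x hx => by
    have h := mem_centralizer_singleton_iff.1 (F.P_le_C (hnorm x hx))
    calc n * z * n⁻¹ * x = n * (z * (n⁻¹ * x * n)) * n⁻¹ := by group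
      _ = n * ((n⁻¹ * x * n) * z) * n⁻¹ := by rw [h]
      _ = x * (n * z * n⁻¹) := by group
  have hnC : n ∈ centralizer ({z} : Set G) := Data.mem_C_iff.2 (by
    rcases F.cent_P hc with e | e
    · exact absurd (conj_eq_one_iff.1 e) D.z1
    · exact mul_inv_eq_iff_eq_mul.1 e)
  have hmax := F.max_C (Q := Q ⊓ centralizer ({z} : Set G)) (hQ.to_le inf_le_left) inf_le_right
    (le_inf hPQ F.P_le_C)
  exact hn2 (show n ∈ F.P from hmax ▸ ⟨hnQ, hnC⟩)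

/-- `P` as a Sylow 2-subgroup of the whole group. -/
noncomputable def sylow : Sylow 2 G where
  toSubgroup := F.P
  isPGroup' := F.P_isPGroup
  is_maximal' := fun hQ hle => F.max_P hQ hle

theorem coe_sylow : (F.sylow : Subgroup G) = F.P := rfl

/-- The square of a 2-element of `C(z)` lies in `T`. -/
theorem sq_mem_T {h : G} (hh : h * z = z * h) (h2 : ∃ n : ℕ, h ^ 2 ^ n = 1) : h * h ∈ D.T := by
  obtain ⟨n, hn⟩ := h2
  refine ⟨D.mem_CA.2 ⟨Data.mem_C_iff.1 (mul_mem (Data.mem_C_iff.2 hh) (Data.mem_C_iff.2 hh)), ?_⟩, ?_⟩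
  · refine mul_inv_eq_iff_eq_mul.1 ?_
    rw [show h * h * D.a * (h * h)⁻¹ = h * (h * D.a * h⁻¹) * h⁻¹ by group]
    rcases D.conj_a hh with e | e
    · rw [e, e]
    · rw [e, show h * (D.a * z) * h⁻¹ = (h * D.a * h⁻¹) * (h * z * h⁻¹) by group, e, hh, mul_inv_cancel_right,
        mul_assoc, D.zz, mul_one]
  · rw [D.φ_mul _ _ hh hh]
    exact sq_inV _ (pow_four_eq _ n (by rw [← D.φ_pow hh, hn, D.φ_one]))

end Frame

end Cfsg.Agent.Fus.AutL34
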