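import Mathlib
import Cfsg.Agent.Lib.Fus.AutLThreeFour.Sylow

/-!
Involutions of `C(z)` outside `T`.
-/

set_option autoImplicit false
set_option linter.unusedSectionVars false
set_option linter.style.haveILetI false

namespace Cfsg.Agent.Fus.AutL34

open Subgroup Cfsg.Agent.Spor.ExtraOut

theorem transp_fixed : ∀ s : Equiv.Perm (Fin 4), ¬ InV s → s * s = 1 → ∃ u, InV u ∧ u ≠ 1 ∧ s * u * s⁻¹ = u ∧
    ∀ v, InV v → s * v * s⁻¹ = v → v = 1 ∨ v = u := by decide +kernel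

theorem transp_normalise : ∀ s : Equiv.Perm (Fin 4), ¬ InV s → s * s = 1 → ∀ u : Equiv.Perm (Fin 4),
    u * r0 * u⁻¹ = r0 ^ 2 → ∃ j : Fin 3, InV (r0 ^ (j : ℕ) * s * (r0 ^ (j : ℕ))⁻¹ * u) := by decide +kernel

variable {G : Type*} [Group G] [Finite G] {z : G} {D : Data z} (F : Frame D)

namespace Frame

/-- Elementary subgroups `A C₁` and `A C₂` as membership. -/
def InF1 (x : G) : Prop := ∃ α ∈ D.A, ∃ c ∈ F.C1, x = α * c

/-- Membership in `A C₂`. -/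
def InF2 (x : G) : Prop := ∃ α ∈ D.A, ∃ c ∈ F.C2, x = α * c

theorem invol_InF {x : G} (hx : x ∈ D.T) (hxx : x * x = 1) : F.InF1 x ∨ F.InF2 x := F.invol_T hx hxx

theorem InF1.mem_T {x : G} (h : F.InF1 x) : x ∈ D.T := by
  obtain ⟨α, hα, c, hc, rfl⟩ := h
  exact mul_mem (D.A_le_T hα) (F.mem_C1.1 hc).1

theorem InF2.mem_T {x : G} (h : F.InF2 x) : x ∈ D.T := by
  obtain ⟨α, hα, c, hc, rfl⟩ := h
  exact mul_mem (D.A_le_T hα) (F.mem_C2.1 hc).1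

theorem T_A {u α : G} (hu : u ∈ D.T) (hα : α ∈ D.A) : u * α = α * u := D.CA_comm hu.1 hα

theorem InF1_inter {x : G} (h1 : F.InF1 x) (h2 : F.InF2 x) : x ∈ D.A := by
  obtain ⟨α, hα, c, hc, rfl⟩ := h1
  obtain ⟨β, hβ, d, hd, e⟩ := h2
  obtain ⟨hc1, -, -⟩ := F.C1_C2_A hc hd (mul_mem (inv_mem hα) hβ) (by rw [mul_assoc, ← e, inv_mul_cancel_left])
  rw [hc1, mul_one]; exact hα

theorem C1_comm {c d : G} (hc : c ∈ F.C1) (hd : d ∈ F.C1) : c * d = d * c := by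
  calc c * d = (c * d)⁻¹ := (inv_eq_of_mul_eq_one_left (F.C1_sq (mul_mem hc hd))).symm
    _ = d * c := by rw [mul_inv_rev, inv_eq_of_mul_eq_one_left (F.C1_sq hc), inv_eq_of_mul_eq_one_left (F.C1_sq hd)]

theorem C2_comm {c d : G} (hc : c ∈ F.C2) (hd : d ∈ F.C2) : c * d = d * c := by
  calc c * d = (c * d)⁻¹ := (inv_eq_of_mul_eq_one_left (F.C2_sq (mul_mem hc hd))).symm
    _ = d * c := by rw [mul_inv_rev, inv_eq_of_mul_eq_one_left (F.C2_sq hc), inv_eq_of_mul_eq_one_left (F.C2_sq hd)]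

theorem conj_C1_T {u c : G} (hu : u ∈ D.T) (hc : c ∈ F.C1) : ∃ β ∈ D.A, u * c * u⁻¹ = β * c := by
  obtain ⟨α, hα, c1, h1, c2, h2, rfl⟩ := F.exists_coord hu
  have h1T := (F.mem_C1.1 h1).1
  have hcT := (F.mem_C1.1 hc).1
  refine ⟨_, F.bracket_mem hc h2, ?_⟩
  have e2 : c2⁻¹ = c2 := inv_eq_of_mul_eq_one_right (F.C2_sq h2)
  have hb : c2 * c * c2⁻¹ = c * c2 * c * c2 * c := by
    have h := D.A_sq (F.bracket_mem hc h2)
    have ee : (c * c2 * c * c2)⁻¹ = c2 * c * c2 * c := by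
      rw [mul_inv_rev, mul_inv_rev, mul_inv_rev, e2, inv_eq_of_mul_eq_one_right (F.C1_sq hc)]; group
    rw [← inv_eq_of_mul_eq_one_right h, ee, e2, mul_assoc (c2 * c * c2) c c, F.C1_sq hc, mul_one]
  have hmem : c * c2 * c * c2 * c ∈ D.T :=
    mul_mem (D.A_le_T (F.bracket_mem hc h2)) hcT
  calc α * c1 * c2 * c * (α * c1 * c2)⁻¹ = α * (c1 * (c2 * c * c2⁻¹) * c1⁻¹) * α⁻¹ := by group
    _ = α * ((c1 * (c * c2 * c * c2) * c1⁻¹) * (c1 * c * c1⁻¹)) * α⁻¹ := by rw [hb]; group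
    _ = α * ((c * c2 * c * c2) * c) * α⁻¹ := by
        rw [T_A h1T (F.bracket_mem hc h2), mul_inv_cancel_right, F.C1_comm h1 hc, mul_inv_cancel_right]
    _ = c * c2 * c * c2 * c := by rw [← T_A hmem hα, mul_inv_cancel_right]

theorem conj_C2_T {u c : G} (hu : u ∈ D.T) (hc : c ∈ F.C2) : ∃ β ∈ D.A, u * c * u⁻¹ = β * c := by
  obtain ⟨α, hα, c1, h1, c2, h2, rfl⟩ := F.exists_coord hu
  have hcT := (F.mem_C2.1 hc).1
  refine ⟨_, F.bracket_mem h1 hc, ?_⟩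
  have hmem : c1 * c * c1 * c * c ∈ D.T := mul_mem (D.A_le_T (F.bracket_mem h1 hc)) hcT
  calc α * c1 * c2 * c * (α * c1 * c2)⁻¹ = α * (c1 * (c2 * c * c2⁻¹) * c1⁻¹) * α⁻¹ := by group
    _ = α * (c1 * c * c1 * c * c) * α⁻¹ := by
        rw [F.C2_comm h2 hc, mul_inv_cancel_right, inv_eq_of_mul_eq_one_right (F.C1_sq h1),
          mul_assoc (c1 * c * c1) c c, F.C2_sq hc, mul_one]
    _ = c1 * c * c1 * c * c := by rw [← T_A hmem hα, mul_inv_cancel_right]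

theorem f_r1 : F.f * F.r1 * F.f = (F.r2)⁻¹ := by
  have h1 : F.f * F.r1 * F.f = F.σ ^ 2 * F.ρ := by
    rw [r1, show F.f * (F.σ * F.ρ) * F.f = F.f * F.σ * (F.ρ * F.f) by group, ← F.fρ, ← mul_assoc, F.fσ]
  rw [h1, r2, mul_inv_rev, ← F.ρ_inv, inv_inv, inv_eq_of_mul_eq_one_right (show F.σ * F.σ ^ 2 = 1 by
    rw [← pow_succ', F.σ3]), (Commute.pow_left F.ρσ.symm 2 :).eq]

theorem f_C1 {c : G} (hc : c ∈ F.C1) : F.f * c * F.f ∈ F.C2 := by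
  obtain ⟨h1, h2⟩ := F.mem_C1.1 hc
  refine F.mem_C2.2 ⟨by have := D.conj_T F.f_N h1; rwa [F.f_inv] at this, ?_⟩
  have := comm_conj (g := F.f) h2
  rw [F.f_inv, F.f_r1] at this
  exact Commute.inv_left_iff.1 this

theorem f_C2 {c : G} (hc : c ∈ F.C2) : F.f * c * F.f ∈ F.C1 := by
  obtain ⟨h1, h2⟩ := F.mem_C2.1 hc
  refine F.mem_C1.2 ⟨by have := D.conj_T F.f_N h1; rwa [F.f_inv] at this, ?_⟩
  have e : F.f * F.r2⁻¹ * F.f = F.r1 := by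
    rw [← F.f_r1]
    calc F.f * (F.f * F.r1 * F.f) * F.f = (F.f * F.f) * F.r1 * (F.f * F.f) := by group
      _ = F.r1 := by rw [F.f2, one_mul, mul_one]
  have := comm_conj (g := F.f) (Commute.inv_left h2 : Commute F.r2⁻¹ c)
  rwa [F.f_inv, e] at this

theorem flip_comm {x α : G} (hxz : x * z = z * x) (hx : x ∉ D.CA) (hα : α ∈ D.A) (h : x * α = α * x) :
    α = 1 ∨ α = z := by
  rcases hα with e | e | e | e
  · exact Or.inl e
  · exact Or.inr e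
  · rw [e] at h; exact absurd (D.mem_CA.2 ⟨hxz, h⟩) hx
  · rw [e] at h
    refine absurd (D.mem_CA.2 ⟨hxz, ?_⟩) hx
    have := Commute.mul_right (show Commute x (D.a * z) from h) (show Commute x z from hxz)
    rw [mul_assoc, D.zz, mul_one] at this
    exact this

theorem flip_a {x : G} (hxz : x * z = z * x) (hx : x ∉ D.CA) : x * D.a * x⁻¹ = D.a * z :=
  (D.conj_a hxz).resolve_left fun e => hx (D.mem_CA.2 ⟨hxz, mul_inv_eq_iff_eq_mul.1 e⟩)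

theorem flip_mul {x y : G} (hxz : x * z = z * x) (hx : x ∉ D.CA) (hyz : y * z = z * y) (hy : y ∉ D.CA) :
    x * y ∈ D.CA := by
  refine D.mem_CA.2 ⟨Data.mem_C_iff.1 (mul_mem (Data.mem_C_iff.2 hxz) (Data.mem_C_iff.2 hyz)), ?_⟩
  refine mul_inv_eq_iff_eq_mul.1 ?_
  rw [show x * y * D.a * (x * y)⁻¹ = x * (y * D.a * y⁻¹) * x⁻¹ by group, flip_a hyz hy,
    show x * (D.a * z) * x⁻¹ = (x * D.a * x⁻¹) * (x * z * x⁻¹) by group, flip_a hxz hx, hxz, mul_inv_cancel_right,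
    mul_assoc, D.zz, mul_one]

/-- Decomposition of an element of the coset of `f`. -/
theorem f_class {x : G} (hxz : x * z = z * x) (hx : x ∉ D.CA) (hV : InV (D.φ x)) : x * F.f ∈ D.T :=
  ⟨flip_mul hxz hx F.fz F.f_not_CA, by rw [D.φ_mul _ _ hxz F.fz, F.φf, mul_one]; exact hV⟩

theorem swap_InF1 {x v : G} (hxz : x * z = z * x) (hx : x ∉ D.CA) (hV : InV (D.φ x)) (hv : F.InF1 v) :
    F.InF2 (x * v * x⁻¹) := by
  obtain ⟨α, hα, c, hc, rfl⟩ := hv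
  have hu := F.f_class hxz hx hV
  obtain ⟨β, hβ, e⟩ := F.conj_C2_T hu (F.f_C1 hc)
  refine ⟨x * α * x⁻¹ * β, mul_mem (conj_A (D.C_le_N (Data.mem_C_iff.2 hxz)) hα) hβ, _, F.f_C1 hc, ?_⟩
  calc x * (α * c) * x⁻¹ = (x * α * x⁻¹) * ((x * F.f) * (F.f⁻¹ * c * F.f) * (x * F.f)⁻¹) := by group
    _ = _ := by rw [F.f_inv, e]; simp only [mul_assoc]

theorem swap_InF2 {x v : G} (hxz : x * z = z * x) (hx : x ∉ D.CA) (hV : InV (D.φ x)) (hv : F.InF2 v) :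
    F.InF1 (x * v * x⁻¹) := by
  obtain ⟨α, hα, c, hc, rfl⟩ := hv
  have hu := F.f_class hxz hx hV
  obtain ⟨β, hβ, e⟩ := F.conj_C1_T hu (F.f_C2 hc)
  refine ⟨x * α * x⁻¹ * β, mul_mem (conj_A (D.C_le_N (Data.mem_C_iff.2 hxz)) hα) hβ, _, F.f_C2 hc, ?_⟩
  calc x * (α * c) * x⁻¹ = (x * α * x⁻¹) * ((x * F.f) * (F.f⁻¹ * c * F.f) * (x * F.f)⁻¹) := by group
    _ = _ := by rw [F.f_inv, e]; simp only [mul_assoc]

include F in
/-- An element of the coset of `f` fixes only `1` and `z` among the involutions of `T`. -/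
theorem swap_fixed {x v : G} (hxz : x * z = z * x) (hx : x ∉ D.CA) (hV : InV (D.φ x)) (hv : v ∈ D.T)
    (hvv : v * v = 1) (h : x * v = v * x) : v = 1 ∨ v = z := by
  have e : x * v * x⁻¹ = v := mul_inv_eq_iff_eq_mul.2 h
  refine flip_comm hxz hx ?_ h
  rcases F.invol_InF hv hvv with h1 | h1
  · have := F.swap_InF1 hxz hx hV h1
    rw [e] at this
    exact F.InF1_inter h1 this
  · have := F.swap_InF2 hxz hx hV h1
    rw [e] at this
    exact F.InF1_inter this h1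

theorem exists_C1_ne : ∃ c ∈ F.C1, c ≠ 1 := by
  obtain ⟨s, _, hs, _, hs1, _⟩ := inV_two
  obtain ⟨c, hc, e⟩ := F.exists_C1 hs
  exact ⟨c, hc, fun e' => hs1 (by rw [← e, e', D.φ_one])⟩

theorem sq_mul_A {α k : G} (hα : α ∈ D.A) (hk : k ∈ D.T) : α * k * (α * k) = k * k := by
  calc α * k * (α * k) = α * (k * α) * k := by group
    _ = α * (α * k) * k := by rw [T_A hk hα]
    _ = α * α * k * k := by group
    _ = k * k := by rw [D.A_sq hα, one_mul]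

include F in
/-- An involution in the coset of `f` commutes with an element of `T` whose square is `z`. -/
theorem swap_root {x : G} (hxz : x * z = z * x) (hxx : x * x = 1) (hx : x ∉ D.CA) (hV : InV (D.φ x)) :
    ∃ k ∈ D.T, k * x = x * k ∧ k * k = z := by
  obtain ⟨c, hc, hc1⟩ := F.exists_C1_ne
  have hcT := (F.mem_C1.1 hc).1
  obtain ⟨α, hα, d, hd, hαd⟩ := F.swap_InF1 hxz hx hV ⟨1, one_mem _, c, hc, (one_mul c).symm⟩
  have hxi : x⁻¹ = x := inv_eq_of_mul_eq_one_right hxx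
  rw [hxi] at hαd
  have hdT := (F.mem_C2.1 hd).1
  have hd1 : d ≠ 1 := by
    intro e
    rw [e, mul_one] at hαd
    have hcA : c = x * α * x⁻¹ := by
      rw [← hαd, hxi]
      calc c = (x * x) * c * (x * x) := by rw [hxx, one_mul, mul_one]
        _ = _ := by group
    exact hc1 (F.r1_fix (hcA ▸ conj_A (D.C_le_N (Data.mem_C_iff.2 hxz)) hα) (F.mem_C1.1 hc).2)
  set e := x * c * x with he
  have hxe : x * e * x = c := by
    rw [he]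
    calc x * (x * c * x) * x = (x * x) * c * (x * x) := by group
      _ = c := by rw [hxx, one_mul, mul_one]
  have hck : c * e = α * (c * d) := by rw [hαd, ← mul_assoc, T_A hcT hα, mul_assoc]
  have hee : e * e = 1 := by rw [hαd, sq_mul_A hα hdT, F.C2_sq hd]
  have hw : c * e * (c * e) = c * d * c * d := by
    rw [hck, sq_mul_A hα (mul_mem hcT hdT)]; group
  have hwA : c * e * (c * e) ∈ D.A := hw ▸ F.bracket_mem hc hd
  have hinv : e * c = (c * e)⁻¹ := by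
    rw [mul_inv_rev, inv_eq_of_mul_eq_one_right hee, inv_eq_of_mul_eq_one_right (F.C1_sq hc)]
  have hxk : x * (c * e) * x⁻¹ = (c * e)⁻¹ := by
    rw [← hinv, hxi]
    calc x * (c * e) * x = (x * c * x) * (x * e * x) := by
          rw [show (x * c * x) * (x * e * x) = x * c * (x * x) * e * x by group, hxx]; group
      _ = e * c := by rw [hxe]
  have hfix : x * (c * e * (c * e)) = c * e * (c * e) * x := by
    refine mul_inv_eq_iff_eq_mul.1 ?_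
    rw [show x * (c * e * (c * e)) * x⁻¹ = (x * (c * e) * x⁻¹) * (x * (c * e) * x⁻¹) by group, hxk, ← mul_inv_rev,
      inv_eq_of_mul_eq_one_right (D.A_sq hwA)]
  have hwz : c * e * (c * e) = z := (flip_comm hxz hx hwA hfix).resolve_left
    (hw ▸ F.bracket_ne hc hd hc1 hd1)
  have hkT : c * e ∈ D.T := hck ▸ mul_mem (D.A_le_T hα) (mul_mem hcT hdT)
  refine ⟨D.a * (c * e), mul_mem (D.A_le_T D.a_mem_A) hkT, ?_, by rw [sq_mul_A D.a_mem_A hkT, hwz]⟩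
  symm
  refine mul_inv_eq_iff_eq_mul.1 ?_
  have hki : (c * e)⁻¹ = z * (c * e) := by
    refine inv_eq_of_mul_eq_one_right ?_
    rw [← mul_assoc, T_A hkT D.z_mem_A, mul_assoc, hwz, D.zz]
  rw [show x * (D.a * (c * e)) * x⁻¹ = (x * D.a * x⁻¹) * (x * (c * e) * x⁻¹) by group, flip_a hxz hx, hxk, hki,
    mul_assoc D.a, ← mul_assoc z, D.zz, one_mul]

/-- Decomposition of an element of the coset of `t`. -/
theorem t_class {y : G} (hy : y ∈ D.CA) (hV : ¬ InV (D.φ y)) (h2 : D.φ y * D.φ y = 1) :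
    ∃ j : ℕ, ∃ u ∈ D.T, F.ρ ^ j * y * (F.ρ ^ j)⁻¹ = u * F.t := by
  obtain ⟨j, hj⟩ := transp_normalise _ hV h2 _ F.φt
  refine ⟨j, F.ρ ^ (j : ℕ) * y * (F.ρ ^ (j : ℕ))⁻¹ * F.t, ?_, by rw [mul_assoc _ F.t F.t, F.t2, mul_one]⟩
  have hp : F.ρ ^ (j : ℕ) * z = z * F.ρ ^ (j : ℕ) := (Commute.pow_left F.ρz _ :)
  have hm : F.ρ ^ (j : ℕ) * y * (F.ρ ^ (j : ℕ))⁻¹ ∈ D.CA :=
    mul_mem (mul_mem (pow_mem F.ρ_CA _) hy) (inv_mem (pow_mem F.ρ_CA _))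
  refine ⟨mul_mem hm F.t_CA, ?_⟩
  rw [D.φ_mul _ _ (D.mem_CA.1 hm).1 F.tz', D.φ_conj hp (D.mem_CA.1 hy).1, D.φ_pow F.ρz, F.φρ]
  exact hj

theorem InF1.conj_T {u v : G} (hu : u ∈ D.T) (hv : F.InF1 v) : F.InF1 (u * v * u⁻¹) := by
  obtain ⟨α, hα, c, hc, rfl⟩ := hv
  obtain ⟨β, hβ, e⟩ := F.conj_C1_T hu hc
  refine ⟨α * β, mul_mem hα hβ, c, hc, ?_⟩
  rw [show u * (α * c) * u⁻¹ = (u * α * u⁻¹) * (u * c * u⁻¹) by group, T_A hu hα, mul_inv_cancel_right, e, mul_assoc]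

theorem InF2.conj_T {u v : G} (hu : u ∈ D.T) (hv : F.InF2 v) : F.InF2 (u * v * u⁻¹) := by
  obtain ⟨α, hα, c, hc, rfl⟩ := hv
  obtain ⟨β, hβ, e⟩ := F.conj_C2_T hu hc
  refine ⟨α * β, mul_mem hα hβ, c, hc, ?_⟩
  rw [show u * (α * c) * u⁻¹ = (u * α * u⁻¹) * (u * c * u⁻¹) by group, T_A hu hα, mul_inv_cancel_right, e, mul_assoc]

theorem InF1.conj_t {v : G} (hv : F.InF1 v) : F.InF2 (F.t * v * F.t) := by
  obtain ⟨α, hα, c, hc, rfl⟩ := hv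
  refine ⟨α, hα, _, F.t_C1 hc, ?_⟩
  rw [← mul_assoc F.t, D.CA_comm F.t_CA hα]; group

theorem InF2.conj_t {v : G} (hv : F.InF2 v) : F.InF1 (F.t * v * F.t) := by
  obtain ⟨α, hα, c, hc, rfl⟩ := hv
  refine ⟨α, hα, _, F.t_C2 hc, ?_⟩
  rw [← mul_assoc F.t, D.CA_comm F.t_CA hα]; group

theorem InF1.conj_ρ {v : G} (hv : F.InF1 v) : F.InF1 (F.ρ * v * F.ρ⁻¹) := by
  obtain ⟨α, hα, c, hc, rfl⟩ := hv
  refine ⟨α, hα, _, F.ρ_C1 hc, ?_⟩
  rw [← mul_assoc F.ρ, F.ρ_A hα]; group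

theorem InF2.conj_ρ {v : G} (hv : F.InF2 v) : F.InF2 (F.ρ * v * F.ρ⁻¹) := by
  obtain ⟨α, hα, c, hc, rfl⟩ := hv
  refine ⟨α, hα, _, F.ρ_C2 hc, ?_⟩
  rw [← mul_assoc F.ρ, F.ρ_A hα]; group

theorem InF1.conj_ρ_pow {v : G} (hv : F.InF1 v) (n : ℕ) : F.InF1 (F.ρ ^ n * v * (F.ρ ^ n)⁻¹) := by
  induction n with
  | zero => simpa using hv
  | succ n ih =>
    rw [pow_succ', show F.ρ * F.ρ ^ n * v * (F.ρ * F.ρ ^ n)⁻¹ = F.ρ * (F.ρ ^ n * v * (F.ρ ^ n)⁻¹) * F.ρ⁻¹ by group]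
    exact InF1.conj_ρ F ih

theorem InF2.conj_ρ_pow {v : G} (hv : F.InF2 v) (n : ℕ) : F.InF2 (F.ρ ^ n * v * (F.ρ ^ n)⁻¹) := by
  induction n with
  | zero => simpa using hv
  | succ n ih =>
    rw [pow_succ', show F.ρ * F.ρ ^ n * v * (F.ρ * F.ρ ^ n)⁻¹ = F.ρ * (F.ρ ^ n * v * (F.ρ ^ n)⁻¹) * F.ρ⁻¹ by group]
    exact InF2.conj_ρ F ih

/-- An element of the coset of `t` exchanges the two elementary subgroups. -/
theorem t_swap {y : G} (hy : y ∈ D.CA) (hV : ¬ InV (D.φ y)) (h2 : D.φ y * D.φ y = 1) :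
    (∀ v, F.InF1 v → F.InF2 (y * v * y⁻¹)) ∧ ∀ v, F.InF2 v → F.InF1 (y * v * y⁻¹) := by
  obtain ⟨j, u, hu, e⟩ := F.t_class hy hV h2
  have h3 : F.ρ ^ (2 * j) * F.ρ ^ j = 1 := by
    rw [← pow_add, show 2 * j + j = 3 * j by ring, pow_mul, F.ρ3, one_pow]
  have hi : (F.ρ ^ j)⁻¹ = F.ρ ^ (2 * j) := inv_eq_of_mul_eq_one_left h3
  have key : ∀ v, y * v * y⁻¹ =
      F.ρ ^ (2 * j) * (u * (F.t * (F.ρ ^ j * v * (F.ρ ^ j)⁻¹) * F.t) * u⁻¹) * (F.ρ ^ (2 * j))⁻¹ := by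
    intro v
    have e2 : y = (F.ρ ^ j)⁻¹ * (u * F.t) * F.ρ ^ j := by rw [← e]; group
    rw [← hi, e2]
    nth_rewrite 4 [← F.t_inv]
    group
  constructor <;> intro v hv <;> rw [key v]
  · exact InF2.conj_ρ_pow F (InF2.conj_T F hu (InF1.conj_t F (InF1.conj_ρ_pow F hv j))) _
  · exact InF1.conj_ρ_pow F (InF1.conj_T F hu (InF2.conj_t F (InF2.conj_ρ_pow F hv j))) _

/-- An element of the coset of `f t` preserves the two elementary subgroups. -/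
theorem ft_keep {x : G} (hxz : x * z = z * x) (hx : x ∉ D.CA) (hV : ¬ InV (D.φ x)) (h2 : D.φ x * D.φ x = 1) :
    (∀ v, F.InF1 v → F.InF1 (x * v * x⁻¹)) ∧ ∀ v, F.InF2 v → F.InF2 (x * v * x⁻¹) := by
  have hy : x * F.f ∈ D.CA := flip_mul hxz hx F.fz F.f_not_CA
  have hφ : D.φ (x * F.f) = D.φ x := by rw [D.φ_mul _ _ hxz F.fz, F.φf, mul_one]
  obtain ⟨h12, h21⟩ := F.t_swap hy (hφ ▸ hV) (by rw [hφ]; exact h2)
  have key : ∀ v, x * v * x⁻¹ = x * F.f * (F.f * v * F.f⁻¹) * (x * F.f)⁻¹ := fun v => by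
    rw [show x * F.f * (F.f * v * F.f⁻¹) * (x * F.f)⁻¹ = x * (F.f * F.f) * v * (F.f * F.f)⁻¹ * x⁻¹ by group, F.f2,
      mul_one, inv_one, mul_one]
  constructor <;> intro v hv <;> rw [key v]
  · exact h21 _ (F.swap_InF1 F.fz F.f_not_CA (by rw [F.φf]; exact inV_facts.1) hv)
  · exact h12 _ (F.swap_InF2 F.fz F.f_not_CA (by rw [F.φf]; exact inV_facts.1) hv)

end Frame

end Cfsg.Agent.Fus.AutL34
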