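import Mathlib
import Cfsg.Agent.Lib.Fus.AutLThreeFour.Classes

/-!
No elementary abelian subgroup of order 16 of `C(z)` contains an involution of the coset of `t` or `f t`.
-/

set_option autoImplicit false
set_option linter.unusedSectionVars false
set_option linter.style.haveILetI false

namespace Cfsg.Agent.Fus.AutL34

open Subgroup

variable {G : Type*} [Group G] [Finite G] {z : G} {D : Data z} (F : Frame D)

namespace Frame

theorem InF1.φ_cases {v : G} (h : F.InF1 v) : InV (D.φ v) := (InF1.mem_T F h).2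

/-- The elementary subgroup `A C₁`. -/
def S1 : Subgroup G where
  carrier := {x | F.InF1 x}
  one_mem' := ⟨1, one_mem _, 1, one_mem _, (one_mul 1).symm⟩
  inv_mem' := by
    rintro _ ⟨α, hα, c, hc, rfl⟩
    refine ⟨α, hα, c, hc, ?_⟩
    rw [mul_inv_rev, inv_eq_of_mul_eq_one_right (F.C1_sq hc), inv_eq_of_mul_eq_one_right (D.A_sq hα),
      T_A (F.mem_C1.1 hc).1 hα]
  mul_mem' := by
    rintro _ _ ⟨α, hα, c, hc, rfl⟩ ⟨β, hβ, d, hd, rfl⟩
    refine ⟨α * β, mul_mem hα hβ, c * d, mul_mem hc hd, ?_⟩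
    calc α * c * (β * d) = α * (c * β) * d := by group
      _ = α * β * (c * d) := by rw [T_A (F.mem_C1.1 hc).1 hβ]; group

theorem mem_S1 {x : G} : x ∈ F.S1 ↔ F.InF1 x := Iff.rfl

theorem S1_sq {x : G} (h : x ∈ F.S1) : x * x = 1 := by
  obtain ⟨α, hα, c, hc, rfl⟩ := h
  rw [sq_mul_A hα (F.mem_C1.1 hc).1, F.C1_sq hc]

theorem card_A : Nat.card D.A = 4 := by
  rw [← SetLike.coe_sort_coe, Nat.card_coe_set_eq]
  refine Set.ncard_eq_succ (n := 3) |>.2 ⟨1, {z, D.a, D.a * z}, ?_, ?_, ?_⟩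
  · simp [D.z1.symm, D.a_ne_one.symm, D.az_ne_one.symm]
  · ext y; exact ⟨fun h => h, fun h => h⟩
  · exact Set.ncard_eq_three.2 ⟨z, D.a, D.a * z, D.a_ne_z.symm,
      fun e => D.a_ne_one (mul_eq_right.1 e.symm), fun e => D.z1 (left_eq_mul.1 e), rfl⟩

include F in
theorem card_C1 : Nat.card F.C1 = 4 := by
  classical
  let g : F.C1 → {s : Equiv.Perm (Fin 4) // InV s} := fun c => ⟨D.φ c, (F.mem_C1.1 c.2).1.2⟩
  have hb : Function.Bijective g := by
    constructor
    · intro c d e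
      exact Subtype.ext (F.φ_inj1 c.2 d.2 (congrArg Subtype.val e))
    · rintro ⟨s, hs⟩
      obtain ⟨c, hc, e⟩ := F.exists_C1 hs
      exact ⟨⟨c, hc⟩, Subtype.ext e⟩
  rw [Nat.card_eq_of_bijective g hb, Nat.card_eq_fintype_card, Fintype.card_subtype]
  exact card_inV

theorem card_S1 : Nat.card F.S1 = 16 := by
  classical
  let Φ : D.A × F.C1 → F.S1 := fun p => ⟨p.1 * p.2, p.1, p.1.2, p.2, p.2.2, rfl⟩
  have hb : Function.Bijective Φ := by
    constructor
    · rintro ⟨⟨α, hα⟩, ⟨c, hc⟩⟩ ⟨⟨β, hβ⟩, ⟨d, hd⟩⟩ e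
      have e' : α * c = β * d := congrArg Subtype.val e
      have h2 : d * c⁻¹ = β⁻¹ * α := by
        calc d * c⁻¹ = β⁻¹ * (β * d) * c⁻¹ := by group
          _ = β⁻¹ * α := by rw [← e']; group
      have hm := mul_mem hd (inv_mem hc)
      have h1 : d * c⁻¹ = 1 :=
        F.r1_fix (h2 ▸ mul_mem (inv_mem hβ) hα) (F.mem_C1.1 hm).2
      rw [h1] at h2
      exact Prod.ext (Subtype.ext (inv_mul_eq_one.1 h2.symm).symm) (Subtype.ext (mul_inv_eq_one.1 h1).symm)
    · rintro ⟨_, α, hα, c, hc, rfl⟩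
      exact ⟨(⟨α, hα⟩, ⟨c, hc⟩), rfl⟩
  rw [← Nat.card_eq_of_bijective Φ hb, Nat.card_prod, card_A, F.card_C1]

/-- An element of `A C₁` outside `A` commutes with no element of `A C₂` outside `A`. -/
theorem InF1_comm_InF2 {v w : G} (hv : F.InF1 v) (hvA : v ∉ D.A) (hw : F.InF2 w) (h : v * w = w * v) : w ∈ D.A := by
  obtain ⟨α, hα, c, hc, rfl⟩ := hv
  obtain ⟨β, hβ, d, hd, rfl⟩ := hw
  by_contra hwA
  have hc1 : c ≠ 1 := fun e => hvA (by rw [e, mul_one]; exact hα)
  have hd1 : d ≠ 1 := fun e => hwA (by rw [e, mul_one]; exact hβ)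
  have hcT := (F.mem_C1.1 hc).1
  have hdT := (F.mem_C2.1 hd).1
  refine F.bracket_ne hc hd hc1 hd1 ?_
  have hcd : Commute c d := by
    have h1 : Commute (α * c) d := by
      have h2 : Commute (α * c) β := (show Commute α β from D.A_comm hα hβ).mul_left (T_A hcT hβ)
      have h3 : Commute (α * c) (β * d) := h
      have h4 := (Commute.inv_right h2).mul_right h3
      rwa [inv_mul_cancel_left] at h4
    have h5 := (Commute.inv_left ((T_A hdT hα).symm : Commute α d)).mul_left h1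
    rwa [inv_mul_cancel_left] at h5
  calc c * d * c * d = c * (d * c) * d := by group
    _ = c * (c * d) * d := by rw [hcd.eq]
    _ = (c * c) * (d * d) := by group
    _ = 1 := by rw [F.C1_sq hc, F.C2_sq hd, one_mul]

/-- Fixed points in an elementary subgroup of an element moving `a` and preserving that subgroup. -/
theorem fixed_le_four {x : G} (hxz : x * z = z * x) (hx : x ∉ D.CA) (hV : ¬ InV (D.φ x)) (hxx : x * x = 1)
    (S : Set G) (hS : S ⊆ {v | v * x = x * v}) (hF : (∀ v ∈ S, F.InF1 v) ∨ ∀ v ∈ S, F.InF2 v) :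
    S.ncard ≤ 4 := by
  classical
  have hs2 : D.φ x * D.φ x = 1 := by rw [← D.φ_mul _ _ hxz hxz, hxx, D.φ_one]
  obtain ⟨u, hu, hu1, hfu, huniq⟩ := transp_fixed _ hV hs2
  have key : ∀ (In : G → Prop) (c0 : G), (∀ v ∈ S, In v) →
      (∀ v, In v → v ∈ S → ∃ α ∈ D.A, v = α ∨ v = α * c0) → S.ncard ≤ 4 := by
    intro In c0 hIn hdec
    by_cases hex : ∃ α ∈ D.A, α * c0 ∈ S
    · obtain ⟨α0, hα0, hm0⟩ := hex
      have hsub : S ⊆ ({1, z, α0 * c0, α0 * z * c0} : Set G) := by
        intro v hv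
        obtain ⟨α, hα, e | e⟩ := hdec v (hIn v hv) hv
        · rcases flip_comm hxz hx hα (by rw [← e]; exact (hS hv).symm) with e' | e' <;> simp [e, e']
        · have hcomm : x * (α * α0) = α * α0 * x := by
            have h1 : Commute x v := (hS hv).symm
            have h2 : Commute x (α0 * c0) := (hS hm0).symm
            have h3 := h1.mul_right (Commute.inv_right h2)
            rw [e, show α * c0 * (α0 * c0)⁻¹ = α * α0⁻¹ by group,
              inv_eq_of_mul_eq_one_right (D.A_sq hα0)] at h3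
            exact h3
          rcases flip_comm hxz hx (mul_mem hα hα0) hcomm with e' | e'
          · have : α = α0 := by rw [← mul_one α, ← D.A_sq hα0, ← mul_assoc, e', one_mul]
            simp [e, this]
          · have : α = α0 * z := by
              rw [← mul_one α, ← D.A_sq hα0, ← mul_assoc, e', D.A_comm hα0 D.z_mem_A]
            simp [e, this]
      refine (Set.ncard_le_ncard hsub).trans ?_
      refine (Set.ncard_insert_le _ _).trans ?_
      refine Nat.succ_le_succ ((Set.ncard_insert_le _ _).trans (Nat.succ_le_succ ((Set.ncard_insert_le _ _).trans ?_)))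
      simp
    · push Not at hex
      have hsub : S ⊆ ({1, z} : Set G) := by
        intro v hv
        obtain ⟨α, hα, e | e⟩ := hdec v (hIn v hv) hv
        · rcases flip_comm hxz hx hα (by rw [← e]; exact (hS hv).symm) with e' | e' <;> simp [e, e']
        · exact absurd (e ▸ hv) (hex α hα)
      refine (Set.ncard_le_ncard hsub).trans ((Set.ncard_insert_le _ _).trans ?_)
      simp
  have hφfix : ∀ α c, α ∈ D.A → c ∈ D.T → α * c ∈ S → D.φ c = 1 ∨ D.φ c = u := by
    intro α c hα hc hm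
    refine huniq _ hc.2 ?_
    have h1 : x * (α * c) * x⁻¹ = α * c := mul_inv_eq_iff_eq_mul.2 (hS hm).symm
    have hz' : (α * c) * z = z * (α * c) := tz (mul_mem (D.A_le_T hα) hc)
    have h2 := congrArg D.φ h1
    rw [D.φ_conj hxz hz', D.φ_mul _ _ (D.cz _ (D.A_le_E hα)) (tz hc), D.φ_of_mem (D.A_le_E hα), one_mul] at h2
    exact h2
  rcases hF with hF | hF
  · obtain ⟨c0, hc0, hc0u⟩ := F.exists_C1 hu
    refine key F.InF1 c0 hF fun v hv hvS => ?_
    obtain ⟨α, hα, c, hc, rfl⟩ := hv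
    rcases hφfix α c hα (F.mem_C1.1 hc).1 hvS with e | e
    · exact ⟨α, hα, Or.inl (by rw [F.φ_inj1 hc (one_mem _) (by rw [e, D.φ_one]), mul_one])⟩
    · exact ⟨α, hα, Or.inr (by rw [F.φ_inj1 hc hc0 (by rw [e, hc0u])])⟩
  · obtain ⟨c0, hc0, hc0u⟩ := F.exists_C2 hu
    refine key F.InF2 c0 hF fun v hv hvS => ?_
    obtain ⟨α, hα, c, hc, rfl⟩ := hv
    rcases hφfix α c hα (F.mem_C2.1 hc).1 hvS with e | e
    · exact ⟨α, hα, Or.inl (by rw [F.φ_inj2 hc (one_mem _) (by rw [e, D.φ_one]), mul_one])⟩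
    · exact ⟨α, hα, Or.inr (by rw [F.φ_inj2 hc hc0 (by rw [e, hc0u])])⟩

include F in
/-- An elementary abelian subgroup of `C(z)` containing an element of the coset of `t` or `f t` has order less
than 16. -/
theorem no16 {x : G} (hV : ¬ InV (D.φ x)) (Q : Subgroup G) (hQC : Q ≤ centralizer ({z} : Set G))
    (hsq : ∀ q ∈ Q, q * q = 1) (hxQ : x ∈ Q) : Nat.card Q < 16 := by
  classical
  have hqz : ∀ q ∈ Q, q * z = z * q := fun q hq => Data.mem_C_iff.1 (hQC hq)
  have hcomm : ∀ p ∈ Q, ∀ q ∈ Q, p * q = q * p := fun p hp q hq => by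
    calc p * q = (p * q)⁻¹ := (inv_eq_of_mul_eq_one_left (hsq _ (mul_mem hp hq))).symm
      _ = q * p := by rw [mul_inv_rev, inv_eq_of_mul_eq_one_left (hsq _ hp), inv_eq_of_mul_eq_one_left (hsq _ hq)]
  have hs2 : ∀ q ∈ Q, D.φ q * D.φ q = 1 := fun q hq => by
    rw [← D.φ_mul _ _ (hqz q hq) (hqz q hq), hsq q hq, D.φ_one]
  set K : Set G := {q | q ∈ Q ∧ q ∈ D.T} with hK
  -- fibres of the class map
  let cl : G → Bool × Bool := fun q => (decide (q ∈ D.CA), decide (InV (D.φ q)))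
  have hfib : ∀ p ∈ Q, ∀ q ∈ Q, cl p = cl q → p * q ∈ K := by
    intro p hp q hq e
    simp only [cl, Prod.mk.injEq, decide_eq_decide] at e
    refine ⟨mul_mem hp hq, ?_, ?_⟩
    · by_cases hc : p ∈ D.CA
      · exact mul_mem hc (e.1.1 hc)
      · exact flip_mul (hqz p hp) hc (hqz q hq) fun h => hc (e.1.2 h)
    · rw [D.φ_mul _ _ (hqz p hp) (hqz q hq)]
      by_cases hv : InV (D.φ p)
      · exact ((coset_rule _ (D.φ q) hv).1).2 (e.2.1 hv)
      · refine index_two_rule _ (hs2 p hp) hv _ (hs2 q hq) (fun h => hv (e.2.2 h)) ?_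
        rw [← D.φ_mul _ _ (hqz p hp) (hqz q hq)]
        exact hs2 _ (mul_mem hp hq)
  have hcount : ∀ (m : ℕ) (I : Finset (Bool × Bool)), K.ncard ≤ m → (∀ q ∈ Q, cl q ∈ I) →
      Nat.card Q ≤ I.card * m := by
    intro m I hm hI
    rw [← SetLike.coe_sort_coe, Nat.card_coe_set_eq]
    have hsub : (Q : Set G) ⊆ ⋃ b ∈ I, {q | q ∈ Q ∧ cl q = b} := fun q hq =>
      Set.mem_iUnion₂.2 ⟨cl q, hI q hq, hq, rfl⟩
    refine (Set.ncard_le_ncard hsub).trans ((Finset.set_ncard_biUnion_le _ _).trans ?_)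
    refine (Finset.sum_le_card_nsmul _ _ m fun b _ => ?_).trans_eq (smul_eq_mul _ _)
    rcases Set.eq_empty_or_nonempty {q | q ∈ Q ∧ cl q = b} with e | ⟨p, hp, hpb⟩
    · rw [e]; simp
    · refine le_trans (Set.ncard_le_ncard_of_injOn (fun q => p * q) (fun q hq => hfib p hp q hq.1 (hpb.trans hq.2.symm))
        (fun a _ b _ e => mul_left_cancel e)) hm
  have hKinv : ∀ v ∈ K, F.InF1 v ∨ F.InF2 v := fun v hv => F.invol_InF hv.2 (hsq v hv.1)
  have h2 : ∀ S : Set G, S ⊆ ({1, z} : Set G) → S.ncard ≤ 2 := fun S h =>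
    (Set.ncard_le_ncard h).trans ((Set.ncard_insert_le _ _).trans (by simp))
  have hswap : (∃ w ∈ Q, w ∉ D.CA ∧ InV (D.φ w)) → Nat.card Q < 16 := by
    rintro ⟨w, hw, hwC, hwV⟩
    refine lt_of_le_of_lt (hcount 2 Finset.univ (h2 K fun v hv => ?_) fun q _ => Finset.mem_univ _) (by simp)
    rcases F.swap_fixed (hqz w hw) hwC hwV hv.2 (hsq v hv.1) (hcomm w hw v hv.1) with e | e <;> simp [e]
  by_cases hnw : ∃ w ∈ Q, w ∉ D.CA ∧ InV (D.φ w)
  · exact hswap hnw
  push Not at hnw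
  by_cases hxC : x ∈ D.CA
  · -- every element centralises `a`
    have hall : ∀ q ∈ Q, q ∈ D.CA := by
      intro q hq
      by_contra hqC
      have hqV := hnw q hq hqC
      have hm := mul_mem hxQ hq
      have hmC : x * q ∉ D.CA := fun h => hqC (by
        have := mul_mem (inv_mem hxC) h; rwa [inv_mul_cancel_left] at this)
      refine hnw _ hm hmC ?_
      rw [D.φ_mul _ _ (hqz x hxQ) (hqz q hq)]
      refine index_two_rule _ (hs2 x hxQ) hV _ (hs2 q hq) hqV ?_
      rw [← D.φ_mul _ _ (hqz x hxQ) (hqz q hq)]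
      exact hs2 _ hm
    have hKA : K ⊆ (D.A : Set G) := by
      intro v hv
      have he : x * v * x⁻¹ = v := mul_inv_eq_iff_eq_mul.2 (hcomm x hxQ v hv.1)
      rcases hKinv v hv with h1 | h1
      · have := (F.t_swap hxC hV (hs2 x hxQ)).1 v h1
        rw [he] at this
        exact F.InF1_inter h1 this
      · have := (F.t_swap hxC hV (hs2 x hxQ)).2 v h1
        rw [he] at this
        exact F.InF1_inter this h1
    refine lt_of_le_of_lt (hcount 4 {(true, true), (true, false)} ((Set.ncard_le_ncard hKA).trans ?_) fun q hq => ?_) (by simp)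
    · rw [← Nat.card_coe_set_eq]; exact (card_A (D := D)).le
    · by_cases hqV : InV (D.φ q) <;> simp [cl, hall q hq, hqV]
  · have hK4 : K.ncard ≤ 4 := by
      have hKx : K ⊆ {v | v * x = x * v} := fun v hv => hcomm v hv.1 x hxQ
      refine F.fixed_le_four (hqz x hxQ) hxC hV (hsq x hxQ) K hKx ?_
      by_cases h1 : ∀ v ∈ K, F.InF1 v
      · exact Or.inl h1
      push Not at h1
      obtain ⟨w, hw, hw1⟩ := h1
      refine Or.inr fun v hv => ?_
      rcases hKinv v hv with h | h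
      · by_cases hvA : v ∈ D.A
        · exact ⟨v, hvA, 1, one_mem _, (mul_one v).symm⟩
        · exfalso
          have hwA := F.InF1_comm_InF2 h hvA ((hKinv w hw).resolve_left hw1) (hcomm v hv.1 w hw.1)
          exact hw1 ⟨w, hwA, 1, one_mem _, (mul_one w).symm⟩
      · exact h
    refine lt_of_le_of_lt (hcount 4 {(true, true), (false, false)} hK4 fun q hq => ?_) (by simp)
    by_cases hqC : q ∈ D.CA
    · have hqV : InV (D.φ q) := by
        by_contra hqV
        have hm := mul_mem hxQ hq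
        have hmC : x * q ∉ D.CA := fun h => hxC (by
          have := mul_mem h (inv_mem hqC); rwa [mul_inv_cancel_right] at this)
        refine hnw _ hm hmC ?_
        rw [D.φ_mul _ _ (hqz x hxQ) (hqz q hq)]
        refine index_two_rule _ (hs2 x hxQ) hV _ (hs2 q hq) hqV ?_
        rw [← D.φ_mul _ _ (hqz x hxQ) (hqz q hq)]
        exact hs2 _ hm
      simp [cl, hqC, hqV]
    · simp [cl, hqC, hnw q hq hqC]

end Frame

end Cfsg.Agent.Fus.AutL34
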