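import Mathlib
import Cfsg.Agent.Lib.Fus.AutLThreeFour.Fixed

/-!
The conjugates of `z` in `C(z)` lie in `T`.
-/

set_option autoImplicit false
set_option linter.unusedSectionVars false
set_option linter.style.haveILetI false

namespace Cfsg.Agent.Fus.AutL34

open Subgroup Cfsg.Agent.Spor.ExtraOut

variable {G : Type*} [Group G] [Finite G] {z : G} {D : Data z} (F : Frame D)

namespace Frame

include F in
theorem exists_conj_zero {y : G} (hy : y ∈ D.A) (hy1 : y ≠ 1) : ∃ n ∈ D.N, n * y * n⁻¹ = z := by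
  have hfa : F.f * D.a * F.f⁻¹ = D.a * z := by rw [F.f_inv, F.fa]
  have hfb : F.f * (D.a * z) * F.f⁻¹ = D.a := by
    rw [show F.f * (D.a * z) * F.f⁻¹ = (F.f * D.a * F.f⁻¹) * (F.f * z * F.f⁻¹) by group, hfa, F.fz,
      mul_inv_cancel_right, mul_assoc, D.zz, mul_one]
  have hf := F.f_N
  have hσ : F.σ * z * F.σ⁻¹ = D.a ∨ F.σ * z * F.σ⁻¹ = D.a * z := by
    rcases conj_A F.σN D.z_mem_A with e | e | e | e
    · exact absurd (conj_eq_one_iff.1 e) D.z1
    · exact absurd e F.σz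
    · exact Or.inl e
    · exact Or.inr e
  have back : ∀ p, F.σ * z * F.σ⁻¹ = p → F.σ⁻¹ * p * F.σ⁻¹⁻¹ = z := by
    intro p hp; rw [← hp]; group
  rcases hy with e | e | e | e
  · exact absurd e hy1
  · exact ⟨1, one_mem _, by rw [e]; group⟩
  all_goals rcases hσ with s | s
  · exact ⟨F.σ⁻¹, inv_mem F.σN, by rw [e]; exact back _ s⟩
  · refine ⟨F.σ⁻¹ * F.f, mul_mem (inv_mem F.σN) hf, ?_⟩
    rw [e, show F.σ⁻¹ * F.f * (D.a) * (F.σ⁻¹ * F.f)⁻¹ = F.σ⁻¹ * (F.f * D.a * F.f⁻¹) * F.σ⁻¹⁻¹ by group, hfa]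
    exact back _ s
  · refine ⟨F.σ⁻¹ * F.f, mul_mem (inv_mem F.σN) hf, ?_⟩
    rw [e, show F.σ⁻¹ * F.f * (D.a * z) * (F.σ⁻¹ * F.f)⁻¹ = F.σ⁻¹ * (F.f * (D.a * z) * F.f⁻¹) * F.σ⁻¹⁻¹ by group, hfb]
    exact back _ s
  · exact ⟨F.σ⁻¹, inv_mem F.σN, by rw [e]; exact back _ s⟩

include F in
theorem A_isX {y : G} (hy : y ∈ D.A) (hy1 : y ≠ 1) : IsX z y := by
  obtain ⟨n, -, hn⟩ := F.exists_conj_zero hy hy1
  exact ⟨n⁻¹, by rw [← hn]; group⟩

include F in
/-- A two-subgroup of `C(z)` of order at least 256 contains `E`. -/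
theorem E_le_of_256 (W : Subgroup G) (hWp : IsPGroup 2 W) (hW : W ≤ centralizer ({z} : Set G))
    (h : 256 ≤ Nat.card W) : D.E ≤ W := by
  haveI : Fact (Nat.Prime 2) := ⟨Nat.prime_two⟩
  haveI hEn : (D.E.subgroupOf (centralizer ({z} : Set G))).Normal := by rw [← D.φHom_ker]; infer_instance
  set C := centralizer ({z} : Set G) with hC
  have hp : IsPGroup 2 ↥(W.subgroupOf C ⊔ D.E.subgroupOf C) :=
    IsPGroup.to_sup_of_normal_right hWp.comap_subtype (IsPGroup.of_card (n := 5) (by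
      rw [Nat.card_congr (subgroupOfEquivOfLe D.E_le).toEquiv, D.card_E]; norm_num))
  obtain ⟨n, hn⟩ := hp.exists_card_eq
  have hd := Subgroup.card_subgroup_dvd_card (W.subgroupOf C ⊔ D.E.subgroupOf C)
  rw [hn, D.card_C, show (768 : ℕ) = 2 ^ 8 * 3 by norm_num] at hd
  have h8 : n ≤ 8 := (Nat.pow_dvd_pow_iff_le_right (by norm_num)).1
    ((Nat.Coprime.pow_left n (by norm_num : Nat.Coprime 2 3)).dvd_of_dvd_mul_right hd)
  have heq : W.subgroupOf C = W.subgroupOf C ⊔ D.E.subgroupOf C := by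
    refine Subgroup.eq_of_le_of_card_ge le_sup_left ?_
    rw [hn, Nat.card_congr (subgroupOfEquivOfLe hW).toEquiv]
    calc 2 ^ n ≤ 2 ^ 8 := Nat.pow_le_pow_right (by norm_num) h8
      _ ≤ _ := by norm_num; exact h
  intro y hy
  have h1 : (⟨y, D.E_le hy⟩ : ↥C) ∈ W.subgroupOf C := by
    rw [heq]; exact mem_sup_right (show _ ∈ D.E.subgroupOf C from hy)
  exact h1

include F in
/-- For an involution of the coset of `f`, a Sylow subgroup of the centraliser lies in `C(z)`. -/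
theorem f_sylow {x : G} (hxz : x * z = z * x) (hxx : x * x = 1) (hx : x ∉ D.CA) (hV : InV (D.φ x)) :
    ∃ W : Subgroup G, W ≤ centralizer ({z} : Set G) ⊓ centralizer ({x} : Set G) ∧ IsPGroup 2 W ∧
      ∀ Q : Subgroup G, IsPGroup 2 Q → Q ≤ centralizer ({x} : Set G) →
        ∃ c ∈ centralizer ({x} : Set G), ∀ q ∈ Q, c * q * c⁻¹ ∈ W := by
  obtain ⟨k, hkT, hkx, hkk⟩ := F.swap_root hxz hxx hx hV
  obtain ⟨W, hW, hWp, -, hc⟩ := sylow_cent hkx (tz hkT) hkk (D.pow_four_of_sq hkk) fun h hh hhz hn hX => by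
    refine (F.swap_fixed hxz hx hV (Frame.sq_mem_T hhz hn) (hX.mul_self D.zz) ?_).resolve_left (hX.ne_one D.z1)
    calc x * (h * h) = (x * h) * h := by group
      _ = h * (x * h) := by rw [← mul_assoc h, hh]
      _ = h * h * x := by rw [← hh, ← mul_assoc]
  exact ⟨W, hW, hWp, hc⟩

include F in
/-- An involution of the coset of `f` is not conjugate to `z`. -/
theorem not_isX_f {x : G} (hxz : x * z = z * x) (hxx : x * x = 1) (hx : x ∉ D.CA) (hV : InV (D.φ x)) :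
    ¬ IsX z x := by
  rintro ⟨g, hg⟩
  obtain ⟨W, hW, hWp, hconj⟩ := F.f_sylow hxz hxx hx hV
  obtain ⟨c, hc, hcW⟩ := hconj (F.P.map (MulAut.conj g).toMonoidHom) (F.P_isPGroup.map _) (by
    rintro _ ⟨y, hy, rfl⟩
    rw [mem_centralizer_singleton_iff]
    show g * y * g⁻¹ * x = x * (g * y * g⁻¹)
    rw [← hg]
    exact comm_conj (Data.mem_C_iff.1 (F.P_le_C hy)))
  have h256 : 256 ≤ Nat.card W := by
    rw [← F.card_P]
    refine Nat.card_le_card_of_injective (fun y : F.P => (⟨c * (g * y * g⁻¹) * c⁻¹, hcW _ ⟨y, y.2, rfl⟩⟩ : W))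
      fun y y' e => Subtype.ext ?_
    have e1 : c * (g * (y : G) * g⁻¹) * c⁻¹ = c * (g * (y' : G) * g⁻¹) * c⁻¹ := congrArg Subtype.val e
    exact mul_left_cancel (mul_right_cancel (mul_left_cancel (mul_right_cancel e1)))
  have hE := F.E_le_of_256 W hWp (hW.trans inf_le_left) h256
  rcases D.eq_of_cent_E (g := x) (fun y hy => (mem_centralizer_singleton_iff.1 (hW (hE hy)).2).symm) with e | e
  · exact (IsX.ne_one D.z1 ⟨g, hg⟩) e
  · exact hx (e ▸ D.A_le_CA D.z_mem_A)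

include F in
/-- The key consequence of the absence of elementary subgroups of order 16. -/
theorem no_pull {g v y : G} (hy : y * z = z * y) (hV : ¬ InV (D.φ y)) (hv : v ∈ D.T) (hvv : v * v = 1)
    (hgv : g * v * g⁻¹ = z) (hgz : g * z * g⁻¹ = y) : False := by
  have key : ∀ h w, F.InF1 w → h * w * h⁻¹ = z → h * z * h⁻¹ = y → False := by
    intro h w hw h1 h2
    have hQ : Nat.card (F.S1.map (MulAut.conj h).toMonoidHom) = 16 := by
      rw [card_map_of_injective (MulAut.conj h).injective, F.card_S1]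
    have hmem : z ∈ F.S1.map (MulAut.conj h).toMonoidHom := ⟨w, hw, h1⟩
    have hsq : ∀ q ∈ F.S1.map (MulAut.conj h).toMonoidHom, q * q = 1 := by
      rintro _ ⟨q, hq, rfl⟩
      show h * q * h⁻¹ * (h * q * h⁻¹) = 1
      rw [show h * q * h⁻¹ * (h * q * h⁻¹) = h * (q * q) * h⁻¹ by group, F.S1_sq hq, mul_one, mul_inv_cancel]
    have hz1 : z ∈ F.S1 := ⟨z, D.z_mem_A, 1, one_mem _, (mul_one z).symm⟩
    have hlt := F.no16 hV _ (fun q hq => by
      refine Data.mem_C_iff.2 ?_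
      have a1 := hsq _ (mul_mem hq hmem)
      calc q * z = (q * z)⁻¹ := (inv_eq_of_mul_eq_one_left a1).symm
        _ = z * q := by
          rw [mul_inv_rev, inv_eq_of_mul_eq_one_left (hsq q hq), inv_eq_of_mul_eq_one_left D.zz]) hsq
      ⟨z, hz1, h2⟩
    omega
  rcases F.invol_InF hv hvv with h1 | h1
  · exact key g v h1 hgv hgz
  · refine key (g * F.f) (F.f * v * F.f) ?_ ?_ ?_
    · have := F.swap_InF2 F.fz F.f_not_CA (by rw [F.φf]; exact inV_facts.1) h1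
      rwa [F.f_inv] at this
    · rw [show g * F.f * (F.f * v * F.f) * (g * F.f)⁻¹ = g * ((F.f * F.f) * v) * g⁻¹ by group, F.f2, one_mul]
      exact hgv
    · rw [show g * F.f * z * (g * F.f)⁻¹ = g * (F.f * z * F.f⁻¹) * g⁻¹ by group, F.fz, mul_inv_cancel_right]
      exact hgz

include F in
/-- An involution of the coset of `f t` fixes an element of `F₁` and one of `F₂` outside `A`. -/
theorem ft_root {x : G} (hxz : x * z = z * x) (hxx : x * x = 1) (hx : x ∉ D.CA) (hV : ¬ InV (D.φ x)) :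
    ∃ k, k * z = z * k ∧ k * x = x * k ∧ k * k = z := by
  have hs : D.φ x * D.φ x = 1 := by rw [← D.φ_mul _ _ hxz hxz, hxx, D.φ_one]
  obtain ⟨u, hu, hu1, hfu, -⟩ := transp_fixed _ hV hs
  obtain ⟨c, hc, hcu⟩ := F.exists_C1 hu
  obtain ⟨d, hd, hdu⟩ := F.exists_C2 hu
  have hxN := D.C_le_N (Data.mem_C_iff.2 hxz)
  obtain ⟨k1, k2⟩ := F.ft_keep hxz hx hV hs
  have hxi : x⁻¹ = x := inv_eq_of_mul_eq_one_right hxx
  -- adjust a representative
  have adj : ∀ w α, w ∈ D.T → α ∈ D.A → x * w * x⁻¹ = α * w → ∃ γ ∈ D.A, x * (γ * w) = γ * w * x := by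
    intro w α hw hα e
    have h2 : x * α * x⁻¹ = α := by
      have h3 : x * (α * w) * x⁻¹ = w := by
        rw [← e, show x * (x * w * x⁻¹) * x⁻¹ = (x * x) * w * (x * x)⁻¹ by group, hxx, one_mul, inv_one, mul_one]
      rw [show x * (α * w) * x⁻¹ = (x * α * x⁻¹) * (x * w * x⁻¹) by group, e, ← mul_assoc, mul_eq_right] at h3
      rw [eq_inv_of_mul_eq_one_left h3, inv_eq_of_mul_eq_one_right (D.A_sq hα)]
    rcases flip_comm hxz hx hα (mul_inv_eq_iff_eq_mul.1 h2) with e' | e' <;> rw [e'] at e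
    · exact ⟨1, one_mem _, by rw [one_mul]; exact mul_inv_eq_iff_eq_mul.1 (by rw [e, one_mul])⟩
    · refine ⟨D.a, D.a_mem_A, mul_inv_eq_iff_eq_mul.1 ?_⟩
      rw [show x * (D.a * w) * x⁻¹ = (x * D.a * x⁻¹) * (x * w * x⁻¹) by group, flip_a hxz hx, e, mul_assoc D.a,
        ← mul_assoc z, D.zz, one_mul]
  have hcT := (F.mem_C1.1 hc).1
  have hdT := (F.mem_C2.1 hd).1
  obtain ⟨α, hα, c', hc', ec⟩ := k1 c ⟨1, one_mem _, c, hc, (one_mul c).symm⟩
  obtain ⟨β, hβ, d', hd', ed⟩ := k2 d ⟨1, one_mem _, d, hd, (one_mul d).symm⟩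
  have hcc : c' = c := F.φ_inj1 hc' hc (by
    have h1 := congrArg D.φ ec
    rw [D.φ_conj hxz (tz hcT), D.φ_mul _ _ (D.cz _ (D.A_le_E hα)) (tz (F.mem_C1.1 hc').1),
      D.φ_of_mem (D.A_le_E hα), one_mul, hcu, hfu] at h1
    rw [← h1, hcu])
  have hdd : d' = d := F.φ_inj2 hd' hd (by
    have h1 := congrArg D.φ ed
    rw [D.φ_conj hxz (tz hdT), D.φ_mul _ _ (D.cz _ (D.A_le_E hβ)) (tz (F.mem_C2.1 hd').1),
      D.φ_of_mem (D.A_le_E hβ), one_mul, hdu, hfu] at h1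
    rw [← h1, hdu])
  rw [hcc] at ec; rw [hdd] at ed
  obtain ⟨γ, hγ, hγc⟩ := adj c α hcT hα ec
  obtain ⟨δ, hδ, hδd⟩ := adj d β hdT hβ ed
  have hkx : x * (γ * c * (δ * d)) = γ * c * (δ * d) * x :=
    (Commute.mul_right (show Commute x (γ * c) from hγc) (show Commute x (δ * d) from hδd)).eq
  have hek : γ * c * (δ * d) = γ * δ * (c * d) := by
    rw [mul_assoc γ c, ← mul_assoc c δ d, T_A hcT hδ]; group
  have hgd : γ * δ ∈ D.A := mul_mem hγ hδ
  have hcd : c * d ∈ D.T := mul_mem hcT hdT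
  have hkk : γ * c * (δ * d) * (γ * c * (δ * d)) = c * d * c * d := by
    rw [hek, sq_mul_A hgd hcd]; group
  refine ⟨γ * c * (δ * d), tz (hek ▸ mul_mem (D.A_le_T hgd) hcd), hkx.symm, ?_⟩
  rw [hkk]
  refine (flip_comm hxz hx (F.bracket_mem hc hd) ?_).resolve_left (F.bracket_ne hc hd ?_ ?_)
  · rw [← hkk]
    exact (Commute.mul_right (show Commute x _ from hkx) (show Commute x _ from hkx)).eq
  · exact fun e => hu1 (by rw [← hcu, e, D.φ_one])
  · exact fun e => hu1 (by rw [← hdu, e, D.φ_one])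

include F in
/-- An involution of the coset of `f t` is not conjugate to `z`. -/
theorem not_isX_ft {x : G} (hxz : x * z = z * x) (hxx : x * x = 1) (hx : x ∉ D.CA) (hV : ¬ InV (D.φ x)) :
    ¬ IsX z x := by
  rintro ⟨g, hg⟩
  obtain ⟨k, hkz, hkx, hkk⟩ := F.ft_root hxz hxx hx hV
  set k' := g⁻¹ * k * g with hk'
  have hk'z : k' * z = z * k' := by
    have := comm_conj (g := g⁻¹) hkx
    rw [inv_inv, ← hg, show g⁻¹ * (g * z * g⁻¹) * g = z by group] at this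
    exact this
  have hk'k' : k' * k' = g⁻¹ * z * g := by rw [hk', ← hkk]; group
  have hk4 : k' ^ 2 ^ 2 = 1 := by
    rw [show 2 ^ 2 = 2 * 2 from rfl, pow_mul, pow_two, pow_two, hk'k',
      show g⁻¹ * z * g * (g⁻¹ * z * g) = g⁻¹ * (z * z) * g by group, D.zz, mul_one, inv_mul_cancel]
  have hT := Frame.sq_mem_T (D := D) hk'z ⟨2, hk4⟩
  rw [hk'k'] at hT
  exact F.no_pull hxz hV hT
    (by rw [show g⁻¹ * z * g * (g⁻¹ * z * g) = g⁻¹ * (z * z) * g by group, D.zz, mul_one, inv_mul_cancel])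
    (by group) hg

include F in
/-- The conjugates of `z` in `C(z)` lie in `T`. -/
theorem X_sub_T {x : G} (hX : IsX z x) (hxz : x * z = z * x) : x ∈ D.T := by
  have hxx := hX.mul_self D.zz
  by_cases hxC : x ∈ D.CA
  swap
  · by_cases hV : InV (D.φ x)
    · exact absurd hX (F.not_isX_f hxz hxx hxC hV)
    · exact absurd hX (F.not_isX_ft hxz hxx hxC hV)
  by_contra hxT
  have hV : ¬ InV (D.φ x) := fun h => hxT ⟨hxC, h⟩
  obtain ⟨g, hg⟩ := hX
  -- conjugates of the four-group in `C(z)`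
  have hsq : ∀ y ∈ D.A, g⁻¹ * y * g * (g⁻¹ * y * g) = 1 := fun y hy => by
    rw [show g⁻¹ * y * g * (g⁻¹ * y * g) = g⁻¹ * (y * y) * g by group, D.A_sq hy, mul_one, inv_mul_cancel]
  have hcz : ∀ y ∈ D.A, g⁻¹ * y * g * z = z * (g⁻¹ * y * g) := fun y hy => by
    have := comm_conj (g := g⁻¹) (D.CA_comm hxC hy).symm
    rw [inv_inv, ← hg, show g⁻¹ * (g * z * g⁻¹) * g = z by group] at this
    exact this
  have hno : ∀ y ∈ D.A, y ≠ 1 → g⁻¹ * y * g ∉ D.T := by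
    intro y hy hy1 hT
    obtain ⟨n, hn, hnz⟩ := F.exists_conj_zero hy hy1
    have hm := D.conj_CA hn hxC
    refine F.no_pull (g := n * g) (D.mem_CA.1 hm).1 (fun h => hxT ?_) hT (hsq y hy) (by rw [← hnz]; group)
      (by rw [← hg]; group)
    have := D.conj_T (inv_mem hn) (show n * x * n⁻¹ ∈ D.T from ⟨hm, h⟩)
    rwa [show n⁻¹ * (n * x * n⁻¹) * n⁻¹⁻¹ = x by group] at this
  have hcls : ∀ y ∈ D.A, y ≠ 1 → g⁻¹ * y * g ∈ D.CA ∧ ¬ InV (D.φ (g⁻¹ * y * g)) := by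
    intro y hy hy1
    have hXy : IsX z (g⁻¹ * y * g) := by
      have := (F.A_isX hy hy1).conj g⁻¹
      rwa [inv_inv] at this
    by_cases hC : g⁻¹ * y * g ∈ D.CA
    · exact ⟨hC, fun h => hno y hy hy1 ⟨hC, h⟩⟩
    · by_cases h : InV (D.φ (g⁻¹ * y * g))
      · exact absurd hXy (F.not_isX_f (hcz y hy) (hsq y hy) hC h)
      · exact absurd hXy (F.not_isX_ft (hcz y hy) (hsq y hy) hC h)
  obtain ⟨h1C, h1V⟩ := hcls z D.z_mem_A D.z1
  obtain ⟨h2C, h2V⟩ := hcls D.a D.a_mem_A D.a_ne_one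
  obtain ⟨h3C, h3V⟩ := hcls _ D.az_mem_A D.az_ne_one
  apply h3V
  have e : g⁻¹ * (D.a * z) * g = (g⁻¹ * D.a * g) * (g⁻¹ * z * g) := by group
  have c1 := hcz z D.z_mem_A
  have c2 := hcz D.a D.a_mem_A
  rw [e, D.φ_mul _ _ c2 c1]
  refine index_two_rule _ ?_ h2V _ ?_ h1V ?_
  · rw [← D.φ_mul _ _ c2 c2, hsq _ D.a_mem_A, D.φ_one]
  · rw [← D.φ_mul _ _ c1 c1, hsq _ D.z_mem_A, D.φ_one]
  · rw [← D.φ_mul _ _ c2 c1, ← e, ← D.φ_mul _ _ (hcz _ D.az_mem_A) (hcz _ D.az_mem_A), hsq _ D.az_mem_A, D.φ_one]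

end Frame

end Cfsg.Agent.Fus.AutL34
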