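import Mathlib
import Cfsg.Prelude.Def_CaseTheorems
import Cfsg.Agent.Lib.Grp.Cores
import Cfsg.Agent.Lib.Invol.CentRank.Fusion
import Cfsg.Agent.Lib.Fus.AutLThreeFour.XClass

/-!
The odd core.
-/

set_option autoImplicit false
set_option linter.unusedSectionVars false
set_option linter.style.haveILetI false

namespace Cfsg.Agent.Fus.AutL34

open Subgroup

variable {G : Type*} [Group G] [Finite G] {z : G} (D : Data z)

theorem odd_core_odd : Odd (Nat.card (Cfsg.oddCore G)) := Invol.CentRank.oddCore_odd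

namespace Data

theorem eq_one_of_core_E {x : G} (hx : x ∈ Cfsg.oddCore G) (hxE : x ∈ D.E) : x = 1 := by
  have h1 : orderOf x ∣ Nat.card (Cfsg.oddCore G) := by
    rw [← Subgroup.orderOf_mk x hx]; exact orderOf_dvd_natCard _
  have h2 : orderOf x ∣ 2 ^ 5 := by
    rw [← Subgroup.orderOf_mk x hxE, show (2 : ℕ) ^ 5 = Nat.card D.E by rw [D.card_E]; norm_num]
    exact orderOf_dvd_natCard _
  exact orderOf_eq_one_iff.1 (Nat.eq_one_of_dvd_coprimes
    ((Nat.coprime_two_right.2 odd_core_odd).pow_right 5) h1 h2)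

include D in
theorem core_fixed {x : G} (hx : x ∈ Cfsg.oddCore G) (hxz : x * z = z * x) : x = 1 := by
  haveI : (Cfsg.oddCore G).Normal := Grp.pPrimeCore_isNormal
  refine D.eq_one_of_core_E hx (D.cent x fun e he => ?_)
  have h1 : x * e * x⁻¹ * e⁻¹ ∈ D.E := mul_mem (D.E_conj hxz he) (inv_mem he)
  have h2 : x * e * x⁻¹ * e⁻¹ ∈ Cfsg.oddCore G := by
    rw [show x * e * x⁻¹ * e⁻¹ = x * (e * x⁻¹ * e⁻¹) by group]
    exact mul_mem hx (Normal.conj_mem inferInstance _ (inv_mem hx) e)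
  exact mul_inv_eq_iff_eq_mul.1 (mul_inv_eq_one.1 (D.eq_one_of_core_E h2 h1))

include D in
/-- The involution inverts the odd core. -/
theorem core_inverted {x : G} (hx : x ∈ Cfsg.oddCore G) : z * x * z⁻¹ = x⁻¹ := by
  haveI : (Cfsg.oddCore G).Normal := Grp.pPrimeCore_isNormal
  let φ : MulAut ↥(Cfsg.oddCore G) := MulAut.conjNormal z
  have hφ : ∀ y : ↥(Cfsg.oddCore G), (φ y : G) = z * y * z⁻¹ := fun y => MulAut.conjNormal_apply z y
  have hfpf : MonoidHom.FixedPointFree (φ : ↥(Cfsg.oddCore G) → ↥(Cfsg.oddCore G)) := fun y hy => by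
    have h := congrArg Subtype.val hy
    rw [hφ] at h
    exact Subtype.ext (D.core_fixed y.2 (mul_inv_eq_iff_eq_mul.1 h).symm)
  have hinv : Function.Involutive (φ : ↥(Cfsg.oddCore G) → ↥(Cfsg.oddCore G)) := fun y => Subtype.ext (by
    rw [hφ, hφ, show z * (z * (y : G) * z⁻¹) * z⁻¹ = (z * z) * y * (z * z)⁻¹ by group, D.zz, one_mul, inv_one, mul_one])
  have := congrArg Subtype.val (congrFun (hfpf.coe_eq_inv_of_involutive hinv) ⟨x, hx⟩)
  rwa [hφ] at this

include D in
theorem core_comm : IsMulCommutative ↥(Cfsg.oddCore G) := by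
  haveI : (Cfsg.oddCore G).Normal := Grp.pPrimeCore_isNormal
  refine ⟨⟨fun x y => ?_⟩⟩
  have h := D.core_inverted (mul_mem x.2 y.2)
  have h1 := D.core_inverted x.2
  have h2 := D.core_inverted y.2
  refine Subtype.ext ?_
  show (x : G) * y = y * x
  rw [show z * ((x : G) * y) * z⁻¹ = z * x * z⁻¹ * (z * y * z⁻¹) by group, h1, h2, mul_inv_rev] at h
  have := congrArg (fun w => w⁻¹) h
  simp only [mul_inv_rev, inv_inv] at this
  exact this.symm

end Data

namespace Frame

variable {D} (F : Frame D)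

include F in
theorem core_bot : Cfsg.oddCore G = ⊥ := by
  haveI : (Cfsg.oddCore G).Normal := Grp.pPrimeCore_isNormal
  refine (eq_bot_iff_forall _).2 fun x hx => ?_
  have hconj : ∀ y, IsX z y → y * x * y⁻¹ = x⁻¹ := by
    rintro _ ⟨g, rfl⟩
    have hgx : g⁻¹ * x * g ∈ Cfsg.oddCore G := by
      have := Normal.conj_mem inferInstance _ hx g⁻¹
      rwa [inv_inv] at this
    have h := D.core_inverted hgx
    rw [show g * z * g⁻¹ * x * (g * z * g⁻¹)⁻¹ = g * (z * (g⁻¹ * x * g) * z⁻¹) * g⁻¹ by group, h]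
    group
  have e : D.a * (D.a * z) = z := by rw [← mul_assoc, D.aa, one_mul]
  have h1 : z * x * z⁻¹ = x := by
    rw [← e, show D.a * (D.a * z) * x * (D.a * (D.a * z))⁻¹ = D.a * (D.a * z * x * (D.a * z)⁻¹) * D.a⁻¹ by group,
      hconj _ (F.A_isX D.az_mem_A D.az_ne_one)]
    have := congrArg (fun w => w⁻¹) (hconj _ (F.A_isX D.a_mem_A D.a_ne_one))
    simp only [mul_inv_rev, inv_inv] at this
    simpa [mul_assoc] using this
  exact D.core_fixed hx (mul_inv_eq_iff_eq_mul.1 h1).symm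

end Frame

end Cfsg.Agent.Fus.AutL34
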