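import Mathlib
import Cfsg.Agent.Lib.Fus.AutLThreeFour.XClass

/-!
Involutions of the cosets of `t`, `f` and `f t` are not conjugate into `T`.
-/

set_option autoImplicit false
set_option linter.unusedSectionVars false
set_option linter.style.haveILetI false

namespace Cfsg.Agent.Fus.AutL34

open Subgroup Cfsg.Agent.Spor.ExtraOut

variable {G : Type*} [Group G] [Finite G] {z : G} {D : Data z} (F : Frame D)

namespace Frame

theorem card_C2 : Nat.card F.C2 = 4 := by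
  classical
  let g : F.C2 → {s : Equiv.Perm (Fin 4) // InV s} := fun c => ⟨D.φ c, (F.mem_C2.1 c.2).1.2⟩
  have hb : Function.Bijective g := by
    constructor
    · intro c d e
      exact Subtype.ext (F.φ_inj2 c.2 d.2 (congrArg Subtype.val e))
    · rintro ⟨s, hs⟩
      obtain ⟨c, hc, e⟩ := F.exists_C2 hs
      exact ⟨⟨c, hc⟩, Subtype.ext e⟩
  rw [Nat.card_eq_of_bijective g hb, Nat.card_eq_fintype_card, Fintype.card_subtype]
  exact card_inV

/-- The conjugates under `T` of an element of `C₁` fill its coset of `A`. -/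
theorem F1_class {c α : G} (hc : c ∈ F.C1) (hc1 : c ≠ 1) (hα : α ∈ D.A) : ∃ u ∈ F.C2, u * c * u⁻¹ = α * c := by
  classical
  have hm : ∀ d : F.C2, (d : G) * c * (d : G)⁻¹ * c⁻¹ ∈ D.A := fun d => by
    obtain ⟨β, hβ, e⟩ := F.conj_C1_T (F.mem_C2.1 d.2).1 hc
    rw [e, mul_inv_cancel_right]; exact hβ
  let Φ : F.C2 → D.A := fun d => ⟨_, hm d⟩
  have hinj : Function.Injective Φ := by
    rintro ⟨d, hd⟩ ⟨e, he⟩ h
    have h' : d * c * d⁻¹ = e * c * e⁻¹ := mul_right_cancel (congrArg Subtype.val h)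
    have hde := mul_mem (inv_mem he) hd
    by_contra hne
    refine F.bracket_ne hc hde hc1 (fun h1 => hne (Subtype.ext (inv_mul_eq_one.1 h1).symm)) ?_
    have hcm : c * (e⁻¹ * d) = e⁻¹ * d * c := by
      calc c * (e⁻¹ * d) = e⁻¹ * (e * c * e⁻¹) * d := by group
        _ = e⁻¹ * d * c := by rw [← h']; group
    calc c * (e⁻¹ * d) * c * (e⁻¹ * d) = (e⁻¹ * d) * c * (c * (e⁻¹ * d)) := by rw [← hcm]; group
      _ = (e⁻¹ * d) * (c * c) * (e⁻¹ * d) := by group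
      _ = 1 := by rw [F.C1_sq hc, mul_one, F.C2_sq hde]
  obtain ⟨⟨d, hd⟩, e⟩ := (hinj.bijective_of_nat_card_le (by rw [F.card_C2, card_A])).2 ⟨α, hα⟩
  refine ⟨d, hd, ?_⟩
  have e' : d * c * d⁻¹ * c⁻¹ = α := congrArg Subtype.val e
  rw [← e']; group

theorem F2_class {c α : G} (hc : c ∈ F.C2) (hc1 : c ≠ 1) (hα : α ∈ D.A) : ∃ u ∈ F.C1, u * c * u⁻¹ = α * c := by
  have hα' : F.f * α * F.f ∈ D.A := by
    have := conj_A F.f_N hα; rwa [F.f_inv] at this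
  have h1 : F.f * c * F.f ≠ 1 := fun e => hc1 (by
    rw [← F.f_inv] at e; nth_rewrite 1 [F.f_inv] at e
    exact conj_eq_one_iff.1 e)
  obtain ⟨d, hd, e⟩ := F.F1_class (F.f_C2 hc) h1 hα'
  refine ⟨F.f * d * F.f, F.f_C2 hd, ?_⟩
  calc F.f * d * F.f * c * (F.f * d * F.f)⁻¹ = F.f * (d * (F.f * c * F.f) * d⁻¹) * F.f := by
        simp only [mul_inv_rev, F.f_inv, mul_assoc]
    _ = F.f * F.f * α * (F.f * F.f) * c * (F.f * F.f) := by rw [e]; group
    _ = α * c := by rw [F.f2, one_mul, mul_one, mul_one]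

theorem InF1_ne {v : G} (hv : F.InF1 v) (hvA : v ∉ D.A) : ∃ α ∈ D.A, ∃ c ∈ F.C1, c ≠ 1 ∧ v = α * c := by
  obtain ⟨α, hα, c, hc, rfl⟩ := hv
  exact ⟨α, hα, c, hc, fun e => hvA (by rw [e, mul_one]; exact hα), rfl⟩

/-- The involutions of the two elementary subgroups outside `A` are conjugate. -/
theorem F1_conj {v w : G} (hv : F.InF1 v) (hvA : v ∉ D.A) (hw : F.InF1 w) (hwA : w ∉ D.A) :
    ∃ g ∈ D.N, g * v * g⁻¹ = w := by
  obtain ⟨α, hα, c, hc, hc1, rfl⟩ := F.InF1_ne hv hvA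
  obtain ⟨β, hβ, d, hd, hd1, rfl⟩ := F.InF1_ne hw hwA
  obtain ⟨u, hu, eu⟩ := F.F1_class hc hc1 hα
  obtain ⟨w, hw, ew⟩ := F.F1_class hd hd1 hβ
  have hcs : D.φ c ≠ 1 := fun e => hc1 (F.φ_inj1 hc (one_mem _) (by rw [e, D.φ_one]))
  have hds : D.φ d ≠ 1 := fun e => hd1 (F.φ_inj1 hd (one_mem _) (by rw [e, D.φ_one]))
  have hc' := F.ρ_C1 hc
  obtain ⟨p, hp, ep⟩ : ∃ p ∈ D.N, p * c * p⁻¹ = d := by
    rcases inV_orbit _ (F.mem_C1.1 hc).1.2 hcs _ (F.mem_C1.1 hd).1.2 hds with e | e | e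
    · exact ⟨1, one_mem _, by rw [F.φ_inj1 hd hc e]; group⟩
    · exact ⟨F.ρ, F.ρ_N, (F.φ_inj1 hd hc' (by rw [F.φ_conj_ρ (F.mem_C1.1 hc).1, e])).symm⟩
    · refine ⟨F.ρ * F.ρ, mul_mem F.ρ_N F.ρ_N, ?_⟩
      rw [F.φ_inj1 hd (F.ρ_C1 hc') (by rw [F.φ_conj_ρ (F.mem_C1.1 hc').1, F.φ_conj_ρ (F.mem_C1.1 hc).1, e,
        (r0_twice _).1])]
      group
  have hTN : ∀ x ∈ D.T, x ∈ D.N := fun x hx => D.C_le_N hx.1.1
  refine ⟨w * p * u⁻¹, mul_mem (mul_mem (hTN _ (F.mem_C2.1 hw).1) hp) (inv_mem (hTN _ (F.mem_C2.1 hu).1)), ?_⟩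
  rw [← eu, ← ew, ← ep]; group

include F in
/-- The involutions of `T` outside `A` are conjugate. -/
theorem invol_conj {v w : G} (hv : v ∈ D.T) (hvv : v * v = 1) (hvA : v ∉ D.A) (hw : w ∈ D.T) (hww : w * w = 1)
    (hwA : w ∉ D.A) : ∃ g ∈ D.N, g * v * g⁻¹ = w := by
  have key : ∀ y, y ∈ D.T → y * y = 1 → y ∉ D.A → ∃ p ∈ D.N, F.InF1 (p * y * p⁻¹) ∧ p * y * p⁻¹ ∉ D.A := by
    intro y hy hyy hyA
    rcases F.invol_InF hy hyy with h | h
    · exact ⟨1, one_mem _, by rw [show (1 : G) * y * 1⁻¹ = y by group]; exact ⟨h, hyA⟩⟩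
    · refine ⟨F.f, F.f_N, F.swap_InF2 F.fz F.f_not_CA (by rw [F.φf]; exact inV_facts.1) h, fun hm => hyA ?_⟩
      have := conj_A (inv_mem F.f_N) hm
      rwa [show F.f⁻¹ * (F.f * y * F.f⁻¹) * F.f⁻¹⁻¹ = y by group] at this
  obtain ⟨p, hp, hp1, hp2⟩ := key v hv hvv hvA
  obtain ⟨q, hq, hq1, hq2⟩ := key w hw hww hwA
  obtain ⟨g, hg, e⟩ := F.F1_conj hp1 hp2 hq1 hq2
  refine ⟨q⁻¹ * g * p, mul_mem (mul_mem (inv_mem hq) hg) hp, ?_⟩
  calc q⁻¹ * g * p * v * (q⁻¹ * g * p)⁻¹ = q⁻¹ * (g * (p * v * p⁻¹) * g⁻¹) * q := by group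
    _ = w := by rw [e]; group

include F in
/-- An involution of the coset of `f` is not conjugate to an element of `C(A)`. -/
theorem not_conj_f {x y : G} (hxz : x * z = z * x) (hxx : x * x = 1) (hx : x ∉ D.CA) (hV : InV (D.φ x))
    (hy : y ∈ D.CA) (g : G) : g * y * g⁻¹ ≠ x := by
  intro hg
  obtain ⟨W, hW, -, hconj⟩ := F.f_sylow hxz hxx hx hV
  obtain ⟨c, -, hcW⟩ := hconj (D.A.map (MulAut.conj g).toMonoidHom)
    ((IsPGroup.of_card (n := 2) (by rw [card_A]; norm_num) : IsPGroup 2 D.A).map _) (by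
      rintro _ ⟨α, hα, rfl⟩
      rw [mem_centralizer_singleton_iff]
      show g * α * g⁻¹ * x = x * (g * α * g⁻¹)
      rw [← hg]
      exact comm_conj (D.CA_comm hy hα).symm)
  have key : ∀ α ∈ D.A, α ≠ 1 → c * (g * α * g⁻¹) * c⁻¹ = z := by
    intro α hα hα1
    have hm := hW (hcW _ ⟨α, hα, rfl⟩)
    have hX := ((F.A_isX hα hα1).conj g).conj c
    have hT := F.X_sub_T hX (Data.mem_C_iff.1 hm.1)
    exact (F.swap_fixed hxz hx hV hT (hX.mul_self D.zz)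
      (mem_centralizer_singleton_iff.1 hm.2).symm).resolve_left (hX.ne_one D.z1)
  have h1 := key z D.z_mem_A D.z1
  have h2 := key D.a D.a_mem_A D.a_ne_one
  exact D.a_ne_z (mul_left_cancel (mul_right_cancel (mul_left_cancel (mul_right_cancel (h2.trans h1.symm)))))

include F in
/-- An involution of `C(z)` in the coset of `t` or `f t` is not conjugate to an element of `T`. -/
theorem not_conj_T {x u : G} (hxz : x * z = z * x) (hxx : x * x = 1) (hV : ¬ InV (D.φ x)) (hu : u ∈ D.T)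
    (g : G) : g * u * g⁻¹ ≠ x := by
  intro hg
  haveI : Fact (Nat.Prime 2) := ⟨Nat.prime_two⟩
  have huu : u * u = 1 := by
    have : g * (u * u) * g⁻¹ = 1 := by
      rw [show g * (u * u) * g⁻¹ = g * u * g⁻¹ * (g * u * g⁻¹) by group, hg, hxx]
    exact conj_eq_one_iff.1 this
  have hnX : ¬ IsX z u := fun h => hV (F.X_sub_T (hg ▸ h.conj g) hxz).2
  have hu1 : u ≠ 1 := fun e => hV (by
    rw [← hg, e, mul_one, mul_inv_cancel, D.φ_one]; exact inV_facts.1)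
  have huA : u ∉ D.A := fun h => hnX (F.A_isX h hu1)
  have hXA : ∀ v, IsX z v → v * z = z * v → v ∈ D.A := by
    intro v hv hvz
    have hvT := F.X_sub_T hv hvz
    by_contra hvA
    obtain ⟨p, -, e⟩ := F.invol_conj hvT (hv.mul_self D.zz) hvA hu huu huA
    exact hnX (e ▸ hv.conj p)
  -- conjugates of `A` by elements into `C(z)`
  have hA : ∀ h : G, (∀ α ∈ D.A, h * α * h⁻¹ * z = z * (h * α * h⁻¹)) →
      D.A.map (MulAut.conj h).toMonoidHom = D.A := by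
    intro h hh
    refine Subgroup.eq_of_le_of_card_ge ?_ (by rw [card_map_of_injective (MulAut.conj h).injective])
    rintro _ ⟨α, hα, rfl⟩
    show h * α * h⁻¹ ∈ D.A
    by_cases h1 : α = 1
    · rw [h1, mul_one, mul_inv_cancel]; exact one_mem _
    · exact hXA _ ((F.A_isX hα h1).conj h) (hh α hα)
  set Cx := centralizer ({x} : Set G) with hCx
  have hzp : IsPGroup 2 ((zpowers z).subgroupOf Cx) :=
    ((Cfsg.Agent.Invol.isPGroup_zpowers (p := 2) (n := 1) ((orderOf_eq_prime (by rw [pow_two, D.zz]) D.z1).trans (pow_one 2).symm)).comap_subtype)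
  obtain ⟨S, hS⟩ := hzp.exists_le_sylow
  set S' := (S : Subgroup Cx).map Cx.subtype with hS'
  have hzS : z ∈ S' := ⟨⟨z, mem_centralizer_singleton_iff.2 hxz.symm⟩, hS (mem_zpowers z), rfl⟩
  have hAx : ∀ α ∈ D.A, g * α * g⁻¹ ∈ Cx := fun α hα => by
    rw [hCx, mem_centralizer_singleton_iff, ← hg]
    exact comm_conj (T_A hu hα).symm
  obtain ⟨c, hc⟩ := Cfsg.Agent.Invol.exists_conj_subset_sylow
    (((IsPGroup.of_card (n := 2) (by rw [card_A]; norm_num) : IsPGroup 2 D.A).map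
      (MulAut.conj g).toMonoidHom).comap_subtype (K := Cx)) S
  obtain ⟨h, hh⟩ := Cfsg.Agent.Invol.exists_conj_subset_sylow (S.isPGroup'.map Cx.subtype) F.sylow
  have hA1 : D.A.map (MulAut.conj (h * c * g)).toMonoidHom = D.A := by
    refine hA _ fun α hα => ?_
    have hm : (c : G) * (g * α * g⁻¹) * (c : G)⁻¹ ∈ S' :=
      ⟨_, hc ⟨g * α * g⁻¹, hAx α hα⟩ ⟨α, hα, rfl⟩, rfl⟩
    have := Data.mem_C_iff.1 (F.P_le_C (hh _ hm))
    rwa [show h * ((c : G) * (g * α * g⁻¹) * (c : G)⁻¹) * h⁻¹ = h * c * g * α * (h * c * g)⁻¹ by group] at this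
  have hzA : h * z * h⁻¹ ∈ D.A :=
    hXA _ ((IsX.self z).conj h) (Data.mem_C_iff.1 (F.P_le_C (hh z hzS)))
  have hA2 : D.A.map (MulAut.conj ((c : G) * g)).toMonoidHom = D.A := by
    refine hA _ fun α hα => ?_
    have hm : h * c * g * α * (h * c * g)⁻¹ ∈ D.A := hA1.le ⟨α, hα, rfl⟩
    have := comm_conj (g := h⁻¹) (D.A_comm hm hzA)
    rw [inv_inv, show h⁻¹ * (h * z * h⁻¹) * h = z by group,
      show h⁻¹ * (h * c * g * α * (h * c * g)⁻¹) * h = c * g * α * (c * g)⁻¹ by group] at this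
    exact this
  have hcgN : (c : G) * g ∈ D.N := Subgroup.mem_normalizer_fintype fun α hα => hA2.le ⟨α, hα, rfl⟩
  have hcx : (c : G) * x = x * c := mem_centralizer_singleton_iff.1 c.2
  refine hV ?_
  have := D.conj_T hcgN hu
  rw [show (c : G) * g * u * ((c : G) * g)⁻¹ = c * (g * u * g⁻¹) * (c : G)⁻¹ by group, hg, hcx, mul_inv_cancel_right]
    at this
  exact this.2

end Frame

end Cfsg.Agent.Fus.AutL34
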