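import Mathlib
import Cfsg.Agent.Lib.Fus.AutLThreeFour.Separate
import Cfsg.Agent.Lib.Perm.TwoStab.TransferTwo

/-!
Two transfers: a subgroup of index four meeting the Sylow 2-subgroup in `T`.
-/

set_option autoImplicit false
set_option linter.unusedSectionVars false
set_option linter.style.haveILetI false

namespace Cfsg.Agent.Fus.AutL34

open Subgroup Cfsg.Agent.Spor.ExtraOut

section generic

variable {G : Type*} [Group G]

theorem perfect_le_index_two {H : Subgroup G} (hH : H.index = 2) {M : Subgroup G} (hM : ⁅M, M⁆ = M) : M ≤ H := by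
  rw [← hM, commutator_le]
  intro a _ b _
  rw [commutatorElement_def]
  simp only [mul_mem_iff_of_index_two hH, inv_mem_iff]
  tauto

theorem mem_of_three {H : Subgroup G} (hH : H.index = 2) {x : G} (hx : x ^ 3 = 1) : x ∈ H := by
  have h : x ^ 2 ∈ H := sq_mem_of_index_two hH x
  have e : x = x ^ 3 * (x ^ 2)⁻¹ := by group
  rw [e, hx, one_mul]; exact inv_mem h

end generic

variable {G : Type*} [Group G] [Finite G] {z : G} {D : Data z} (F : Frame D)

namespace Frame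

theorem f_out_CA (b : G) (hb : b ∈ F.P) : b ∈ D.CA ↔ b * F.f ∉ D.CA := by
  constructor
  · intro h h'
    refine F.f_not_CA ?_
    have := mul_mem (inv_mem h) h'
    rwa [inv_mul_cancel_left] at this
  · intro h
    by_contra h'
    exact h (flip_mul (Data.mem_C_iff.1 (F.P_le_C hb)) h' F.fz F.f_not_CA)

include F in
theorem T_le_of_index_two {H : Subgroup G} (hN : H.Normal) (hH : H.index = 2) : D.T ≤ H := by
  classical
  have hσ := mem_of_three hH F.σ3
  let Φ : D.T → D.T := fun x => ⟨(x : G)⁻¹ * (F.σ * x * F.σ⁻¹), mul_mem (inv_mem x.2) (D.conj_T F.σN x.2)⟩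
  have hinj : Function.Injective Φ := by
    rintro ⟨x, hx⟩ ⟨y, hy⟩ e
    have e' : x⁻¹ * (F.σ * x * F.σ⁻¹) = y⁻¹ * (F.σ * y * F.σ⁻¹) := congrArg Subtype.val e
    refine Subtype.ext (mul_inv_eq_one.1 (F.cent_σ (mul_mem hy (inv_mem hx)) ?_)).symm
    calc F.σ * (y * x⁻¹) = y * (y⁻¹ * (F.σ * y * F.σ⁻¹)) * F.σ * x⁻¹ := by group
      _ = y * x⁻¹ * F.σ := by rw [← e']; group
  intro w hw
  obtain ⟨⟨x, hx⟩, e⟩ := (hinj.bijective_of_nat_card_le le_rfl).2 ⟨w, hw⟩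
  have e' : x⁻¹ * (F.σ * x * F.σ⁻¹) = w := congrArg Subtype.val e
  rw [← e', ← mul_assoc]
  refine mul_mem ?_ (inv_mem hσ)
  have := hN.conj_mem _ hσ x⁻¹
  rwa [inv_inv, ← show x⁻¹ * (F.σ * x) = x⁻¹ * F.σ * x by group] at this

include F in
/-- A subgroup of index four meeting `P` in `T` and containing the perfect subgroups. -/
theorem exists_steps : ∃ H : Subgroup G, H.index = 4 ∧ D.T ≤ H ∧ F.ρ ∈ H ∧ F.σ ∈ H ∧ H ⊓ F.P ≤ D.T ∧
    ∀ M : Subgroup G, ⁅M, M⁆ = M → M ≤ H := by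
  classical
  haveI : Fact (Nat.Prime 2) := ⟨Nat.prime_two⟩
  have hCP : (D.CA ⊓ F.P).relIndex F.P = 2 := by
    refine index_eq_two_iff.2 ⟨⟨F.f, F.f_mem_P⟩, fun b => ?_⟩
    simp only [mem_subgroupOf, mem_inf, coe_mul, b.2, mul_mem b.2 F.f_mem_P, and_true]
    have := F.f_out_CA b b.2
    unfold Xor
    tauto
  obtain ⟨N1, hN1n, hN1i, hfN1⟩ := Perm.TwoStab.exists_index_two_notMem F.sylow (D.CA ⊓ F.P) hCP F.f F.f_mem_P
    (fun g hg hm => by
      refine F.not_conj_f F.fz F.f2 F.f_not_CA (by rw [F.φf]; exact inV_facts.1) hm.1 g ?_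
      group)
    (fun g i hi _ => by
      obtain ⟨j, rfl⟩ := Nat.exists_eq_add_of_le hi
      rw [pow_add, pow_one, pow_mul, pow_two, F.f2, one_pow, mul_one, inv_mul_cancel]
      exact one_mem _)
  haveI := hN1n
  have hT1 : D.T ≤ N1 := F.T_le_of_index_two hN1n hN1i
  have hm1 : ∀ a b : G, a * b ∈ N1 ↔ (a ∈ N1 ↔ b ∈ N1) := fun a b => mul_mem_iff_of_index_two hN1i
  obtain ⟨y, hy1, hyK, hyV, hyuniq⟩ : ∃ y, y ∈ N1 ∧ y ∈ F.K4 ∧ ¬ InV (D.φ y) ∧
      ∀ k ∈ F.K4, k ∈ N1 → k = 1 ∨ k = y := by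
    by_cases ht : F.t ∈ N1
    · refine ⟨F.t, ht, Or.inr (Or.inl rfl), F.not_inV_t, fun k hk hk1 => ?_⟩
      rcases hk with e | e | e | e <;> rw [e] at hk1
      exacts [Or.inl e, Or.inr e, absurd hk1 hfN1, absurd hk1 (fun h => hfN1 (by
        have := (hm1 _ _).1 h; exact this.2 ht))]
    · refine ⟨F.f * F.t, (hm1 _ _).2 (iff_of_false hfN1 ht), Or.inr (Or.inr (Or.inr rfl)),
        by rw [F.φft]; exact F.not_inV_t, fun k hk hk1 => ?_⟩
      rcases hk with e | e | e | e <;> rw [e] at hk1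
      exacts [Or.inl e, absurd hk1 ht, absurd hk1 hfN1, Or.inr e]
  have hyz : y * z = z * y := Data.mem_C_iff.1 (F.P_le_C (F.K4_le_P hyK))
  have hy2 : y * y = 1 := F.mem_K4 hyK
  set H1 := F.P.subgroupOf N1 with hH1
  have hH1p : IsPGroup 2 H1 := F.P_isPGroup.comap_subtype
  have hH1i : ¬ 2 ∣ H1.index := by
    have h1 : (N1.subgroupOf F.P).index = 2 := by
      refine index_eq_two_iff.2 ⟨⟨F.f, F.f_mem_P⟩, fun b => ?_⟩
      simp only [mem_subgroupOf, coe_mul]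
      have := hm1 b F.f
      unfold Xor
      tauto
    have h2 : Nat.card H1 = Nat.card ↥(N1.subgroupOf F.P) := by
      rw [← card_map_of_injective (K := H1) (subtype_injective N1), ← card_map_of_injective (K := N1.subgroupOf F.P)
        (subtype_injective F.P), subgroupOf_map_subtype, subgroupOf_map_subtype, inf_comm]
    have h3 := (N1.subgroupOf F.P).card_mul_index
    rw [h1, F.card_P, ← h2] at h3
    have h4 := H1.card_mul_index
    have h5 := N1.card_mul_index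
    rw [hN1i, ← h4] at h5
    have h6 := F.P.card_mul_index
    rw [F.card_P, ← h5, mul_assoc, mul_comm H1.index 2, ← mul_assoc, h3] at h6
    have h7 : F.P.index = H1.index := Nat.eq_of_mul_eq_mul_left (by norm_num) h6
    rw [← h7, ← F.coe_sylow]
    exact F.sylow.not_dvd_index
  set S1 := hH1p.toSylow hH1i with hS1'
  have hS1c : (S1 : Subgroup N1) = H1 := IsPGroup.toSylow_coe _ _
  have hdec : ∀ b : N1, (b : G) ∈ F.P → (b : G) ∈ D.T ∨ (b : G) * y ∈ D.T := by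
    intro b hb
    obtain ⟨u, hu, k, hk, e⟩ := hb
    have hk1 : k ∈ N1 := ((hm1 u k).1 (e ▸ b.2)).1 (hT1 hu)
    rcases hyuniq k hk hk1 with e' | e' <;> rw [e'] at e <;> rw [e]
    · exact Or.inl (by rw [mul_one]; exact hu)
    · exact Or.inr (by rw [mul_assoc, hy2, mul_one]; exact hu)
  have hyT : y ∉ D.T := fun h => hyV h.2
  have hD2 : (D.T.subgroupOf N1).relIndex (S1 : Subgroup N1) = 2 := by
    rw [hS1c]
    refine index_eq_two_iff.2 ⟨⟨⟨y, hy1⟩, F.K4_le_P hyK⟩, fun b => ?_⟩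
    simp only [mem_subgroupOf, coe_mul]
    rcases hdec _ b.2 with h | h
    · refine Or.inr ⟨h, fun h' => hyT ?_⟩
      have := mul_mem (inv_mem h) h'
      rwa [inv_mul_cancel_left] at this
    · refine Or.inl ⟨h, fun h' => hyT ?_⟩
      have := mul_mem (inv_mem h') h
      rwa [inv_mul_cancel_left] at this
  obtain ⟨N2, hN2n, hN2i, hyN2⟩ := Perm.TwoStab.exists_index_two_notMem S1 (D.T.subgroupOf N1) hD2
    ⟨y, hy1⟩ (hS1c.ge (F.K4_le_P hyK))
    (fun g _ hm => by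
      refine F.not_conj_T hyz hy2 hyV (mem_subgroupOf.1 hm) g ?_
      push_cast
      group)
    (fun g i hi _ => by
      obtain ⟨j, rfl⟩ := Nat.exists_eq_add_of_le hi
      have : (⟨y, hy1⟩ : N1) * ⟨y, hy1⟩ = 1 := Subtype.ext hy2
      rw [pow_add, pow_one, pow_mul, pow_two, this, one_pow, mul_one, inv_mul_cancel]
      exact one_mem _)
  haveI := hN2n
  have h3N : ∀ {x : G}, x ^ 3 = 1 → x ∈ N1 := fun hx => mem_of_three hN1i hx
  have hmap : ∀ {x : G} (hx : x ∈ N1), x ∈ N2.map N1.subtype ↔ (⟨x, hx⟩ : N1) ∈ N2 := fun hx =>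
    ⟨fun ⟨w, hw, e⟩ => by rwa [show (⟨_, hx⟩ : N1) = w from Subtype.ext e.symm], fun h => ⟨_, h, rfl⟩⟩
  have hρσ : ∀ {x : G}, x ^ 3 = 1 → x ∈ N2.map N1.subtype := fun hx =>
    (hmap (h3N hx)).2 (mem_of_three hN2i (Subtype.ext hx))
  have hT2 : D.T ≤ N2.map N1.subtype := by
    intro w hw
    let Φ : D.T → D.T := fun x => ⟨(x : G)⁻¹ * (F.σ * x * F.σ⁻¹), mul_mem (inv_mem x.2) (D.conj_T F.σN x.2)⟩
    have hinj : Function.Injective Φ := by
      rintro ⟨x, hx⟩ ⟨x', hx'⟩ e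
      have e' : x⁻¹ * (F.σ * x * F.σ⁻¹) = x'⁻¹ * (F.σ * x' * F.σ⁻¹) := congrArg Subtype.val e
      refine Subtype.ext (mul_inv_eq_one.1 (F.cent_σ (mul_mem hx' (inv_mem hx)) ?_)).symm
      calc F.σ * (x' * x⁻¹) = x' * (x'⁻¹ * (F.σ * x' * F.σ⁻¹)) * F.σ * x⁻¹ := by group
        _ = x' * x⁻¹ * F.σ := by rw [← e']; group
    obtain ⟨⟨x, hx⟩, e⟩ := (hinj.bijective_of_nat_card_le le_rfl).2 ⟨w, hw⟩
    have e' : x⁻¹ * (F.σ * x * F.σ⁻¹) = w := congrArg Subtype.val e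
    have hσ := (hmap (h3N F.σ3)).1 (hρσ F.σ3)
    have hc := hN2n.conj_mem _ hσ (⟨x, hT1 hx⟩⁻¹)
    rw [← e', ← mul_assoc]
    refine mul_mem ?_ (inv_mem (hρσ F.σ3))
    refine ⟨_, hc, ?_⟩
    simp [mul_assoc]
  refine ⟨N2.map N1.subtype, ?_, hT2, hρσ F.ρ3, hρσ F.σ3, ?_, ?_⟩
  · rw [index_map_subtype, hN2i, hN1i]
  · rintro b ⟨hb, hbP⟩
    obtain ⟨w, hw, rfl⟩ := hb
    rcases hdec w hbP with h | h
    · exact h
    · exfalso
      refine hyN2 ?_
      have h' := (hmap (mul_mem w.2 hy1)).1 (hT2 h)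
      have := mul_mem (inv_mem hw) h'
      rwa [show w⁻¹ * (⟨(w : G) * y, _⟩ : N1) = ⟨y, hy1⟩ from Subtype.ext (inv_mul_cancel_left _ _)] at this
  · intro M hM
    have hM1 := perfect_le_index_two hN1i hM
    have hM2 : M.subgroupOf N1 ≤ N2 := by
      refine perfect_le_index_two hN2i (map_injective (subtype_injective N1) ?_)
      rw [map_commutator, subgroupOf_map_subtype, inf_eq_left.2 hM1, hM]
    exact fun x hx => (hmap (hM1 hx)).2 (hM2 (show (⟨x, hM1 hx⟩ : N1) ∈ M.subgroupOf N1 from hx))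

end Frame

end Cfsg.Agent.Fus.AutL34
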