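import Mathlib
import Cfsg.Agent.S0144
import Cfsg.Agent.Lib.Grp.Frattini
import Cfsg.Agent.Lib.Grp.Subnormal
import Cfsg.Agent.Lib.Fus.AutLThreeFour.Core
import Cfsg.Agent.Lib.Fus.AutLThreeFour.Steps

/-!
The minimal normal subgroup is simple with Sylow 2-subgroup `T`.
-/

set_option autoImplicit false
set_option linter.unusedSectionVars false
set_option linter.style.haveILetI false

namespace Cfsg.Agent.Fus.AutL34

open Subgroup Cfsg.Agent.Spor.ExtraOut
open scoped commutatorElement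

theorem perm_comm_inV : ∀ s : Equiv.Perm (Fin 4), s * s = 1 →
    (∀ t : Equiv.Perm (Fin 4), s * (t * s * t⁻¹) = t * s * t⁻¹ * s) → InV s := by decide +kernel

section generic

variable {H : Type*} [Group H]

/-- Burnside: a Sylow subgroup central in its normaliser has a normal complement containing no element of it. -/
theorem burnside_compl [Finite H] (S : Sylow 2 H)
    (hS : normalizer ((S : Subgroup H) : Set H) ≤ centralizer ((S : Subgroup H) : Set H)) :
    ∃ L : Subgroup H, L.Normal ∧ Odd (Nat.card L) ∧ L.index = Nat.card S ∧ ⁅(⊤ : Subgroup H), ⊤⁆ ≤ L := by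
  haveI : Fact (Nat.Prime 2) := ⟨Nat.prime_two⟩
  haveI : FiniteIndex (S : Subgroup H) := inferInstance
  refine ⟨(MonoidHom.transferSylow S hS).ker, inferInstance, ?_,
    (MonoidHom.ker_transferSylow_isComplement' S hS).symm.index_eq_card, ?_⟩
  · rw [← Nat.not_even_iff_odd, even_iff_two_dvd]
    exact MonoidHom.not_dvd_card_ker_transferSylow S hS
  · rw [commutator_le]
    intro a _ b _
    rw [MonoidHom.mem_ker, map_commutatorElement, commutatorElement_eq_one_iff_commute]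
    refine Subtype.ext ?_
    show (MonoidHom.transferSylow S hS a : H) * _ = (MonoidHom.transferSylow S hS b : H) * _
    exact mem_centralizer_iff.1 (hS (le_normalizer (MonoidHom.transferSylow S hS b).2)) _
      (MonoidHom.transferSylow S hS a).2

end generic

variable {G : Type*} [Group G] [Finite G] {z : G} {D : Data z} (F : Frame D)

namespace Frame

include F in
theorem z_mem_normal {M : Subgroup G} (hM : M.Normal) (hM1 : M ≠ ⊥) : z ∈ M := by
  haveI := hM
  haveI : Fact (Nat.Prime 2) := ⟨Nat.prime_two⟩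
  have heven : 2 ∣ Nat.card M := by
    by_contra h
    refine hM1 (le_bot_iff.1 (le_of_le_of_eq (Grp.le_pPrimeCore hM ?_) F.core_bot))
    exact ((Nat.Prime.coprime_iff_not_dvd Nat.prime_two).2 h).symm
  obtain ⟨⟨x, hx⟩, hox⟩ := exists_prime_orderOf_dvd_card' 2 heven
  rw [Subgroup.orderOf_mk] at hox
  obtain ⟨g, hg⟩ := Cfsg.Agent.Invol.exists_conj_mem_sylow (n := 1) (by rw [pow_one]; exact hox) F.sylow
  have hne : M.subgroupOf F.P ≠ ⊥ := fun e => by
    have h1 : (⟨g * x * g⁻¹, hg⟩ : F.P) ∈ M.subgroupOf F.P := hM.conj_mem x hx g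
    rw [e, mem_bot] at h1
    have h2 : x = 1 := conj_eq_one_iff.1 (congrArg Subtype.val h1)
    rw [h2, orderOf_one] at hox
    norm_num at hox
  haveI : Group.IsNilpotent ↥F.P := F.P_isPGroup.isNilpotent
  obtain ⟨⟨y, hy⟩, hym, hy1⟩ :=
    (bot_or_exists_ne_one _).resolve_left (Grp.inf_center_ne_bot (M.subgroupOf F.P) hne)
  rcases F.cent_P (g := y) (fun p hp => (congrArg Subtype.val (mem_center_iff.1 hym.2 ⟨p, hp⟩)).symm) with e | e
  · exact absurd (Subtype.ext e) hy1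
  · exact e ▸ hym.1

include F in
theorem A_le_normal {M : Subgroup G} (hM : M.Normal) (hM1 : M ≠ ⊥) : D.A ≤ M := by
  intro y hy
  by_cases hy1 : y = 1
  · rw [hy1]; exact one_mem _
  · obtain ⟨g, rfl⟩ := F.A_isX hy hy1
    exact hM.conj_mem z (F.z_mem_normal hM hM1) g

include F in
/-- An involution of `T` outside `A` generates `T` under conjugation in the normaliser. -/
theorem T_le_of_invol {U : Subgroup G} (hU : ∀ n ∈ D.N, ∀ u ∈ U, n * u * n⁻¹ ∈ U) (hA : D.A ≤ U) {v : G}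
    (hv : v ∈ U) (hvT : v ∈ D.T) (hvv : v * v = 1) (hvA : v ∉ D.A) : D.T ≤ U := by
  have key : ∀ w ∈ D.T, w * w = 1 → w ∈ U := by
    intro w hw hww
    by_cases hwA : w ∈ D.A
    · exact hA hwA
    · obtain ⟨n, hn, e⟩ := F.invol_conj hvT hvv hvA hw hww hwA
      exact e ▸ hU n hn v hv
  intro x hx
  obtain ⟨α, hα, c, hc, d, hd, rfl⟩ := F.exists_coord hx
  exact mul_mem (mul_mem (hA hα) (key c (F.mem_C1.1 hc).1 (F.C1_sq hc))) (key d (F.mem_C2.1 hd).1 (F.C2_sq hd))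

include F in
/-- A subgroup of `T` invariant under the normaliser and containing `A` is `A` or `T`. -/
theorem T_le_of_invariant {U : Subgroup G} (hUT : U ≤ D.T) (hU : ∀ n ∈ D.N, ∀ u ∈ U, n * u * n⁻¹ ∈ U)
    (hA : D.A ≤ U) {u : G} (hu : u ∈ U) (huA : u ∉ D.A) : D.T ≤ U := by
  obtain ⟨α, hα, c, hc, d, hd, rfl⟩ := F.exists_coord (hUT hu)
  have hcd : c * d ∈ U := by
    have := mul_mem (inv_mem (hA hα)) hu
    rwa [mul_assoc α, inv_mul_cancel_left] at this
  by_cases hd1 : d = 1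
  · refine F.T_le_of_invol hU hA hu (hUT hu) ?_ huA
    rw [hd1, mul_one, sq_mul_A hα (F.mem_C1.1 hc).1, F.C1_sq hc]
  obtain ⟨hdT, hdr⟩ := F.mem_C2.1 hd
  set e := F.r1 * d * F.r1⁻¹ with he
  have hr1N : F.r1 ∈ D.N := mul_mem F.σN F.ρ_N
  have heC : e ∈ F.C2 := by
    refine F.mem_C2.2 ⟨D.conj_T hr1N hdT, ?_⟩
    have hr : Commute F.r2 F.r1 :=
      Commute.mul_right ((Commute.refl F.σ).mul_left (Commute.pow_left F.ρσ 2))
        (show Commute F.r2 F.ρ from F.r2_ρ)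
    exact ((Commute.mul_right (Commute.mul_right hr hdr) (Commute.inv_right hr)) :)
  have hed : e * d ≠ 1 := by
    intro h
    have h1 : F.r1 * d = d * F.r1 := mul_inv_eq_iff_eq_mul.1
      ((mul_eq_one_iff_eq_inv.1 h).trans (inv_eq_of_mul_eq_one_right (F.C2_sq hd)))
    have h2 : Commute (F.r1⁻¹ * F.r2) d := (Commute.inv_left h1).mul_left hdr
    have er : F.r1⁻¹ * F.r2 = F.ρ := by
      rw [r1, r2, mul_inv_rev, mul_assoc, inv_mul_cancel_left, pow_two, inv_mul_cancel_left]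
    rw [er] at h2
    exact hd1 (F.r2_fix (F.cent_ρ hdT h2) hdr)
  obtain ⟨β, hβ, eβ⟩ := F.conj_C2_T (F.mem_C1.1 hc).1 (mul_mem heC hd)
  have hw : β * (e * d) ∈ U := by
    have := mul_mem (hU _ hr1N _ hcd) (inv_mem hcd)
    rwa [show F.r1 * (c * d) * F.r1⁻¹ * (c * d)⁻¹ = (F.r1 * c * F.r1⁻¹) * (e * d⁻¹) * c⁻¹ by rw [he]; group,
      mul_inv_eq_iff_eq_mul.2 (F.mem_C1.1 hc).2, inv_eq_of_mul_eq_one_right (F.C2_sq hd), eβ] at this
  refine F.T_le_of_invol hU hA hw (hUT hw) ?_ fun h => hed ?_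
  · rw [sq_mul_A hβ (F.mem_C2.1 (mul_mem heC hd)).1, F.C2_sq (mul_mem heC hd)]
  · have hm : e * d ∈ D.A := by simpa using mul_mem (inv_mem hβ) h
    exact F.r2_fix hm (F.mem_C2.1 (mul_mem heC hd)).2

include F in
/-- An element of the normaliser trivial on `T/A` centralises `A`. -/
theorem cent_A_of_trivial {x : G} (hx : x ∈ D.N) (h : ∀ u ∈ D.T, x * u * x⁻¹ * u⁻¹ ∈ D.A) {α : G}
    (hα : α ∈ D.A) : x * α * x⁻¹ = α := by
  obtain ⟨c, hc, hc1⟩ := F.exists_C1_ne
  obtain ⟨d, hd, e⟩ := F.F1_class hc hc1 hα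
  have hcT := (F.mem_C1.1 hc).1
  have hdT := (F.mem_C2.1 hd).1
  obtain ⟨γ, hγ, eγ⟩ : ∃ γ ∈ D.A, x * c * x⁻¹ = γ * c := ⟨_, h c hcT, by group⟩
  obtain ⟨δ, hδ, eδ⟩ : ∃ δ ∈ D.A, x * d * x⁻¹ = δ * d := ⟨_, h d hdT, by group⟩
  have hα' : α = d * c * d⁻¹ * c⁻¹ := by rw [e, mul_inv_cancel_right]
  calc x * α * x⁻¹ = (x * d * x⁻¹) * (x * c * x⁻¹) * (x * d * x⁻¹)⁻¹ * (x * c * x⁻¹)⁻¹ := by rw [hα']; group
    _ = δ * (d * (γ * c) * d⁻¹) * δ⁻¹ * (c⁻¹ * γ⁻¹) := by rw [eγ, eδ]; group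
    _ = δ * (γ * (α * c)) * δ⁻¹ * (c⁻¹ * γ⁻¹) := by
        rw [show d * (γ * c) * d⁻¹ = (d * γ) * (c * d⁻¹) by group, T_A hdT hγ,
          show γ * d * (c * d⁻¹) = γ * (d * c * d⁻¹) by group, e]
    _ = γ * (α * c) * (c⁻¹ * γ⁻¹) := by
        rw [← T_A (mul_mem (D.A_le_T hγ) (mul_mem (D.A_le_T hα) hcT)) hδ, mul_inv_cancel_right]
    _ = γ * α * γ⁻¹ := by group
    _ = α := by rw [D.A_comm hγ hα, mul_inv_cancel_right]

include F in
theorem center_T {x : G} (hx : x ∈ D.T) (h : ∀ u ∈ D.T, u * x = x * u) : x ∈ D.A := by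
  obtain ⟨α, hα, c, hc, d, hd, rfl⟩ := F.exists_coord hx
  have hcT := (F.mem_C1.1 hc).1
  have hdT := (F.mem_C2.1 hd).1
  have hcancel : ∀ u ∈ D.T, Commute u (c * d) := fun u hu => by
    have h1 := (Commute.inv_right (T_A hu hα : Commute u α)).mul_right (show Commute u (α * c * d) from h u hu)
    rwa [mul_assoc α, inv_mul_cancel_left] at h1
  obtain ⟨c0, hc0, hc01⟩ := F.exists_C1_ne
  have hd0 := F.f_C1 hc0
  have hd01 : F.f * c0 * F.f ≠ 1 := fun e => hc01 (by
    nth_rewrite 2 [← F.f_inv] at e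
    exact conj_eq_one_iff.1 e)
  have e1 : c = 1 := by
    by_contra hc1
    refine F.bracket_ne hc hd0 hc1 hd01 ?_
    have h1 := (hcancel _ (F.mem_C2.1 hd0).1).mul_right
      (Commute.inv_right (show Commute (F.f * c0 * F.f) d from F.C2_comm hd0 hd))
    rw [mul_inv_cancel_right] at h1
    calc c * (F.f * c0 * F.f) * c * (F.f * c0 * F.f)
        = c * ((F.f * c0 * F.f) * c) * (F.f * c0 * F.f) := by group
      _ = c * (c * (F.f * c0 * F.f)) * (F.f * c0 * F.f) := by rw [h1.eq]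
      _ = c * c * ((F.f * c0 * F.f) * (F.f * c0 * F.f)) := by group
      _ = 1 := by rw [F.C1_sq hc, F.C2_sq hd0, one_mul]
  have e2 : d = 1 := by
    by_contra hd1
    refine F.bracket_ne hc0 hd hc01 hd1 ?_
    have h1 : Commute c0 d := by
      have := hcancel c0 (F.mem_C1.1 hc0).1
      rwa [e1, one_mul] at this
    calc c0 * d * c0 * d = c0 * (d * c0) * d := by group
      _ = c0 * (c0 * d) * d := by rw [h1.eq]
      _ = c0 * c0 * (d * d) := by group
      _ = 1 := by rw [F.C1_sq hc0, F.C2_sq hd, one_mul]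
  rw [e1, e2, mul_one, mul_one]; exact hα

include F in
/-- In the non-solvable case there is a normal simple subgroup with Sylow 2-subgroup `T`. -/
theorem exists_simple (hns : ¬ Group.IsSolvable G) :
    ∃ M : Subgroup G, M.Normal ∧ IsSimpleGroup M ∧ ¬ IsMulCommutative M ∧ D.T ≤ M ∧ M ⊓ F.P ≤ D.T := by
  classical
  haveI : Fact (Nat.Prime 2) := ⟨Nat.prime_two⟩
  have hz0 : (⊤ : Subgroup G) ≠ ⊥ := fun e => D.z1 (mem_bot.1 (e ▸ mem_top z))
  obtain ⟨M, ⟨hM, hM1⟩, hmin⟩ := Set.exists_min_image {M : Subgroup G | M.Normal ∧ M ≠ ⊥}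
    (fun M => Nat.card M) (Set.toFinite _) ⟨⊤, inferInstance, hz0⟩
  haveI := hM
  have huniq : ∀ K : Subgroup G, K.Normal → K ≠ ⊥ → K ≤ M → K = M := fun K hK hK1 hle =>
    Subgroup.eq_of_le_of_card_ge hle (hmin K ⟨hK, hK1⟩)
  have hA := F.A_le_normal hM hM1
  have hperf : ⁅M, M⁆ = M := by
    by_cases hc : ⁅M, M⁆ = ⊥
    swap
    · exact huniq _ inferInstance hc (commutator_le_right M M)
    exfalso
    have hab : ∀ x ∈ M, ∀ y ∈ M, x * y = y * x := fun x hx y hy => by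
      have h1 : ⁅x, y⁆ ∈ ⁅M, M⁆ := commutator_mem_commutator hx hy
      rw [hc, mem_bot, commutatorElement_eq_one_iff_commute] at h1
      exact h1
    let Om : Subgroup G :=
      { carrier := {x | x ∈ M ∧ x * x = 1}
        one_mem' := ⟨one_mem _, one_mul 1⟩
        inv_mem' := fun {x} hx => ⟨inv_mem hx.1, by rw [← mul_inv_rev, hx.2, inv_one]⟩
        mul_mem' := fun {x y} hx hy => ⟨mul_mem hx.1 hy.1, by
          rw [show x * y * (x * y) = x * (y * x) * y by group, hab y hy.1 x hx.1,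
            show x * (x * y) * y = (x * x) * (y * y) by group, hx.2, hy.2, one_mul]⟩ }
    have hOn : Om.Normal := ⟨fun x hx g => ⟨hM.conj_mem x hx.1 g, by
      rw [show g * x * g⁻¹ * (g * x * g⁻¹) = g * (x * x) * g⁻¹ by group, hx.2, mul_one, mul_inv_cancel]⟩⟩
    have hOM : Om = M := huniq Om hOn (fun e => D.z1 (mem_bot.1 (e ▸
      (show z ∈ Om from ⟨hA D.z_mem_A, D.zz⟩)))) fun x hx => hx.1
    have hsq : ∀ x ∈ M, x * x = 1 := fun x hx => (hOM.ge hx).2
    have hzc : ∀ x ∈ M, x * z = z * x := fun x hx => hab x hx z (hA D.z_mem_A)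
    have hT : M ≤ D.T := by
      intro x hx
      have hxz := hzc x hx
      refine ⟨D.mem_CA.2 ⟨hxz, hab x hx _ (hA D.a_mem_A)⟩, perm_comm_inV _ ?_ fun t => ?_⟩
      · rw [← D.φ_mul _ _ hxz hxz, hsq x hx, D.φ_one]
      · obtain ⟨h, hh, rfl⟩ := D.φ_surj t
        have hm := hM.conj_mem x hx h
        rw [← D.φ_conj hh hxz, ← D.φ_mul _ _ hxz (hzc _ hm), ← D.φ_mul _ _ (hzc _ hm) hxz, hab x hx _ hm]
    have hMA : M = D.A := by
      refine le_antisymm (fun x hx => ?_) hA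
      by_contra hxA
      have hfx : F.f * x * F.f⁻¹ ∈ M := hM.conj_mem x hx F.f
      have hfA : F.f * x * F.f⁻¹ ∉ D.A := fun h => hxA (by
        have := conj_A (inv_mem F.f_N) h
        rwa [show F.f⁻¹ * (F.f * x * F.f⁻¹) * F.f⁻¹⁻¹ = x by group] at this)
      have hV : InV (D.φ F.f) := by rw [F.φf]; exact inV_facts.1
      rcases F.invol_InF (hT hx) (hsq x hx) with h1 | h1
      · exact hfA (F.InF1_comm_InF2 h1 hxA (F.swap_InF1 F.fz F.f_not_CA hV h1) (hab x hx _ hfx))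
      · exact hxA (F.InF1_comm_InF2 (F.swap_InF2 F.fz F.f_not_CA hV h1) hfA h1 (hab _ hfx x hx))
    have hNtop : D.N = ⊤ := normalizer_eq_top_iff.2 (hMA ▸ hM)
    have hG : Nat.card G = 2 ^ 8 * 3 ^ 2 := by
      rw [← card_top (G := G), ← hNtop, D.card_N (F.A_isX D.a_mem_A D.a_ne_one)]; norm_num
    exact hns (Cfsg.Agent.S0144.result 2 3 8 2 Nat.prime_two Nat.prime_three hG)
  obtain ⟨H, -, hTH, -, -, hHP, hHperf⟩ := F.exists_steps
  have hMP : M ⊓ F.P ≤ D.T := (inf_le_inf_right _ (hHperf M hperf)).trans hHP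
  -- a Sylow subgroup of `M`
  have hsyl : ∀ Q : Subgroup M, IsPGroup 2 Q → F.P.subgroupOf M ≤ Q → Q = F.P.subgroupOf M := by
    intro Q hQ hle
    obtain ⟨g, hg⟩ := Cfsg.Agent.Invol.exists_conj_subset_sylow (hQ.map M.subtype) F.sylow
    refine (Subgroup.eq_of_le_of_card_ge hle ?_).symm
    refine Nat.card_le_card_of_injective (fun q : Q => (⟨⟨g * (q : M) * g⁻¹, hM.conj_mem _ (q : M).2 g⟩,
      hg _ ⟨q, q.2, rfl⟩⟩ : F.P.subgroupOf M)) fun q q' e => ?_
    have e' : g * ((q : M) : G) * g⁻¹ = g * ((q' : M) : G) * g⁻¹ := congrArg (fun w : ↥(F.P.subgroupOf M) => ((w : M) : G)) e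
    exact Subtype.ext (Subtype.ext (mul_left_cancel (mul_right_cancel e')))
  let SM : Sylow 2 M :=
    { toSubgroup := F.P.subgroupOf M, isPGroup' := F.P_isPGroup.comap_subtype,
      is_maximal' := fun hQ hle => hsyl _ hQ hle }
  have hUN : ∀ n ∈ D.N, ∀ u ∈ M ⊓ D.T, n * u * n⁻¹ ∈ M ⊓ D.T := fun n hn u hu =>
    ⟨hM.conj_mem u hu.1 n, D.conj_T hn hu.2⟩
  have hcomm : ∀ K : Subgroup G, ⁅K, K⁆ = K → ⁅(⊤ : Subgroup ↥K), (⊤ : Subgroup ↥K)⁆ = ⊤ := by
    intro K hK
    refine map_injective (subtype_injective K) ?_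
    rw [map_commutator, ← MonoidHom.range_eq_map, range_subtype, hK]
  have hTM : D.T ≤ M := by
    by_cases hex : ∃ u ∈ M ⊓ D.T, u ∉ D.A
    · obtain ⟨u, hu, huA⟩ := hex
      exact (F.T_le_of_invariant inf_le_right hUN (le_inf hA D.A_le_T) hu huA).trans inf_le_left
    push Not at hex
    exfalso
    have hSA : ∀ y : M, y ∈ (SM : Subgroup M) ↔ (y : G) ∈ D.A := fun y =>
      ⟨fun h => hex _ ⟨y.2, hMP ⟨y.2, h⟩⟩, fun h => F.T_le_P (D.A_le_T h)⟩
    obtain ⟨L, -, -, hLi, hLc⟩ := burnside_compl SM (by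
      intro x hx
      have hxN : (x : G) ∈ D.N := Subgroup.mem_normalizer_fintype fun α hα =>
        (hSA _).1 ((mem_normalizer_iff.1 hx ⟨α, hA hα⟩).1 ((hSA _).2 hα))
      rw [mem_centralizer_iff]
      intro s hs
      refine Subtype.ext (mul_inv_eq_iff_eq_mul.1 (F.cent_A_of_trivial hxN (fun u hu => ?_) ((hSA s).1 hs))).symm
      refine hex _ ⟨?_, (mul_mem (D.conj_T hxN hu) (inv_mem hu) : (x : G) * u * (x : G)⁻¹ * u⁻¹ ∈ D.T)⟩
      rw [show (x : G) * u * (x : G)⁻¹ * u⁻¹ = (x : G) * (u * (x : G)⁻¹ * u⁻¹) by group]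
      exact mul_mem x.2 (hM.conj_mem _ (inv_mem x.2) u))
    rw [hcomm M hperf, top_le_iff] at hLc
    rw [hLc, index_top] at hLi
    have h2 : Nat.card D.A ≤ Nat.card SM := Nat.card_le_card_of_injective
      (fun y : D.A => (⟨⟨y, hA y.2⟩, (hSA _).2 y.2⟩ : (SM : Subgroup M)))
      fun y y' e => Subtype.ext (congrArg (fun w : ↥(SM : Subgroup M) => ((w : M) : G)) e)
    rw [card_A] at h2
    omega
  refine ⟨M, hM, ?_, ?_, hTM, hMP⟩
  swap
  · intro hc
    obtain ⟨c, hcC, hc1⟩ := F.exists_C1_ne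
    have hd0 := F.f_C1 hcC
    refine F.bracket_ne hcC hd0 hc1 (fun e => hc1 (by
      nth_rewrite 2 [← F.f_inv] at e; exact conj_eq_one_iff.1 e)) ?_
    have h1 : c * (F.f * c * F.f) = F.f * c * F.f * c := congrArg Subtype.val
      (hc.is_comm.comm ⟨c, hTM (F.mem_C1.1 hcC).1⟩ ⟨_, hTM (F.mem_C2.1 hd0).1⟩)
    calc c * (F.f * c * F.f) * c * (F.f * c * F.f) = c * (F.f * c * F.f * c) * (F.f * c * F.f) := by group
      _ = c * (c * (F.f * c * F.f)) * (F.f * c * F.f) := by rw [h1]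
      _ = c * c * (F.f * c * F.f * (F.f * c * F.f)) := by group
      _ = 1 := by rw [F.C1_sq hcC, F.C2_sq hd0, one_mul]
  -- every non-trivial normal subgroup of `M` contains `A`
  have hMcore : ∀ L : Subgroup M, L.IsSubnormal → Odd (Nat.card L) → L = ⊥ := by
    intro L hL hodd
    have h1 := Grp.le_pPrimeCore_of_isSubnormal (p := 2) (hL.trans' hM.isSubnormal)
      (by rw [card_map_of_injective (subtype_injective M)]; exact Nat.coprime_two_right.2 hodd)
    exact (map_eq_bot_iff_of_injective L (subtype_injective M)).1 (le_bot_iff.1 (h1.trans_eq F.core_bot))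
  have hAK : ∀ K : Subgroup M, K.Normal → K ≠ ⊥ → D.A ≤ K.map M.subtype := by
    intro K hK hK1
    haveI := hK
    have heven : 2 ∣ Nat.card K := by
      by_contra h
      exact hK1 (hMcore K hK.isSubnormal (Nat.not_even_iff_odd.1 fun h' => h h'.two_dvd))
    obtain ⟨⟨x, hx⟩, hox⟩ := exists_prime_orderOf_dvd_card' 2 heven
    rw [Subgroup.orderOf_mk] at hox
    obtain ⟨g, hg⟩ := Cfsg.Agent.Invol.exists_conj_mem_sylow (n := 1) (by rw [pow_one]; exact hox) SM
    set K' := K.map M.subtype with hK'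
    have hK'M : ∀ m ∈ M, ∀ k ∈ K', m * k * m⁻¹ ∈ K' := by
      rintro m hm _ ⟨k, hk, rfl⟩
      exact ⟨⟨m, hm⟩ * k * ⟨m, hm⟩⁻¹, hK.conj_mem k hk _, rfl⟩
    have hxT : ((g * x * g⁻¹ : M) : G) ∈ K' ⊓ D.T := ⟨⟨_, hK.conj_mem x hx g, rfl⟩, hMP ⟨(g * x * g⁻¹ : M).2, hg⟩⟩
    have hx1 : ((g * x * g⁻¹ : M) : G) ≠ 1 := fun e => by
      have h2 : x = 1 := conj_eq_one_iff.1 (Subtype.ext e)
      rw [h2, orderOf_one] at hox
      norm_num at hox
    by_cases hex : ∃ u ∈ K' ⊓ D.T, u ∉ D.A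
    · obtain ⟨u, ⟨huK, huT⟩, huA⟩ := hex
      obtain ⟨α, hα, c, hc, d, hd, rfl⟩ := F.exists_coord huT
      intro β hβ
      have hcm : ∀ m ∈ D.T, m * (α * c * d) * m⁻¹ * (α * c * d)⁻¹ ∈ K' := fun m hm =>
        mul_mem (hK'M m (hTM hm) _ huK) (inv_mem huK)
      by_cases hc1 : c = 1
      · have hd1 : d ≠ 1 := fun e => huA (by rw [hc1, e, mul_one, mul_one]; exact hα)
        obtain ⟨m, hm, e⟩ := F.F2_class hd hd1 hβ
        have := hcm m (F.mem_C1.1 hm).1
        rwa [hc1, mul_one, show m * (α * d) * m⁻¹ = (m * α) * (d * m⁻¹) by group, T_A (F.mem_C1.1 hm).1 hα,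
          show α * m * (d * m⁻¹) = α * (m * d * m⁻¹) by group, e, mul_inv_rev,
          show α * (β * d) * (d⁻¹ * α⁻¹) = α * β * α⁻¹ by group, D.A_comm hα hβ, mul_inv_cancel_right] at this
      · obtain ⟨m, hm, e⟩ := F.F1_class hc hc1 hβ
        have := hcm m (F.mem_C2.1 hm).1
        rwa [show m * (α * c * d) * m⁻¹ = (m * α) * c * (d * m⁻¹) by group, T_A (F.mem_C2.1 hm).1 hα,
          ← (Commute.inv_left (show Commute m d from F.C2_comm hm hd)).eq,
          show α * m * c * (m⁻¹ * d) = α * (m * c * m⁻¹) * d by group, e,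
          show α * (β * c) * d * (α * c * d)⁻¹ = α * β * α⁻¹ by group, D.A_comm hα hβ, mul_inv_cancel_right] at this
    push Not at hex
    by_contra hnA
    -- a Sylow subgroup of order two
    have hord : ∀ u ∈ K' ⊓ D.T, u = 1 ∨ u = ((g * x * g⁻¹ : M) : G) := by
      intro u hu
      by_contra hne
      push Not at hne
      refine hnA fun β hβ => ?_
      set y := ((g * x * g⁻¹ : M) : G) with hy
      have hyA := hex y hxT
      have huA := hex u hu
      have hm := mul_mem huA hyA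
      have hcard : ({1, u, y, u * y} : Set G) = (D.A : Set G) := by
        have huy : u * y ≠ 1 := fun e => hne.2 (by
          rw [mul_eq_one_iff_eq_inv.1 e, inv_eq_of_mul_eq_one_right (D.A_sq hyA)])
        refine Set.eq_of_subset_of_ncard_le (by
          rintro w (rfl | rfl | rfl | rfl)
          exacts [one_mem _, huA, hyA, hm]) ?_
        rw [← Nat.card_coe_set_eq, SetLike.coe_sort_coe, card_A]
        refine le_of_eq ((Set.ncard_eq_succ (n := 3)).2 ⟨1, {u, y, u * y}, ?_, rfl, ?_⟩).symm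
        · simp [Ne.symm hne.1, Ne.symm hx1, Ne.symm huy]
        · exact Set.ncard_eq_three.2 ⟨u, y, u * y, hne.2, fun e => hx1 (left_eq_mul.1 e),
            fun e => hne.1 (mul_eq_right.1 e.symm), rfl⟩
      have hβ' : β ∈ ({1, u, y, u * y} : Set G) := hcard ▸ hβ
      rcases hβ' with rfl | rfl | rfl | rfl
      exacts [one_mem _, hu.1, hxT.1, mul_mem hu.1 hxT.1]
    have hSK : ∀ Q : Subgroup K, IsPGroup 2 Q → (SM : Subgroup M).subgroupOf K ≤ Q → Q = (SM : Subgroup M).subgroupOf K := by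
      intro Q hQ hle
      obtain ⟨p, hp⟩ := Cfsg.Agent.Invol.exists_conj_subset_sylow (hQ.map K.subtype) SM
      refine (Subgroup.eq_of_le_of_card_ge hle ?_).symm
      refine Nat.card_le_card_of_injective (fun q : Q => (⟨⟨p * (q : K) * p⁻¹, hK.conj_mem _ (q : K).2 p⟩,
        hp _ ⟨q, q.2, rfl⟩⟩ : (SM : Subgroup M).subgroupOf K)) fun q q' e => ?_
      have e' : p * ((q : K) : M) * p⁻¹ = p * ((q' : K) : M) * p⁻¹ :=
        congrArg (fun w : ↥((SM : Subgroup M).subgroupOf K) => ((w : K) : M)) e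
      exact Subtype.ext (Subtype.ext (mul_left_cancel (mul_right_cancel e')))
    let SK : Sylow 2 K :=
      { toSubgroup := (SM : Subgroup M).subgroupOf K, isPGroup' := SM.isPGroup'.comap_subtype,
        is_maximal' := fun hQ hle => hSK _ hQ hle }
    have hSK2 : ∀ s : K, s ∈ (SK : Subgroup K) → s = 1 ∨ ((s : M) : G) = ((g * x * g⁻¹ : M) : G) := fun s hs =>
      (hord _ ⟨⟨s, s.2, rfl⟩, hMP ⟨(s : M).2, hs⟩⟩).imp (fun e => Subtype.ext (Subtype.ext e)) id
    obtain ⟨L, hLn, hLo, hLi, -⟩ := burnside_compl SK (by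
      intro w hw
      rw [mem_centralizer_iff]
      intro s hs
      rcases hSK2 s hs with e | e
      · rw [e, one_mul, mul_one]
      rcases hSK2 _ ((mem_normalizer_iff.1 hw s).1 hs) with e' | e'
      · rw [conj_eq_one_iff.1 e', one_mul, mul_one]
      · exact (mul_inv_eq_iff_eq_mul.1 (Subtype.ext (Subtype.ext (e'.trans e.symm)))).symm)
    have hL : L.map K.subtype = ⊥ := hMcore _ (hLn.isSubnormal.trans' hK.isSubnormal)
      (by rw [card_map_of_injective (subtype_injective K)]; exact hLo)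
    rw [(map_eq_bot_iff_of_injective L (subtype_injective K)).1 hL, index_bot] at hLi
    have htop : (SK : Subgroup K) = ⊤ := eq_top_of_card_eq _ hLi.symm
    -- `K` has order two, so is central
    have hK2 : ∀ k : K, k = 1 ∨ ((k : M) : G) = ((g * x * g⁻¹ : M) : G) := fun k => hSK2 k (htop ▸ mem_top k)
    have hcen : ∀ m ∈ M, m * ((g * x * g⁻¹ : M) : G) * m⁻¹ = ((g * x * g⁻¹ : M) : G) := by
      intro m hm
      rcases hK2 ⟨⟨m, hm⟩ * (g * x * g⁻¹) * ⟨m, hm⟩⁻¹, hK.conj_mem _ (hK.conj_mem x hx g) _⟩ with e | e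
      · exact absurd (congrArg (fun w : M => (w : G)) (conj_eq_one_iff.1 (congrArg Subtype.val e))) hx1
      · exact e
    -- a central element of `M` forces `M` to be commutative
    have hZne : centralizer (M : Set G) ⊓ M ≠ ⊥ := fun e => hx1 (mem_bot.1 (e ▸
      (show ((g * x * g⁻¹ : M) : G) ∈ centralizer (M : Set G) ⊓ M from
        ⟨mem_centralizer_iff.2 fun m hm => mul_inv_eq_iff_eq_mul.1 (hcen m hm), (g * x * g⁻¹ : M).2⟩)))
    have hZ := huniq _ inferInstance hZne inf_le_right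
    have hMc : M ≤ centralizer (M : Set G) := hZ.ge.trans inf_le_left
    have hbot : ⁅M, M⁆ = ⊥ := commutator_eq_bot_iff_le_centralizer.2 hMc
    exact hM1 (hperf.symm.trans hbot)
  haveI : Nontrivial M := (nontrivial_iff_ne_bot M).2 hM1
  refine ⟨fun K hK => ?_⟩
  by_contra h
  push Not at h
  obtain ⟨hK1, hKtop⟩ := h
  -- the intersection of all conjugates
  let J : Subgroup G := ⨅ g : G, (K.map M.subtype).comap (MulAut.conj g).toMonoidHom
  have hmemJ : ∀ y, y ∈ J ↔ ∀ g : G, g * y * g⁻¹ ∈ K.map M.subtype := fun y => by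
    simp [J, mem_iInf]
  have hJn : J.Normal := ⟨fun y hy g => (hmemJ _).2 fun h => by
    have := (hmemJ y).1 hy (h * g)
    rwa [show h * g * y * (h * g)⁻¹ = h * (g * y * g⁻¹) * h⁻¹ by group] at this⟩
  have hzJ : z ∈ J := (hmemJ z).2 fun g => by
    let ψ : M →* M := (MulAut.conjNormal g).toMonoidHom
    have hKg := hAK (K.comap ψ) (hK.comap ψ) ?_
    · obtain ⟨w, hw, e⟩ := hKg D.z_mem_A
      refine ⟨ψ w, hw, ?_⟩
      show ((MulAut.conjNormal g w : M) : G) = _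
      rw [MulAut.conjNormal_apply, show (w : G) = z from e]
    · intro e
      refine hK1 ((eq_bot_iff_forall _).2 fun k hk => ?_)
      obtain ⟨w, rfl⟩ : ∃ w, ψ w = k := (MulAut.conjNormal (H := M) g).surjective k
      have : w = 1 := mem_bot.1 (e ▸ (show w ∈ K.comap ψ from hk))
      rw [this, map_one]
  have hJle : J ≤ K.map M.subtype := fun y hy => by
    have := (hmemJ y).1 hy 1
    simpa using this
  have hJM : J = M := huniq J hJn (fun e => D.z1 (mem_bot.1 (e ▸ hzJ))) (hJle.trans (map_subtype_le K))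
  refine hKtop (eq_top_iff.2 fun k _ => ?_)
  obtain ⟨w, hw, e⟩ := hJle (hJM.ge k.2)
  exact (Subtype.ext e : w = k) ▸ hw

end Frame

end Cfsg.Agent.Fus.AutL34
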