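import Mathlib
import Cfsg.Agent.S2475
import Cfsg.Agent.Lib.Fus.Goldschmidt.Main
import Cfsg.Agent.Lib.Transfer.CIT.Main
import Cfsg.Agent.Lib.Fus.PlaneCentNine.Main
import Cfsg.Agent.Lib.Fus.AutLThreeFour.Minimal

/-!
The simple normal subgroup is `PSL(3, 4)`.
-/

set_option autoImplicit false
set_option linter.unusedSectionVars false
set_option linter.style.haveILetI false

universe u

namespace Cfsg.Agent.Fus.AutL34

open Subgroup Cfsg.Agent.Spor.ExtraOut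

/-- The hypotheses on the simple normal subgroup. -/
structure Socle {G : Type u} [Group G] [Finite G] {z : G} {D : Data z} (F : Frame D) (M : Subgroup G) : Prop where
  normal : M.Normal
  simple : IsSimpleGroup M
  nc : ¬ IsMulCommutative M
  T_le : D.T ≤ M
  inf_P : M ⊓ F.P ≤ D.T

namespace Socle

variable {G : Type u} [Group G] [Finite G] {z : G} {D : Data z} {F : Frame D} {M : Subgroup G} (s : Socle F M)

include s

theorem exists_sylow : ∃ S : Sylow 2 M, (S : Subgroup M) = D.T.subgroupOf M := by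
  haveI : Fact (Nat.Prime 2) := ⟨Nat.prime_two⟩
  have hi : ¬ 2 ∣ (F.P.subgroupOf M).index := Grp.not_dvd_relIndex_sylow F.sylow s.normal.isSubnormal
  refine ⟨(F.P_isPGroup.comap_subtype (K := M)).toSylow hi, (IsPGroup.toSylow_coe _ _).trans ?_⟩
  ext x
  exact ⟨fun hx => s.inf_P ⟨x.2, hx⟩, fun hx => F.T_le_P hx⟩

theorem z_mem : z ∈ M := s.T_le (D.A_le_T D.z_mem_A)

theorem mem_T_of_two {m : G} (hm : m ∈ M) (hP : m ∈ F.P) : m ∈ D.T := s.inf_P ⟨hm, hP⟩

theorem invol_isX {v : G} (hv : v ∈ D.T) (hvv : v * v = 1) (hv1 : v ≠ 1) : IsX z v := by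
  classical
  haveI := s.simple
  by_contra hvX
  have hvA : v ∉ D.A := fun h => hvX (F.A_isX h hv1)
  have hXA : ∀ w ∈ D.T, IsX z w → w ∈ D.A := by
    intro w hw hX
    by_contra hwA
    obtain ⟨p, -, e⟩ := F.invol_conj hw (hX.mul_self D.zz) hwA hv hvv hvA
    exact hvX (e ▸ hX.conj p)
  obtain ⟨S, hS⟩ := s.exists_sylow
  have hAM : D.A ≤ M := D.A_le_T.trans s.T_le
  have hne : D.A.subgroupOf M ≠ ⊥ := fun e => by
    have h1 : (⟨z, s.z_mem⟩ : M) ∈ D.A.subgroupOf M := D.z_mem_A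
    rw [e, mem_bot] at h1
    exact D.z1 (congrArg Subtype.val h1)
  have hel : Cfsg.IsElementaryAbelian 2 (D.A.subgroupOf M) :=
    ⟨⟨⟨fun x y => Subtype.ext (Subtype.ext (D.A_comm x.2 y.2))⟩⟩,
      fun x hx => Subtype.ext (by rw [SubgroupClass.coe_pow, pow_two]; exact D.A_sq hx)⟩
  have hsc : Cfsg.IsStronglyClosed (D.A.subgroupOf M) (S : Subgroup M) := by
    refine ⟨fun x hx => hS.ge (show (x : G) ∈ D.T from D.A_le_T hx), fun x hx g hg => ?_⟩
    by_cases hx1 : (x : G) = 1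
    · have : x = 1 := Subtype.ext hx1
      rw [this, mul_one, mul_inv_cancel]
      exact one_mem _
    · exact hXA _ (hS.le hg) ((F.A_isX hx hx1).conj (g : G))
  have := (Gold.conclusion_all M s.simple s.nc S _ hne hel hsc).2.1 ⟨v, s.T_le hv⟩ (hS.ge hv) (Subtype.ext hvv)
  exact hvA this

theorem frattini (g : G) : ∃ m ∈ M, m * g ∈ D.N := by
  haveI : Fact (Nat.Prime 2) := ⟨Nat.prime_two⟩
  obtain ⟨S, hS⟩ := s.exists_sylow
  obtain ⟨m, hm⟩ := Cfsg.Agent.Invol.exists_conj_subset_sylow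
    ((D.T_isPGroup.map (MulAut.conj g).toMonoidHom).comap_subtype (K := M)) S
  refine ⟨m, m.2, Subgroup.mem_normalizer_fintype fun α hα => ?_⟩
  have hconj : ∀ u ∈ D.T, (m : G) * g * u * ((m : G) * g)⁻¹ ∈ D.T := by
    intro u hu
    have h1 := hS.le (hm ⟨g * u * g⁻¹, s.normal.conj_mem u (s.T_le hu) g⟩ ⟨u, hu, rfl⟩)
    rw [show (m : G) * g * u * ((m : G) * g)⁻¹ = (m : G) * (g * u * g⁻¹) * (m : G)⁻¹ by group]
    exact h1
  refine F.center_T (hconj α (D.A_le_T hα)) fun u hu => ?_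
  let Φ : D.T → D.T := fun u => ⟨_, hconj u u.2⟩
  have hinj : Function.Injective Φ := fun a b e =>
    Subtype.ext (mul_left_cancel (mul_right_cancel (congrArg Subtype.val e)))
  obtain ⟨⟨w, hw⟩, e⟩ := (hinj.bijective_of_nat_card_le le_rfl).2 ⟨u, hu⟩
  have e' : (m : G) * g * w * ((m : G) * g)⁻¹ = u := congrArg Subtype.val e
  rw [← e']
  exact comm_conj (Frame.T_A hw hα)

/-- Conjugacy under `M`. -/
theorem conj_in_M {i : G} (hi : i ∈ M) (hii : i * i = 1) (hi1 : i ≠ 1) : ∃ m ∈ M, m * z * m⁻¹ = i := by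
  classical
  haveI : Fact (Nat.Prime 2) := ⟨Nat.prime_two⟩
  haveI := s.normal
  let R : G → G → Prop := fun x y => ∃ m ∈ M, m * x * m⁻¹ = y
  have rrefl : ∀ x, R x x := fun x => ⟨1, one_mem _, by group⟩
  have rsymm : ∀ {x y}, R x y → R y x := fun {x y} ⟨m, hm, e⟩ => ⟨m⁻¹, inv_mem hm, by rw [← e]; group⟩
  have rtrans : ∀ {x y w}, R x y → R y w → R x w := fun {x y w} ⟨m, hm, e⟩ ⟨k, hk, e'⟩ =>
    ⟨k * m, mul_mem hk hm, by rw [← e', ← e]; group⟩
  have rmap : ∀ {x y} (g : G), R x y → R (g * x * g⁻¹) (g * y * g⁻¹) := fun {x y} g ⟨m, hm, e⟩ =>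
    ⟨g * m * g⁻¹, s.normal.conj_mem m hm g, by rw [← e]; group⟩
  -- every conjugate of `z` is `M`-conjugate to an element of `A`
  have hA : ∀ y, IsX z y → ∃ α ∈ D.A, α ≠ 1 ∧ R α y := by
    rintro _ ⟨g, rfl⟩
    obtain ⟨m, hm, hn⟩ := s.frattini g
    refine ⟨m * g * z * (m * g)⁻¹, Frame.conj_A hn D.z_mem_A, fun e => D.z1 (conj_eq_one_iff.1 e),
      ⟨m⁻¹, inv_mem hm, by group⟩⟩
  obtain ⟨c, hc, hc1⟩ := F.exists_C1_ne
  obtain ⟨hcT, hcr⟩ := F.mem_C1.1 hc
  obtain ⟨α, hα, hα1, hαc⟩ := hA c (s.invol_isX hcT (F.C1_sq hc) hc1)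
  have hσC : F.σ * c * F.σ⁻¹ ∈ F.C1 := by
    refine F.mem_C1.2 ⟨D.conj_T F.σN hcT, ?_⟩
    have hr : Commute F.r1 F.σ := by
      rw [Frame.r1]; exact (Commute.refl F.σ).mul_left (show Commute F.ρ F.σ from F.ρσ)
    exact ((Commute.mul_right (Commute.mul_right hr hcr) (Commute.inv_right hr)) :)
  -- the class of `c` is invariant under `σ`
  have hρ : ∀ x y : G, R α x → y = F.ρ * x * F.ρ⁻¹ → R α y := fun x y h e => by
    have h1 := rmap F.ρ h
    rwa [F.ρ_A hα, mul_inv_cancel_right, ← e] at h1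
  have hcs : D.φ c ≠ 1 := fun e => hc1 (F.φ_inj1 hc (one_mem _) (by rw [e, D.φ_one]))
  have hσc1 : F.σ * c * F.σ⁻¹ ≠ 1 := fun e => hc1 (conj_eq_one_iff.1 e)
  have hσcs : D.φ (F.σ * c * F.σ⁻¹) ≠ 1 := fun e => hσc1 (F.φ_inj1 hσC (one_mem _) (by rw [e, D.φ_one]))
  have hc' := F.ρ_C1 hc
  have hασ : R α (F.σ * c * F.σ⁻¹) := by
    rcases inV_orbit _ hcT.2 hcs _ (F.mem_C1.1 hσC).1.2 hσcs with e | e | e
    · rw [F.φ_inj1 hσC hc e]; exact hαc
    · exact hρ c _ hαc (F.φ_inj1 hσC hc' (by rw [F.φ_conj_ρ hcT, e]))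
    · refine hρ _ _ (hρ c _ hαc rfl) (F.φ_inj1 hσC (F.ρ_C1 hc') ?_)
      rw [F.φ_conj_ρ (F.mem_C1.1 hc').1, F.φ_conj_ρ hcT, e, (r0_twice _).1]
  have h1 : R α (F.σ * α * F.σ⁻¹) := rtrans hασ (rsymm (rmap F.σ hαc))
  have h2 : R α (F.σ * (F.σ * α * F.σ⁻¹) * F.σ⁻¹) := rtrans h1 (rmap F.σ h1)
  set α1 := F.σ * α * F.σ⁻¹ with hα1def
  set α2 := F.σ * α1 * F.σ⁻¹ with hα2def
  have hα1A : α1 ∈ D.A := Frame.conj_A F.σN hα
  have hα2A : α2 ∈ D.A := Frame.conj_A F.σN hα1A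
  have hne1 : α1 ≠ α := fun e => hα1 (F.σ_fix hα (mul_inv_eq_iff_eq_mul.1 e))
  have hne3 : α2 ≠ α1 := fun e => hne1 (mul_left_cancel (mul_right_cancel e))
  have h3 : F.σ * α2 * F.σ⁻¹ = α := by
    rw [hα2def, hα1def, show F.σ * (F.σ * (F.σ * α * F.σ⁻¹) * F.σ⁻¹) * F.σ⁻¹ = F.σ ^ 3 * α * (F.σ ^ 3)⁻¹ by
      simp only [pow_succ, pow_zero, one_mul, mul_inv_rev]; group, F.σ3, one_mul, inv_one, mul_one]
  have hne2 : α2 ≠ α := fun e => hne1 (by rw [e] at h3; exact h3)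
  have h11 : α1 ≠ 1 := fun e => hα1 (conj_eq_one_iff.1 e)
  have h21 : α2 ≠ 1 := fun e => h11 (conj_eq_one_iff.1 e)
  have hall : ∀ β ∈ D.A, β ≠ 1 → R α β := by
    intro β hβ hβ1
    have hsub : ({1, α, α1, α2} : Set G) = (D.A : Set G) := by
      refine Set.eq_of_subset_of_ncard_le (by rintro w (rfl | rfl | rfl | rfl); exacts [one_mem _, hα, hα1A, hα2A]) ?_
      rw [← Nat.card_coe_set_eq, SetLike.coe_sort_coe, Frame.card_A]
      refine le_of_eq ((Set.ncard_eq_succ (n := 3)).2 ⟨1, {α, α1, α2}, ?_, rfl, ?_⟩).symm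
      · simp [Ne.symm hα1, Ne.symm h11, Ne.symm h21]
      · exact Set.ncard_eq_three.2 ⟨α, α1, α2, hne1.symm, hne2.symm, hne3.symm, rfl⟩
    have hm : β ∈ ({1, α, α1, α2} : Set G) := hsub ▸ hβ
    rcases hm with e | e | e | e
    · exact absurd e hβ1
    · rw [e]; exact rrefl α
    · rw [e]; exact h1
    · rw [e]; exact h2
  -- into the Sylow subgroup
  obtain ⟨S, hS⟩ := s.exists_sylow
  have ho : orderOf (⟨i, hi⟩ : M) = 2 ^ 1 := by
    rw [pow_one, Subgroup.orderOf_mk]; exact orderOf_eq_prime (by rw [pow_two, hii]) hi1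
  obtain ⟨m, hm⟩ := Cfsg.Agent.Invol.exists_conj_mem_sylow ho S
  replace hm : (m : G) * i * (m : G)⁻¹ ∈ D.T := hS.le hm
  have hyy : (m : G) * i * (m : G)⁻¹ * ((m : G) * i * (m : G)⁻¹) = 1 := by
    rw [show (m : G) * i * (m : G)⁻¹ * ((m : G) * i * (m : G)⁻¹) = (m : G) * (i * i) * (m : G)⁻¹ by group, hii,
      mul_one, mul_inv_cancel]
  obtain ⟨β, hβ, hβ1, hR⟩ := hA _ (s.invol_isX hm hyy fun e => hi1 (conj_eq_one_iff.1 e))
  exact rtrans (rtrans (rtrans (rsymm (hall z D.z_mem_A D.z1)) (hall β hβ hβ1)) hR)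
    (⟨(m : G)⁻¹, inv_mem m.2, by group⟩ : R _ i)

theorem T_le_cent : D.T ≤ M ⊓ centralizer ({z} : Set G) := fun _ hx => ⟨s.T_le hx, hx.1.1⟩

theorem card_cent_cases : Nat.card ↥(M ⊓ centralizer ({z} : Set G)) = 64 ∨
    Nat.card ↥(M ⊓ centralizer ({z} : Set G)) = 192 := by
  haveI : Fact (Nat.Prime 2) := ⟨Nat.prime_two⟩
  set K := M ⊓ centralizer ({z} : Set G) with hK
  have h64 : 64 ∣ Nat.card K := D.card_T ▸ Subgroup.card_dvd_of_le s.T_le_cent
  have h768 : Nat.card K ∣ 768 := D.card_C ▸ Subgroup.card_dvd_of_le inf_le_right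
  have h128 : ¬ 128 ∣ Nat.card K := by
    intro hd
    obtain ⟨Q, hQ⟩ := Sylow.exists_subgroup_card_pow_prime 2 (G := K) (n := 7) hd
    obtain ⟨S, hS⟩ := s.exists_sylow
    have hQM : IsPGroup 2 ((Q.map K.subtype).subgroupOf M) :=
      ((IsPGroup.of_card (n := 7) hQ).map K.subtype).comap_subtype
    obtain ⟨g, hg⟩ := Cfsg.Agent.Invol.exists_conj_subset_sylow hQM S
    have hle : Nat.card Q ≤ Nat.card D.T :=
      Nat.card_le_card_of_injective (fun q : Q => (⟨(g : G) * ((q : K) : G) * (g : G)⁻¹,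
        hS.le (hg ⟨((q : K) : G), (q : K).2.1⟩ ⟨(q : K), q.2, rfl⟩)⟩ : D.T)) fun a b e =>
          Subtype.ext (Subtype.ext (mul_left_cancel (mul_right_cancel (congrArg Subtype.val e))))
    rw [hQ, D.card_T] at hle
    norm_num at hle
  obtain ⟨k, hk⟩ := h64
  rw [hk] at h768 h128 ⊢
  have h12 : k ∣ 12 := (Nat.mul_dvd_mul_iff_left (by norm_num : 0 < 64)).1 h768
  have := Nat.le_of_dvd (by norm_num) h12
  interval_cases k <;> omega

theorem card_cent : Nat.card ↥(M ⊓ centralizer ({z} : Set G)) = 64 := by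
  classical
  refine s.card_cent_cases.resolve_right fun h192 => ?_
  haveI : Fact (Nat.Prime 2) := ⟨Nat.prime_two⟩
  haveI := s.simple
  haveI := s.normal
  set C := centralizer ({z} : Set G) with hC
  have hρM : F.ρ ∈ M := by
    haveI : ((M ⊓ C).subgroupOf C).Normal :=
      ⟨fun x hx g => ⟨s.normal.conj_mem _ hx.1 g, (g * x * g⁻¹).2⟩⟩
    have h1 := ((M ⊓ C).subgroupOf C).card_mul_index
    rw [Nat.card_congr (subgroupOfEquivOfLe inf_le_right).toEquiv, h192, D.card_C] at h1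
    have h4 : ((M ⊓ C).subgroupOf C).index = 4 := by omega
    have hp := Subgroup.pow_index_mem ((M ⊓ C).subgroupOf C) ⟨F.ρ, F.ρ_CA.1⟩
    rw [h4] at hp
    have h5 : F.ρ ^ 4 ∈ M := hp.1
    rwa [pow_succ, F.ρ3, one_mul] at h5
  obtain ⟨S, hS⟩ := s.exists_sylow
  set V2 := F.S1.map (MulAut.conj F.f).toMonoidHom with hV2
  have hV2T : ∀ x ∈ V2, F.InF2 x := by
    rintro _ ⟨w, hw, rfl⟩
    exact F.swap_InF1 F.fz F.f_not_CA (by rw [F.φf]; exact inV_facts.1) hw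
  have hF2 : ∀ x, F.InF2 x → x ∈ V2 := by
    intro x hx
    refine ⟨F.f * x * F.f⁻¹, F.swap_InF2 F.fz F.f_not_CA (by rw [F.φf]; exact inV_facts.1) hx, ?_⟩
    show F.f * (F.f * x * F.f⁻¹) * F.f⁻¹ = x
    rw [show F.f * (F.f * x * F.f⁻¹) * F.f⁻¹ = (F.f * F.f) * x * (F.f * F.f)⁻¹ by group, F.f2, one_mul, inv_one,
      mul_one]
  have hS1T : F.S1 ≤ D.T := fun x hx => Frame.InF1.mem_T F hx
  have hV2le : V2 ≤ D.T := fun x hx => Frame.InF2.mem_T F (hV2T x hx)
  have hAeq : F.S1 ⊓ V2 = D.A := by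
    refine le_antisymm (fun x hx => F.InF1_inter hx.1 (hV2T x hx.2)) fun x hx => ?_
    exact ⟨⟨x, hx, 1, one_mem _, (mul_one x).symm⟩, hF2 x ⟨x, hx, 1, one_mem _, (mul_one x).symm⟩⟩
  have hcv : Nat.card V2 = 16 := by
    rw [hV2, card_map_of_injective (MulAut.conj F.f).injective, F.card_S1]
  have hcard : ∀ U : Subgroup G, U ≤ M → Nat.card ↥(U.subgroupOf M) = Nat.card U := fun U h =>
    Nat.card_congr (subgroupOfEquivOfLe h).toEquiv
  have hsqV : ∀ v ∈ V2, v * v = 1 := by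
    rintro _ ⟨w, hw, rfl⟩
    rw [← map_mul, F.S1_sq hw, map_one]
  refine PlaneCentNine.false_of_centralizer_192 S (F.S1.subgroupOf M) (V2.subgroupOf M) (z := ⟨z, s.z_mem⟩)
    (ρ := ⟨F.ρ, hρM⟩) (fun x hx => hS.ge (hS1T hx)) (fun x hx => hS.ge (hV2le hx)) ?_ ?_ ?_ ?_ ?_ ?_ ?_ ?_ ?_ ?_ ?_
    ?_ ?_ ?_ ?_ ?_
  · rw [hcard _ (hS1T.trans s.T_le), F.card_S1]
  · rw [hcard _ (hV2le.trans s.T_le), hcv]
  · exact fun v hv => Subtype.ext (F.S1_sq hv)
  · exact fun v hv => Subtype.ext (hsqV _ hv)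
  · rw [show F.S1.subgroupOf M ⊓ V2.subgroupOf M = (F.S1 ⊓ V2).subgroupOf M from rfl, hAeq,
      hcard _ (D.A_le_T.trans s.T_le), Frame.card_A]
  · rw [hS, hcard _ s.T_le, D.card_T]
  · intro w hw x hx
    have hwA : (w : G) ∈ D.A := hAeq.le ⟨hw.1, hw.2⟩
    exact Subtype.ext (Frame.T_A (hS.le hx) hwA)
  · intro x hx hxx
    exact (F.invol_InF (hS.le hx) (congrArg Subtype.val hxx)).imp id (hF2 _)
  · exact hAeq.ge D.z_mem_A
  · exact fun e => D.z1 (congrArg Subtype.val e)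
  · intro i hi
    have hii : i * i = 1 := by rw [← pow_two, ← hi, pow_orderOf_eq_one]
    obtain ⟨m, hm, e⟩ := s.conj_in_M i.2 (congrArg Subtype.val hii) fun e => by
      rw [show i = 1 from Subtype.ext e, orderOf_one] at hi; norm_num at hi
    exact ⟨⟨m, hm⟩, Subtype.ext e⟩
  · rw [← h192]
    refine Nat.card_congr ?_
    exact
      { toFun := fun x => ⟨((x : M) : G), (x : M).2, mem_centralizer_singleton_iff.2
          (congrArg Subtype.val (mem_centralizer_singleton_iff.1 x.2))⟩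
        invFun := fun x => ⟨⟨x, x.2.1⟩, mem_centralizer_singleton_iff.2
          (Subtype.ext (mem_centralizer_singleton_iff.1 x.2.2))⟩
        left_inv := fun x => rfl
        right_inv := fun x => rfl }
  · intro x hx
    refine Subgroup.mem_normalizer_fintype fun y hy => hS.ge ?_
    exact D.conj_T_of_C (congrArg Subtype.val (mem_centralizer_singleton_iff.1 hx)) (hS.le hy)
  · exact Subtype.ext F.ρz
  · exact Subtype.ext F.ρ3
  · intro v hv e
    exact hAeq.ge (F.cent_ρ (hS.le hv) (congrArg Subtype.val e))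

theorem cent_eq : M ⊓ centralizer ({z} : Set G) = D.T :=
  (Subgroup.eq_of_le_of_card_ge s.T_le_cent (by rw [s.card_cent, D.card_T])).symm

theorem isCIT : Transfer.CIT.IsCIT M := by
  intro i hi
  have hii : i * i = 1 := by rw [← pow_two, ← hi, pow_orderOf_eq_one]
  obtain ⟨m, hm, e⟩ := s.conj_in_M i.2 (congrArg Subtype.val hii) fun e => by
    rw [show i = 1 from Subtype.ext e, orderOf_one] at hi; norm_num at hi
  have key : ∀ x ∈ centralizer ({i} : Set M), m⁻¹ * (x : G) * m ∈ D.T := by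
    intro x hx
    have hc : (x : G) * (m * z * m⁻¹) = (m * z * m⁻¹) * x := by
      rw [e]; exact congrArg Subtype.val (mem_centralizer_singleton_iff.1 hx)
    rw [← s.cent_eq]
    refine ⟨(mul_mem (mul_mem (inv_mem hm) x.2) hm : m⁻¹ * (x : G) * m ∈ M), mem_centralizer_singleton_iff.2 ?_⟩
    calc m⁻¹ * (x : G) * m * z = m⁻¹ * ((x : G) * (m * z * m⁻¹)) * m := by group
      _ = z * (m⁻¹ * (x : G) * m) := by rw [hc]; group
  rintro ⟨x, hx⟩
  obtain ⟨n, hn⟩ := D.T_isPGroup ⟨_, key x hx⟩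
  refine ⟨n, Subtype.ext (Subtype.ext ?_)⟩
  have hn' : (m⁻¹ * (x : G) * m⁻¹⁻¹) ^ 2 ^ n = 1 := by rw [inv_inv]; exact congrArg Subtype.val hn
  rw [conj_pow] at hn'
  simpa using conj_eq_one_iff.1 hn'

theorem three_dvd_card : 3 ∣ Nat.card M := by
  classical
  haveI := s.normal
  haveI : Fact (Nat.Prime 3) := ⟨Nat.prime_three⟩
  obtain ⟨m, hm, e⟩ := s.conj_in_M (D.A_le_T.trans s.T_le D.a_mem_A) D.aa D.a_ne_one
  have hmN : m ∈ D.N := by
    have hconj : ∀ u ∈ D.T, m⁻¹ * u * m ∈ D.T := by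
      intro u hu
      rw [← s.cent_eq]
      refine ⟨(mul_mem (mul_mem (inv_mem hm) (s.T_le hu)) hm : m⁻¹ * u * m ∈ M), mem_centralizer_singleton_iff.2 ?_⟩
      calc m⁻¹ * u * m * z = m⁻¹ * (u * (m * z * m⁻¹)) * m := by group
        _ = m⁻¹ * ((m * z * m⁻¹) * u) * m := by rw [e, Frame.T_A hu D.a_mem_A]
        _ = z * (m⁻¹ * u * m) := by group
    refine inv_mem_iff.1 (Subgroup.mem_normalizer_fintype fun α hα => F.center_T
      (by have := hconj α (D.A_le_T hα); rwa [inv_inv]) fun u hu => ?_)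
    let Φ : D.T → D.T := fun u => ⟨_, hconj u u.2⟩
    have hinj : Function.Injective Φ := fun a b e =>
      Subtype.ext (mul_left_cancel (mul_right_cancel (congrArg Subtype.val e)))
    obtain ⟨⟨w, hw⟩, e⟩ := (hinj.bijective_of_nat_card_le le_rfl).2 ⟨u, hu⟩
    rw [show u = m⁻¹ * w * m from (congrArg Subtype.val e).symm, inv_inv]
    have := comm_conj (g := m⁻¹) (Frame.T_A hw hα)
    rwa [inv_inv] at this
  by_contra h3
  -- the odd part of `m` fixes `z`
  set K := M ⊓ D.N with hK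
  have hK3 : ¬ 3 ∣ Nat.card K := fun h => h3 (h.trans (Subgroup.card_dvd_of_le inf_le_left))
  have hKd : Nat.card K ∣ 2304 := D.card_N (F.A_isX D.a_mem_A D.a_ne_one) ▸ Subgroup.card_dvd_of_le inf_le_right
  have hK256 : Nat.card K ∣ 256 := by
    rw [show 2304 = 256 * 3 ^ 2 by norm_num] at hKd
    exact ((Nat.Prime.coprime_iff_not_dvd Nat.prime_three).2 hK3).symm.pow_right 2 |>.dvd_of_dvd_mul_right hKd
  obtain ⟨j, -, hj⟩ := (Nat.dvd_prime_pow Nat.prime_two).1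
    (show Nat.card K ∣ 2 ^ 8 by rw [show (2 : ℕ) ^ 8 = 256 by norm_num]; exact hK256)
  obtain ⟨S, hS⟩ := s.exists_sylow
  haveI : Fact (Nat.Prime 2) := ⟨Nat.prime_two⟩
  have hsub : D.T.subgroupOf M ≤ K.subgroupOf M := fun x hx => ⟨x.2, D.C_le_N hx.1.1⟩
  have hKp : IsPGroup 2 (K.subgroupOf M) := ((IsPGroup.of_card hj).comap_subtype)
  have := S.is_maximal' hKp (hS.le.trans hsub)
  have hmT : m ∈ D.T :=
    (this.trans hS).le (show (⟨m, hm⟩ : M) ∈ K.subgroupOf M from ⟨hm, hmN⟩)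
  rw [Frame.T_A hmT D.z_mem_A, mul_inv_cancel_right] at e
  exact D.a_ne_z e.symm

theorem two_part : ¬ 128 ∣ Nat.card M := by
  intro hd
  haveI : Fact (Nat.Prime 2) := ⟨Nat.prime_two⟩
  obtain ⟨S, hS⟩ := s.exists_sylow
  obtain ⟨Q, hQ⟩ := Sylow.exists_subgroup_card_pow_prime 2 (G := M) (n := 7) hd
  obtain ⟨g, hg⟩ := Cfsg.Agent.Invol.exists_conj_subset_sylow (IsPGroup.of_card (n := 7) hQ) S
  have hle : Nat.card Q ≤ Nat.card D.T :=
    Nat.card_le_card_of_injective (fun q : Q => (⟨((g * q * g⁻¹ : M) : G), hS.le (hg q q.2)⟩ : D.T)) fun a b e =>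
      Subtype.ext (mul_left_cancel (mul_right_cancel
        (Subtype.ext (congrArg (fun w : D.T => (w : G)) e :) : g * (a : M) * g⁻¹ = g * b * g⁻¹)))
  rw [hQ, D.card_T] at hle
  norm_num at hle

theorem sixtyfour_dvd : 64 ∣ Nat.card M := D.card_T ▸ Subgroup.card_dvd_of_le s.T_le

theorem exists_order_four : ∃ k : M, orderOf k = 4 := by
  haveI : Fact (Nat.Prime 2) := ⟨Nat.prime_two⟩
  obtain ⟨k, hkT, -, hkk⟩ := F.swap_root F.fz F.f2 F.f_not_CA (by rw [F.φf]; exact inV_facts.1)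
  refine ⟨⟨k, s.T_le hkT⟩, ?_⟩
  rw [Subgroup.orderOf_mk, show (4 : ℕ) = 2 ^ (1 + 1) by norm_num]
  refine orderOf_eq_prime_pow ?_ ?_
  · rw [pow_one, pow_two, hkk]; exact D.z1
  · rw [show (2 : ℕ) ^ (1 + 1) = 2 * 2 by norm_num, pow_mul, pow_two, pow_two, hkk, D.zz]

theorem iso : ∃ (K : Type) (_ : Field K) (_ : Fintype K), Fintype.card K = 4 ∧
    Nonempty (M ≃* Matrix.ProjectiveSpecialLinearGroup (Fin 3) K) := by
  haveI := s.simple
  rcases s.isCIT.classification s.nc with ⟨K, i1, i2, hq, ⟨e⟩⟩ | h | hSz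
  · exfalso
    have h4 := Transfer.CIT.four_le_card_field s.nc e
    have hc := Dickson.card_psl (F := K)
    rw [← Nat.card_congr e.toEquiv] at hc
    have hdel : Dickson.del K = Nat.gcd 2 (Fintype.card K - 1) := rfl
    rw [hdel] at hc
    have h64 := s.sixtyfour_dvd
    have h128 := s.two_part
    rcases hq with h9 | ⟨n, hn⟩ | ⟨hp, k, hk⟩
    · rw [h9] at hc; norm_num at hc; omega
    · -- even characteristic: no element of order four
      obtain ⟨g, hg⟩ := s.exists_order_four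
      obtain ⟨p, hpF⟩ := CharP.exists K
      haveI := hpF
      haveI : Fact p.Prime := ⟨CharP.char_is_prime K p⟩
      have hspec := Cfsg.Agent.S2475.result (F := K) p h4
      have hmem : 4 ∈ Set.range (orderOf : Matrix.ProjectiveSpecialLinearGroup (Fin 2) K → ℕ) :=
        ⟨e g, by rw [MulEquiv.orderOf_eq, hg]⟩
      rw [hspec, Set.mem_setOf_eq] at hmem
      obtain ⟨t, ht⟩ : 2 ∣ Fintype.card K := by
        rw [hn]
        exact dvd_pow_self 2 fun h0 => by rw [h0, pow_zero] at hn; omega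
      have hg2 : Nat.gcd 2 (Fintype.card K - 1) = 1 :=
        (Nat.Prime.coprime_iff_not_dvd Nat.prime_two).2 (by omega)
      rw [hg2, Nat.div_one, Nat.div_one] at hmem
      rcases hmem with hd | hd | hd
      · have := Nat.le_of_dvd (Fact.out : p.Prime).pos hd
        rcases (Nat.dvd_prime (Fact.out : p.Prime)).1 hd with h | h
        · norm_num at h
        · exact (by norm_num : ¬ Nat.Prime 4) (h ▸ (Fact.out : p.Prime))
      · omega
      · omega
    · -- odd prime field: the two-part is wrong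
      have hk7 : k < 7 := by
        by_contra hk7
        push Not at hk7
        obtain ⟨t, rfl⟩ : ∃ t, k = 7 + t := ⟨k - 7, by omega⟩
        apply h128
        have hg2 : Nat.gcd 2 (Fintype.card K - 1) = 2 := by
          refine Nat.gcd_eq_left ?_
          rcases hk with h | h <;> rw [pow_add] at h <;> omega
        rw [hg2] at hc
        rcases hk with h | h
        · rw [h, Nat.add_sub_cancel, pow_add, show 2 ^ 7 * 2 ^ t + 1 + 1 = 2 * (64 * 2 ^ t + 1) by ring] at hc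
          exact ⟨(2 ^ 7 * 2 ^ t + 1) * (2 ^ t * (64 * 2 ^ t + 1)), Nat.eq_of_mul_eq_mul_right two_pos (by rw [hc]; ring)⟩
        · obtain ⟨q', hq'⟩ : ∃ q', Fintype.card K - 1 = q' * 2 := by
            have : 2 ∣ Fintype.card K - 1 := hg2 ▸ Nat.gcd_dvd_right _ _
            exact ⟨_, (Nat.div_mul_cancel this).symm⟩
          rw [h, hq', pow_add] at hc
          exact ⟨Fintype.card K * (q' * 2 ^ t), Nat.eq_of_mul_eq_mul_right two_pos (by rw [hc]; ring)⟩
      rcases hk with h | h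
      · interval_cases k <;> rw [h] at hc hp h4 <;> revert hc hp h4 <;> norm_num <;> intros <;> omega
      · interval_cases k <;> rw [show Fintype.card K = _ from Nat.eq_sub_of_add_eq h] at hc hp h4 <;>
          revert hc hp h4 <;> norm_num <;> intros <;> omega
  · exact h
  · exfalso
    obtain ⟨-, m, hm, hcard⟩ := hSz
    have h128 := s.two_part
    by_cases hm2 : 2 ≤ m
    · obtain ⟨t, rfl⟩ : ∃ t, m = 2 + t := ⟨m - 2, by omega⟩
      refine h128 (dvd_trans ?_ ⟨_, hcard.trans (mul_assoc _ _ _)⟩)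
      rw [← pow_mul, show (128 : ℕ) = 2 ^ 7 by norm_num]
      exact pow_dvd_pow 2 (by omega)
    · have hm1 : m = 1 := by omega
      rw [hm1] at hcard
      have := s.three_dvd_card
      rw [hcard] at this
      norm_num at this

end Socle

namespace Frame

variable {G : Type u} [Group G] [Finite G] {z : G} {D : Data z} (F : Frame D)

include F in
theorem exists_socle (hns : ¬ Group.IsSolvable G) : ∃ M : Subgroup G, Socle F M :=
  let ⟨M, h1, h2, h3, h4, h5⟩ := F.exists_simple hns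
  ⟨M, ⟨h1, h2, h3, h4, h5⟩⟩

end Frame

end Cfsg.Agent.Fus.AutL34
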