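import Mathlib
import Cfsg.Agent.Lib.Grp.Basic
import Cfsg.Agent.Lib.Block.OrderPSL
import Cfsg.Agent.Lib.Fus.AutLThreeFour.Socle
import Cfsg.Agent.Lib.Fus.AutLThreeFour.Aut

/-!
The group is the automorphism group of `PGL(3, 4)`.
-/

set_option autoImplicit false
set_option linter.unusedSectionVars false
set_option linter.style.haveILetI false

universe u v

namespace Cfsg.Agent.Fus.AutL34

open Subgroup

variable {G : Type u} [Group G] [Finite G] {z : G} {D : Data z} {F : Frame D} {M : Subgroup G}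

theorem Socle.card_inf_N_le (s : Socle F M) : Nat.card ↥(D.N ⊓ M) ≤ 192 := by
  classical
  set K := D.N ⊓ M with hK
  let X : Type u := {α : G // α ∈ D.A ∧ α ≠ 1}
  let act : K → X := fun m => ⟨(m : G) * z * (m : G)⁻¹, Frame.conj_A m.2.1 D.z_mem_A,
    fun e => D.z1 (conj_eq_one_iff.1 e)⟩
  have hrep : ∀ x : Set.range act, ∃ m : K, act m = x.1 := fun x => x.2
  choose rep hrep using hrep
  let Φ : K → D.T × Set.range act := fun m => (⟨((rep ⟨act m, m, rfl⟩ : K) : G)⁻¹ * m, by
    rw [← s.cent_eq]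
    refine ⟨M.mul_mem (M.inv_mem (rep ⟨act m, m, rfl⟩).2.2) m.2.2, mem_centralizer_singleton_iff.2 ?_⟩
    have e : ((rep ⟨act m, m, rfl⟩ : K) : G) * z * ((rep ⟨act m, m, rfl⟩ : K) : G)⁻¹ = (m : G) * z * (m : G)⁻¹ :=
      congrArg Subtype.val (hrep ⟨act m, m, rfl⟩)
    calc ((rep ⟨act m, m, rfl⟩ : K) : G)⁻¹ * m * z
        = ((rep ⟨act m, m, rfl⟩ : K) : G)⁻¹ * ((m : G) * z * (m : G)⁻¹) * m := by group
      _ = z * (((rep ⟨act m, m, rfl⟩ : K) : G)⁻¹ * m) := by rw [← e]; group⟩, ⟨act m, m, rfl⟩)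
  have hinj : Function.Injective Φ := by
    intro a b e
    have e2 : (⟨act a, a, rfl⟩ : Set.range act) = ⟨act b, b, rfl⟩ := congrArg Prod.snd e
    have e1 := congrArg (fun w : D.T × Set.range act => (w.1 : G)) e
    change ((rep ⟨act a, a, rfl⟩ : K) : G)⁻¹ * a = ((rep ⟨act b, b, rfl⟩ : K) : G)⁻¹ * b at e1
    rw [e2] at e1
    exact Subtype.ext (mul_left_cancel e1)
  have hX : Nat.card X ≤ 3 := by
    have hlt : Nat.card X < Nat.card D.A := by
      haveI := Fintype.ofFinite G
      rw [Nat.card_eq_fintype_card, Nat.card_eq_fintype_card]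
      exact Fintype.card_lt_of_injective_of_notMem (fun x : X => (⟨x.1, x.2.1⟩ : D.A))
        (fun a b e => Subtype.ext (congrArg (fun w : D.A => (w : G)) e :)) (b := 1)
        (fun ⟨x, hx⟩ => x.2.2 (congrArg (fun w : D.A => (w : G)) hx :))
    rw [Frame.card_A] at hlt
    omega
  have h := Nat.card_le_card_of_injective Φ hinj
  rw [Nat.card_prod, D.card_T] at h
  have h3 : Nat.card (Set.range act) ≤ 3 :=
    (Nat.card_le_card_of_injective Subtype.val Subtype.val_injective).trans hX
  calc Nat.card K ≤ 64 * Nat.card (Set.range act) := h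
    _ ≤ 192 := by omega

theorem Socle.equiv_mulAut (s : Socle F M) {L : Type v} [Field L] [Fintype L] (hL : Fintype.card L = 4) :
    Nonempty (G ≃* MulAut (GL (Fin 3) L ⧸ center (GL (Fin 3) L))) := by
  classical
  obtain ⟨K, iK, iK', hK, ⟨e⟩⟩ := s.iso
  obtain ⟨eKL⟩ := Block.OrdP.psl_congr' (n := 3) (FiniteField.ringEquivOfCardEq (K := K) (K' := L) (hK.trans hL.symm))
  let e' := e.trans eKL
  obtain ⟨hpsl, haut⟩ := card_four_facts hL
  have hM : Nat.card M = 20160 := (Nat.card_congr e'.toEquiv).trans hpsl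
  have hAut : Nat.card (MulAut M) = 241920 := (Nat.card_congr (MulAut.congr e').toEquiv).trans haut
  haveI := s.normal
  let Θ : G →* MulAut M := MulAut.conjNormal
  have hinj : Function.Injective Θ := by
    rw [← MonoidHom.ker_eq_bot_iff]
    by_contra hk
    have hz := F.z_mem_normal (M := Θ.ker) inferInstance hk
    have hle : M ≤ centralizer ({z} : Set G) := by
      intro m hm
      refine mem_centralizer_singleton_iff.2 ?_
      have h1 := congrArg (fun w : M => (w : G)) (DFunLike.congr_fun (MonoidHom.mem_ker.1 hz) ⟨m, hm⟩)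
      simp only [Θ, MulAut.conjNormal_apply, MulAut.one_apply] at h1
      exact (mul_inv_eq_iff_eq_mul.1 h1).symm
    have h := s.cent_eq
    rw [inf_eq_left.2 hle] at h
    rw [h, D.card_T] at hM
    norm_num at hM
  have hprod := Grp.card_sup_mul_card_inf_normal (H := D.N) (N := M)
  have htop : D.N ⊔ M = ⊤ := by
    refine eq_top_iff.2 fun g _ => ?_
    obtain ⟨m, hm, hmg⟩ := s.frattini g
    have := mul_mem (mem_sup_right (S := D.N) (inv_mem hm)) (mem_sup_left (T := M) hmg)
    rwa [inv_mul_cancel_left] at this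
  rw [htop, card_top, hM, D.card_N (F.A_isX D.a_mem_A D.a_ne_one)] at hprod
  have hge : 241920 ≤ Nat.card G := by
    by_contra hlt
    have h1 : Nat.card G * Nat.card ↥(D.N ⊓ M) ≤ 241919 * 192 := Nat.mul_le_mul (by omega) s.card_inf_N_le
    omega
  have hb : Function.Bijective Θ := hinj.bijective_of_nat_card_le (by rw [hAut]; exact hge)
  obtain ⟨e2⟩ := mulAut_psl_pgl (F := L) hL
  exact ⟨(MulEquiv.ofBijective Θ hb).trans ((MulAut.congr e').trans e2)⟩

end Cfsg.Agent.Fus.AutL34
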