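import Mathlib
import Cfsg.Agent.S0144
import Cfsg.Agent.Lib.Invol.ZStar
import Cfsg.Agent.Lib.Fus.AutLThreeFour.Core

/-!
An isolated central involution forces solubility.
-/

set_option autoImplicit false
set_option linter.unusedSectionVars false
set_option linter.style.haveILetI false

universe u

namespace Cfsg.Agent.Fus.AutL34

open Subgroup

variable {G : Type u} [Group G] [Finite G] {z : G}

theorem Data.exists_fused_of_not_solvable (D : Data z) (hz : orderOf z = 2) (hns : ¬ Group.IsSolvable G) :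
    ∃ x, IsX z x ∧ x * z = z * x ∧ x ≠ z := by
  by_contra hc
  push Not at hc
  refine hns ?_
  obtain ⟨N, hN, hodd, hcom⟩ := Cfsg.Agent.ZStar.exists_odd_normal (t := z)
    ⟨hz, fun g hg => hc _ ⟨g, rfl⟩ hg.eq.symm⟩
  haveI := hN
  have hle : N ≤ Cfsg.oddCore G := Grp.le_pPrimeCore hN (Nat.coprime_two_right.2 hodd)
  haveI : Group.IsSolvable N := by
    refine Group.isSolvable_of_comm fun a b => Subtype.ext ?_
    exact congrArg (fun w : ↥(Cfsg.oddCore G) => (w : G)) (D.core_comm.is_comm.comm ⟨a, hle a.2⟩ ⟨b, hle b.2⟩)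
  have h768 : Group.IsSolvable ↥(centralizer ({z} : Set G)) :=
    Cfsg.Agent.S0144.result 2 3 8 1 Nat.prime_two Nat.prime_three (by rw [D.card_C]; norm_num)
  let φ : ↥(centralizer ({z} : Set G)) →* G ⧸ N := (QuotientGroup.mk' N).comp (centralizer ({z} : Set G)).subtype
  have hφ : Function.Surjective φ := by
    intro q
    obtain ⟨g, rfl⟩ := QuotientGroup.mk_surjective q
    set n := g * z * g⁻¹ * z⁻¹ with hn
    have hnN : n ∈ N := by
      have := inv_mem (hcom g)
      rw [show (z * g * z⁻¹ * g⁻¹)⁻¹ = n by rw [hn]; group] at this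
      exact this
    obtain ⟨k, hk⟩ := hodd
    set m := n ^ (k + 1) with hm
    have hmN : m ∈ N := pow_mem hnN _
    have hm2 : m * m = n := by
      have h1 : (⟨n, hnN⟩ : N) ^ Nat.card N = 1 := pow_card_eq_one'
      have h2 : n ^ Nat.card N = 1 := congrArg Subtype.val h1
      rw [hm, ← pow_add, show k + 1 + (k + 1) = Nat.card N + 1 by omega, pow_succ, h2, one_mul]
    have hinv : z * m⁻¹ * z⁻¹ = m := by
      rw [D.core_inverted (inv_mem (hle hmN)), inv_inv]
    have hconj : m * z * m⁻¹ = g * z * g⁻¹ := by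
      calc m * z * m⁻¹ = m * (z * m⁻¹ * z⁻¹) * z := by group
        _ = g * z * g⁻¹ := by rw [hinv, hm2, hn]; group
    refine ⟨⟨m⁻¹ * g, mem_centralizer_singleton_iff.2 ?_⟩, ?_⟩
    · calc m⁻¹ * g * z = m⁻¹ * (g * z * g⁻¹) * g := by group
        _ = z * (m⁻¹ * g) := by rw [← hconj]; group
    · show (QuotientGroup.mk (m⁻¹ * g) : G ⧸ N) = QuotientGroup.mk g
      rw [QuotientGroup.mk_mul, (QuotientGroup.eq_one_iff _).2 (inv_mem hmN), one_mul]
  haveI : Group.IsSolvable (G ⧸ N) := Group.isSolvable_of_surjective hφ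
  exact Group.isSolvable_of_ker_le_range N.subtype (QuotientGroup.mk' N)
    (by rw [QuotientGroup.ker_mk', range_subtype])

end Cfsg.Agent.Fus.AutL34
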