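import Mathlib
import Cfsg.Agent.Lib.Fus.AutLThreeFour.Data
import Cfsg.Agent.S4413

/-!
Construction of the coordinates from the hypotheses on the centraliser.
-/

set_option autoImplicit false
set_option linter.unusedSectionVars false

open scoped Matrix

namespace Cfsg.Agent.Fus.AutL34

open Subgroup Cfsg Cfsg.Agent.Spor Cfsg.Agent.Transfer.MinusFour

variable {G : Type*} [Group G] [Finite G]

theorem s4_in_s5 : ∀ s : Equiv.Perm (Fin 5), s * s = 1 → s ≠ 1 → ∀ t : Equiv.Perm (Fin 5), t ^ 4 = 1 →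
    t ^ 2 ≠ 1 → (s * t) ^ 3 = 1 → s * t ≠ 1 → ∃ i, s i = i ∧ t i = i := by decide +kernel

theorem adjacent_word : ∀ i : Fin 3,
    Equiv.swap i.castSucc i.succ =
      finRotate 4 ^ (i : ℕ) * Equiv.swap (0 : Fin 4) 1 * (finRotate 4 ^ (i : ℕ))⁻¹ := by decide +kernel

theorem rel_facts : Equiv.swap (0 : Fin 4) 1 * Equiv.swap 0 1 = 1 ∧ Equiv.swap (0 : Fin 4) 1 ≠ 1 ∧
    finRotate 4 ^ 4 = 1 ∧ finRotate 4 ^ 2 ≠ 1 ∧ (Equiv.swap (0 : Fin 4) 1 * finRotate 4) ^ 3 = 1 ∧
    Equiv.swap (0 : Fin 4) 1 * finRotate 4 ≠ 1 := by decide +kernel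

/-- An embedded symmetric group of degree four fixes one of five points. -/
theorem exists_fixed (ψ : Equiv.Perm (Fin 4) →* Equiv.Perm (Fin 5)) (hψ : Function.Injective ψ) :
    ∃ i, ∀ σ, ψ σ i = i := by
  obtain ⟨r1, r2, r3, r4, r5, r6⟩ := rel_facts
  have hne : ∀ {x : Equiv.Perm (Fin 4)}, x ≠ 1 → ψ x ≠ 1 := fun h e => h (hψ (e.trans (map_one ψ).symm))
  obtain ⟨i, hs, ht⟩ := s4_in_s5 (ψ (Equiv.swap 0 1)) (by rw [← map_mul, r1, map_one]) (hne r2)
    (ψ (finRotate 4)) (by rw [← map_pow, r3, map_one]) (by rw [← map_pow]; exact hne r4)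
    (by rw [← map_mul, ← map_pow, r5, map_one]) (by rw [← map_mul]; exact hne r6)
  let S : Subgroup (Equiv.Perm (Fin 4)) := (MulAction.stabilizer (Equiv.Perm (Fin 5)) i).comap ψ
  have h1 : Equiv.swap (0 : Fin 4) 1 ∈ S := hs
  have h2 : finRotate 4 ∈ S := ht
  refine ⟨i, fun σ => ?_⟩
  have hle : Set.range (fun j : Fin 3 => Equiv.swap j.castSucc j.succ) ⊆ (S : Set (Equiv.Perm (Fin 4))) := by
    rintro _ ⟨j, rfl⟩
    show Equiv.swap j.castSucc j.succ ∈ S
    rw [adjacent_word j]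
    exact mul_mem (mul_mem (pow_mem h2 _) h1) (inv_mem (pow_mem h2 _))
  have : σ ∈ Submonoid.closure (Set.range fun j : Fin 3 => Equiv.swap j.castSucc j.succ) := by
    rw [Equiv.Perm.mclosure_swap_castSucc_succ]; trivial
  exact (Submonoid.closure_le (S := S.toSubmonoid)).2 hle this

theorem restrict_act : ∀ σ : Equiv.Perm (Fin 5), σ 4 = 4 → ∃ τ : Equiv.Perm (Fin 4),
    ∀ j : Fin 4, σ j.castSucc = (τ j).castSucc := by decide +kernel

theorem vec_decomp : ∀ v : Vec, v = v 0 • eV 0 + v 1 • eV 1 + v 2 • eV 2 + v 3 • eV 3 := by decide +kernel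

theorem eV_eq_pt : ∀ j : Fin 4, eV j = pt j.castSucc := fun j => pt_spec.2.2 j

theorem add_add_self : ∀ u v : Vec, u + v + v = u := by decide +kernel

theorem sub_sub_sum : ∀ s1 s2 s3 : ZMod 2, s1 - s2 - s3 = s1 + s2 + s3 := by decide

theorem bil_rep : ∀ c : Vec, ∃ w, ∀ j, bil w (eV j) = c j := by decide +kernel

theorem coord_rep : ∀ v w : Vec, bil w v = v 0 * bil w (eV 0) + v 1 * bil w (eV 1) + v 2 * bil w (eV 2) +
    v 3 * bil w (eV 3) := by decide +kernel

/-- An additive map agreeing with a permutation of the points on a basis is that permutation. -/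
theorem eq_permMat (f : Vec →+ Vec) (σ : Equiv.Perm (Fin 5)) (h : ∀ j : Fin 4, f (eV j) = pt (σ j.castSucc))
    (v : Vec) : f v = permMat σ *ᵥ v := by
  have hj : ∀ j : Fin 4, permMat σ *ᵥ eV j = pt (σ j.castSucc) := fun j => by
    rw [eV_eq_pt, (permMat_facts σ).2.2]
  let g : Vec →ₗ[ZMod 2] Vec := AddMonoidHom.toZModLinearMap 2 f
  have he : g = Matrix.toLin' (permMat σ) := by
    refine (Pi.basisFun (ZMod 2) (Fin 4)).ext fun j => ?_
    rw [Pi.basisFun_apply, Matrix.toLin'_apply]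
    exact (h j).trans (hj j).symm
  calc f v = g v := rfl
    _ = _ := by rw [he, Matrix.toLin'_apply]

/-- The coordinates exist. -/
theorem exists_data (z : G) (hz : orderOf z = 2) (E : Subgroup ↥(centralizer ({z} : Set G))) [E.Normal]
    (hE : Cfsg.IsExtraspecial 2 ↥E) (hE32 : Nat.card ↥E = 32)
    (hEminus : ∀ A : Subgroup ↥E, Cfsg.IsElementaryAbelian 2 A → Nat.card ↥A ≠ 8)
    (hCE : centralizer (E : Set ↥(centralizer ({z} : Set G))) ≤ E)
    (e : (↥(centralizer ({z} : Set G)) ⧸ E) ≃* Equiv.Perm (Fin 4)) : Nonempty (Data z) := by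
  classical
  haveI : Fact (Nat.Prime 2) := ⟨Nat.prime_two⟩
  have hminus : ∀ A : Subgroup ↥E, Cfsg.IsElementaryAbelian 2 A → Nat.card ↥A ≤ 4 := by
    intro A hA
    obtain ⟨k, hk⟩ := (IsPGroup.iff_card.1 (fun x : A => ⟨1, by
      rw [pow_one]; exact Subtype.ext (by rw [SubgroupClass.coe_pow]; exact hA.2 x x.2)⟩) :)
    rcases Nat.lt_or_ge k 3 with hlt | hge
    · rw [hk]
      calc 2 ^ k ≤ 2 ^ 2 := Nat.pow_le_pow_right (by norm_num) (by omega)
        _ = 4 := by norm_num
    · exfalso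
      obtain ⟨B, hB⟩ := Sylow.exists_subgroup_card_pow_prime (G := A) 2 (n := 3) (hk ▸ pow_dvd_pow 2 hge)
      refine hEminus (B.map A.subtype) ⟨⟨⟨fun x y => ?_⟩⟩, fun x hx => hA.2 x (map_subtype_le B hx)⟩ ?_
      · haveI := hA.1
        obtain ⟨x, hx⟩ := x; obtain ⟨y, hy⟩ := y
        exact Subtype.ext (congrArg Subtype.val (mul_comm' (⟨x, map_subtype_le B hx⟩ : A) ⟨y, map_subtype_le B hy⟩) :)
      · rw [card_map_of_injective A.subtype_injective, hB]; norm_num
  obtain ⟨z₀, π₀, q, d⟩ := ExtraOut.exists_data (ι := Fin 4) hE (by rw [hE32, Fintype.card_fin]; norm_num)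
  rcases S4413.exists_model q d.nd with ⟨u, v, hu, hv, huv, qu, qv, quv⟩ | ⟨T, hT⟩
  · exfalso
    obtain ⟨a, ha⟩ := d.surj (Multiplicative.ofAdd u)
    obtain ⟨b, hb⟩ := d.surj (Multiplicative.ofAdd v)
    have ha2 : a * a = 1 := by rw [d.sq, ha, toAdd_ofAdd, qu, ExtraOut.pw_zero]
    have hb2 : b * b = 1 := by rw [d.sq, hb, toAdd_ofAdd, qv, ExtraOut.pw_zero]
    have hab2 : a * b * (a * b) = 1 := by
      rw [d.sq, map_mul, ha, hb, ← ofAdd_add, toAdd_ofAdd, quv, ExtraOut.pw_zero]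
    have hab : a * b = b * a := by
      calc a * b = (a * b)⁻¹ := (inv_eq_of_mul_eq_one_left hab2).symm
        _ = b * a := by rw [mul_inv_rev, inv_eq_of_mul_eq_one_left ha2, inv_eq_of_mul_eq_one_left hb2]
    let A : Subgroup ↥E := Subgroup.closure {z₀, a, b}
    have hAc : IsMulCommutative A := Subgroup.isMulCommutative_closure fun x hx y hy => by
      simp only [Set.mem_insert_iff, Set.mem_singleton_iff] at hx hy
      rcases hx with rfl | rfl | rfl <;> rcases hy with rfl | rfl | rfl <;>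
        first | rfl | exact hab | exact hab.symm | exact d.comm _ | exact (d.comm _).symm
    have hA : IsElementaryAbelian 2 A := ⟨hAc, fun x hx => by
      haveI := hAc
      induction hx using Subgroup.closure_induction with
      | mem y hy =>
        simp only [Set.mem_insert_iff, Set.mem_singleton_iff] at hy
        rw [pow_two]
        rcases hy with rfl | rfl | rfl
        · exact d.zz
        · exact ha2
        · exact hb2
      | one => exact one_pow 2
      | mul y w hy hw ey ew =>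
        have hc : Commute y w := congrArg Subtype.val (mul_comm' (⟨y, hy⟩ : A) ⟨w, hw⟩)
        rw [hc.mul_pow, ey, ew, one_mul]
      | inv y hy ey => rw [inv_pow, ey, inv_one]⟩
    have h4 := hminus A hA
    have hzA : z₀ ∈ A := Subgroup.subset_closure (Or.inl rfl)
    have haA : a ∈ A := Subgroup.subset_closure (Or.inr (Or.inl rfl))
    have hbA : b ∈ A := Subgroup.subset_closure (Or.inr (Or.inr rfl))
    let S : Finset ↥E := {1, z₀, a, b, a * b}
    have hπz : π₀ z₀ = 1 := (d.ker z₀).2 (Or.inr rfl)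
    have hS : S.card = 5 := by
      have n1 : π₀ a ≠ 1 := by rw [ha]; exact fun h => hu (ofAdd_eq_one.1 h)
      have n2 : π₀ b ≠ 1 := by rw [hb]; exact fun h => hv (ofAdd_eq_one.1 h)
      have n3 : π₀ a ≠ π₀ b := by rw [ha, hb]; exact fun h => huv (Multiplicative.ofAdd.injective h)
      have n4 : π₀ (a * b) ≠ 1 := by
        rw [map_mul, ha, hb, ← ofAdd_add]
        intro h
        refine huv ?_
        have h' := ofAdd_eq_one.1 h
        calc u = u + v + v := (add_add_self u v).symm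
          _ = v := by rw [h', zero_add]
      have a1 : a ≠ 1 := fun e => n1 (by rw [e, map_one])
      have az : a ≠ z₀ := fun e => n1 (by rw [e, hπz])
      have b1 : b ≠ 1 := fun e => n2 (by rw [e, map_one])
      have bz : b ≠ z₀ := fun e => n2 (by rw [e, hπz])
      have ab : a ≠ b := fun e => n3 (by rw [e])
      have c1 : a * b ≠ 1 := fun e => n4 (by rw [e, map_one])
      have cz : a * b ≠ z₀ := fun e => n4 (by rw [e, hπz])
      have ca : a * b ≠ a := fun e => b1 (mul_eq_left.1 e)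
      have cb : a * b ≠ b := fun e => a1 (mul_eq_right.1 e)
      simp only [S]
      rw [Finset.card_insert_of_notMem, Finset.card_insert_of_notMem, Finset.card_insert_of_notMem,
        Finset.card_pair]
      · exact Ne.symm cb
      · simp [ab, Ne.symm ca]
      · simp [Ne.symm az, Ne.symm bz, Ne.symm cz]
      · simp [Ne.symm d.ne, Ne.symm a1, Ne.symm b1, Ne.symm c1]
    have h5 : S.card ≤ Nat.card A := by
      rw [← Fintype.card_coe, ← Nat.card_eq_fintype_card]
      refine Nat.card_le_card_of_injective (fun x : S => (⟨x.1, ?_⟩ : A))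
        fun x y e => Subtype.ext (congrArg (fun w : A => (w : ↥E)) e)
      have hx := x.2
      simp only [S, Finset.mem_insert, Finset.mem_singleton] at hx
      rcases hx with e | e | e | e | e <;> rw [e]
      exacts [one_mem _, hzA, haA, hbA, mul_mem haA hbA]
    omega
  -- the involution
  have hzH : z ∈ (centralizer ({z} : Set G)) := mem_centralizer_singleton_iff.2 rfl
  have hcz : ∀ h : ↥(centralizer ({z} : Set G)), (h : G) * z = z * h := fun h => mem_centralizer_singleton_iff.1 h.2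
  have hzz : z * z = 1 := by rw [← pow_two, ← hz, pow_orderOf_eq_one]
  have hz1 : z ≠ 1 := fun e' => by rw [e', orderOf_one] at hz; omega
  have hzE : (⟨z, hzH⟩ : ↥(centralizer ({z} : Set G))) ∈ E := hCE (mem_centralizer_iff.2 fun x _ => Subtype.ext (hcz x))
  set zE : ↥E := ⟨⟨z, hzH⟩, hzE⟩ with hzEdef
  have hzne : zE ≠ 1 := fun e' => hz1 (congrArg (fun x : ↥E => ((x : ↥(centralizer ({z} : Set G))) : G)) e')
  -- transported coordinates
  let π₁ : ↥E →* Multiplicative Vec := (AddMonoidHom.toMultiplicative T.symm.toAddMonoidHom).comp π₀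
  let q' : QuadraticForm (ZMod 2) Vec := q.comp (T : Vec →ₗ[ZMod 2] Vec)
  have d₁ : ExtraOut.Data z₀ π₁ q' := d.transport T fun v => rfl
  have hq' : ∀ v, q' v = fM v := hT
  have hz0 : zE = z₀ := by
    have hc : ∀ y : ↥E, zE * y = y * zE := fun y => Subtype.ext (Subtype.ext (hcz y).symm)
    have hk : π₁ zE = 1 := by
      refine toAdd_eq_zero.1 (d₁.nd.1 _ fun w => ?_)
      obtain ⟨y, hy⟩ := d₁.surj (Multiplicative.ofAdd w)
      have h1 := ExtraOut.conj_pw d₁ zE y
      rw [hc y, mul_inv_cancel_right, hy, toAdd_ofAdd] at h1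
      rw [QuadraticMap.polarBilin_apply_apply]
      exact ExtraOut.pw_inj d₁.ne (by rw [ExtraOut.pw_zero]; exact (left_eq_mul.1 h1))
    exact ((d₁.ker zE).1 hk).resolve_left hzne
  -- the map on elements of G
  set E₀ : Subgroup G := E.map (centralizer ({z} : Set G)).subtype with hE₀
  have hmemE : ∀ x ∈ E₀, ∃ hx : x ∈ (centralizer ({z} : Set G)), (⟨x, hx⟩ : ↥(centralizer ({z} : Set G))) ∈ E := by
    rintro _ ⟨y, hy, rfl⟩; exact ⟨y.2, hy⟩
  let π₂ : G → Vec := fun x => if hx : x ∈ (centralizer ({z} : Set G)) then (if hx' : (⟨x, hx⟩ : ↥(centralizer ({z} : Set G))) ∈ E then (π₁ ⟨_, hx'⟩).toAdd else 0)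
    else 0
  have hπ : ∀ y : ↥E, π₂ ((y : ↥(centralizer ({z} : Set G))) : G) = (π₁ y).toAdd := fun y => by
    simp only [π₂, dif_pos (y : ↥(centralizer ({z} : Set G))).2, Subtype.coe_eta, dif_pos y.2]
  have hpwG : ∀ t, ((ExtraOut.pw z₀ t : ↥E) : ↥(centralizer ({z} : Set G))) = (ExtraOut.pw (⟨z, hzH⟩ : ↥(centralizer ({z} : Set G))) t) := fun t => by
    rcases ExtraOut.two_cases t with rfl | rfl
    · rw [ExtraOut.pw_zero, ExtraOut.pw_zero]; rfl
    · rw [ExtraOut.pw_one, ExtraOut.pw_one, ← hz0]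
  have hpwH : ∀ t, ((ExtraOut.pw (⟨z, hzH⟩ : ↥(centralizer ({z} : Set G))) t : ↥(centralizer ({z} : Set G))) : G) = ExtraOut.pw z t := fun t => by
    rcases ExtraOut.two_cases t with rfl | rfl
    · rw [ExtraOut.pw_zero, ExtraOut.pw_zero]; rfl
    · rw [ExtraOut.pw_one, ExtraOut.pw_one]
  have hpolar : ∀ v w : Vec, QuadraticMap.polar q' v w = bil v w := fun v w => by
    rw [QuadraticMap.polar, hq', hq', hq', bil]
    exact sub_sub_sum _ _ _
  -- conjugation
  have hconjE : ∀ (h : ↥(centralizer ({z} : Set G))) (y : ↥E), h * y * h⁻¹ ∈ E := fun h y => (inferInstance : E.Normal).conj_mem y y.2 h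
  have hlift : ∀ v : Vec, ∃ y : ↥E, (π₁ y).toAdd = v := fun v => by
    obtain ⟨y, hy⟩ := d₁.surj (Multiplicative.ofAdd v); exact ⟨y, by rw [hy, toAdd_ofAdd]⟩
  choose s hs using hlift
  let conjY : ↥(centralizer ({z} : Set G)) → ↥E → ↥E := fun h y => ⟨h * y * h⁻¹, hconjE h y⟩
  have hconj_mul : ∀ h y y', conjY h (y * y') = conjY h y * conjY h y' := fun h y y' =>
    Subtype.ext (by simp only [conjY, coe_mul]; group)
  have hconj_z : ∀ h, conjY h z₀ = z₀ := fun h => by
    rw [← hz0]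
    exact Subtype.ext (Subtype.ext (show (h : G) * z * (h : G)⁻¹ = z by rw [hcz h, mul_inv_cancel_right]))
  have hfun : ∀ h y, (π₁ (conjY h y)).toAdd = (π₁ (conjY h (s (π₁ y).toAdd))).toAdd := by
    intro h y
    rcases ExtraOut.mem_ker_cases d₁ (Multiplicative.toAdd.injective (hs (π₁ y).toAdd)) with e' | e'
    · rw [e']
    · conv_rhs => rw [e', hconj_mul, hconj_z, map_mul, (d₁.ker z₀).2 (Or.inr rfl), mul_one]
  let f : ↥(centralizer ({z} : Set G)) → Vec →+ Vec := fun h => AddMonoidHom.mk' (fun v => (π₁ (conjY h (s v))).toAdd) fun v w => by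
    show (π₁ (conjY h (s (v + w)))).toAdd = (π₁ (conjY h (s v))).toAdd + (π₁ (conjY h (s w))).toAdd
    rw [← toAdd_mul, ← map_mul, ← hconj_mul, hfun h (s v * s w), map_mul, toAdd_mul, hs, hs]
  have hf : ∀ h y, f h (π₁ y).toAdd = (π₁ (conjY h y)).toAdd := fun h y => (hfun h y).symm
  have hfq : ∀ h v, fM (f h v) = fM v := fun h v => by
    refine ExtraOut.pw_inj d₁.ne ?_
    rw [← hq', ← hq']
    conv_rhs => rw [← hs v, ← d₁.sq]
    show ExtraOut.pw z₀ (q' (π₁ (conjY h (s v))).toAdd) = _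
    rw [← d₁.sq, ← hconj_mul, d₁.sq (s v)]
    rcases ExtraOut.two_cases (q' (π₁ (s v)).toAdd) with e' | e' <;> rw [e']
    · rw [ExtraOut.pw_zero]; exact Subtype.ext (by simp [conjY])
    · rw [ExtraOut.pw_one, hconj_z]
  have hfmul : ∀ h k v, f (h * k) v = f h (f k v) := fun h k v => by
    show _ = f h (π₁ (conjY k (s v))).toAdd
    rw [hf]
    show (π₁ (conjY (h * k) (s v))).toAdd = _
    congr 2
    exact Subtype.ext (by simp only [conjY]; group)
  have hf1 : ∀ v, f 1 v = v := fun v => by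
    show (π₁ (conjY 1 (s v))).toAdd = v
    rw [show conjY 1 (s v) = s v from Subtype.ext (by simp [conjY]), hs]
  -- the permutation of the five points
  obtain ⟨hpt, hptinj, hptb⟩ := pt_spec
  have hfinj : ∀ h, Function.Injective (f h) := fun h v w e' => by
    have h1 := congrArg (f h⁻¹) e'
    rwa [← hfmul, ← hfmul, inv_mul_cancel, hf1, hf1] at h1
  have hex : ∀ h i, ∃ j, f h (pt i) = pt j := fun h i => by
    obtain ⟨h1, h2⟩ := (hpt (pt i)).2 ⟨i, rfl⟩
    exact (hpt _).1 ⟨fun e' => h1 (hfinj h (e'.trans (map_zero _).symm)), by rw [hfq, h2]⟩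
  choose σ hσ using hex
  let φ5 : ↥(centralizer ({z} : Set G)) →* Equiv.Perm (Fin 5) := MonoidHom.mk'
    (fun h => Equiv.ofBijective (σ h) (Finite.injective_iff_bijective.1 fun i j e' =>
      hptinj (hfinj h (by rw [hσ, hσ, e']))))
    fun h k => Equiv.ext fun i => hptinj (by
      show pt (σ (h * k) i) = pt (σ h (σ k i))
      rw [← hσ, hfmul, hσ, hσ])
  have hmat : ∀ h v, f h v = permMat (φ5 h) *ᵥ v := fun h v =>
    eq_permMat (f h) (φ5 h) (fun j => by rw [eV_eq_pt]; exact hσ h j.castSucc) v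
  -- the kernel
  have hker : ∀ h, φ5 h = 1 ↔ h ∈ E := by
    intro h
    constructor
    · intro h1
      have hid : ∀ y : ↥E, conjY h y = y ∨ conjY h y = y * z₀ := fun y => by
        refine ExtraOut.mem_ker_cases d₁ (Multiplicative.toAdd.injective ?_)
        rw [← hf, hmat, h1, ← map_one φ5, ← hmat, hf1]
      have hcoord : ∀ y : ↥E, ∃ t, conjY h y = y * ExtraOut.pw z₀ t := fun y => by
        rcases hid y with e' | e'
        · exact ⟨0, by rw [e', ExtraOut.pw_zero, mul_one]⟩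
        · exact ⟨1, by rw [e', ExtraOut.pw_one]⟩
      choose χ hχ using hcoord
      have hχm : ∀ y y', χ (y * y') = χ y + χ y' := fun y y' => by
        refine ExtraOut.pw_inj d₁.ne ?_
        have h2 := hconj_mul h y y'
        rw [hχ, hχ, hχ, show y * ExtraOut.pw z₀ (χ y) * (y' * ExtraOut.pw z₀ (χ y')) =
          y * y' * (ExtraOut.pw z₀ (χ y) * ExtraOut.pw z₀ (χ y')) by
            rw [mul_assoc y, ← mul_assoc (ExtraOut.pw z₀ (χ y)), ← ExtraOut.pw_comm d₁.comm]; group,
          ← ExtraOut.pw_add d₁.zz] at h2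
        exact mul_left_cancel h2
      have hχz : χ z₀ = 0 := by
        refine ExtraOut.pw_inj d₁.ne ?_
        have h2 := hχ z₀
        rw [hconj_z] at h2
        rw [ExtraOut.pw_zero]; exact left_eq_mul.1 h2
      let χ' : Vec →+ ZMod 2 := AddMonoidHom.mk' (fun v => χ (s v)) fun v w => by
        have h2 : π₁ (s (v + w)) = π₁ (s v * s w) := Multiplicative.toAdd.injective (by
          rw [map_mul, toAdd_mul, hs, hs, hs])
        show χ (s (v + w)) = χ (s v) + χ (s w)
        rcases ExtraOut.mem_ker_cases d₁ h2 with e' | e' <;> rw [e']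
        · exact hχm _ _
        · rw [hχm, hχz, add_zero, hχm]
      obtain ⟨w, hw⟩ := bil_rep fun j => χ' (eV j)
      have hχw : ∀ v, χ' v = bil w v := fun v => by
        let L : Vec →ₗ[ZMod 2] ZMod 2 := AddMonoidHom.toZModLinearMap 2 χ'
        show L v = bil w v
        conv_lhs => rw [vec_decomp v]
        rw [map_add, map_add, map_add, map_smul, map_smul, map_smul, map_smul, coord_rep, hw, hw, hw, hw]
        simp only [smul_eq_mul]; rfl
      have hagree : ∀ y : ↥E, conjY h y = s w * y * (s w)⁻¹ := fun y => by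
        rw [hχ, ExtraOut.conj_pw d₁, hpolar, hs, ← hχw]
        congr 2
        show χ y = χ (s (π₁ y).toAdd)
        rcases ExtraOut.mem_ker_cases d₁ (Multiplicative.toAdd.injective (hs (π₁ y).toAdd)) with e' | e' <;> rw [e']
        rw [hχm, hχz, add_zero]
      have hmem : ((s w : ↥(centralizer ({z} : Set G))))⁻¹ * h ∈ E := hCE (mem_centralizer_iff.2 fun y hy => by
        have h2 : h * y * h⁻¹ = (s w : ↥(centralizer ({z} : Set G))) * y * (s w : ↥(centralizer ({z} : Set G)))⁻¹ := congrArg Subtype.val (hagree ⟨y, hy⟩)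
        calc y * ((s w : ↥(centralizer ({z} : Set G)))⁻¹ * h) = (s w : ↥(centralizer ({z} : Set G)))⁻¹ * ((s w : ↥(centralizer ({z} : Set G))) * y * (s w : ↥(centralizer ({z} : Set G)))⁻¹) * h := by group
          _ = (s w : ↥(centralizer ({z} : Set G)))⁻¹ * h * y := by rw [← h2]; group)
      simpa [mul_assoc] using mul_mem (s w).2 hmem
    · intro hm
      refine Equiv.ext fun i => hptinj ?_
      show pt (σ h i) = pt i
      rw [← hσ, ← hs (pt i), hf]
      have h2 : conjY h (s (pt i)) = s (pt i) * ExtraOut.pw z₀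
          (QuadraticMap.polar q' (π₁ ⟨h, hm⟩).toAdd (π₁ (s (pt i))).toAdd) := by
        rw [← ExtraOut.conj_pw d₁]; exact Subtype.ext rfl
      rw [h2, map_mul, toAdd_mul]
      rcases ExtraOut.two_cases (QuadraticMap.polar q' (π₁ ⟨h, hm⟩).toAdd (π₁ (s (pt i))).toAdd) with e' | e' <;>
        rw [e']
      · rw [ExtraOut.pw_zero, map_one, toAdd_one, add_zero]
      · rw [ExtraOut.pw_one, (d₁.ker z₀).2 (Or.inr rfl), toAdd_one, add_zero]
  have hkerle : E ≤ φ5.ker := fun h hh => φ5.mem_ker.2 ((hker h).2 hh)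
  let ψ : Equiv.Perm (Fin 4) →* Equiv.Perm (Fin 5) :=
    (QuotientGroup.lift E φ5 hkerle).comp e.symm.toMonoidHom
  have hψ : Function.Injective ψ := by
    show Function.Injective ((QuotientGroup.lift E φ5 hkerle) ∘ e.symm)
    refine Function.Injective.comp ?_ e.symm.injective
    rw [← MonoidHom.ker_eq_bot_iff, Subgroup.eq_bot_iff_forall]
    intro c hc
    obtain ⟨h, rfl⟩ := QuotientGroup.mk_surjective c
    rw [MonoidHom.mem_ker, QuotientGroup.lift_mk] at hc
    exact (QuotientGroup.eq_one_iff h).2 ((hker h).1 hc)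
  obtain ⟨i0, hi0⟩ := exists_fixed ψ hψ
  have hfix : ∀ h, φ5 h i0 = i0 := fun h => by
    have := hi0 (e (QuotientGroup.mk h))
    simpa [ψ] using this
  -- change of coordinates
  set P := Equiv.swap i0 (4 : Fin 5) with hP
  let τ : Vec → Vec := fun v => permMat P *ᵥ v
  have hττ : ∀ v, τ (τ v) = v := fun v => by
    show permMat P *ᵥ (permMat P *ᵥ v) = v
    rw [Matrix.mulVec_mulVec]
    have := (permMat_facts P).1
    rw [hP, Equiv.swap_inv] at this
    rw [hP, this, Matrix.one_mulVec]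
  have hconj4 : ∀ h, ∃ t : Equiv.Perm (Fin 4), ∀ v, τ (f h (τ v)) = act t v := by
    intro h
    obtain ⟨t, ht⟩ := restrict_act (P * φ5 h * P) (by
      simp only [Equiv.Perm.mul_apply, hP, Equiv.swap_apply_right, hfix, Equiv.swap_apply_left])
    refine ⟨t, fun v => ?_⟩
    let g : Vec →+ Vec := AddMonoidHom.mk' (fun v => τ (f h (τ v))) fun v w => by
      simp only [τ, Matrix.mulVec_add, map_add]
    let k : Vec →+ Vec := AddMonoidHom.mk' (act t) fun v w => rfl
    show g v = k v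
    rw [eq_permMat g (P * φ5 h * P) (fun j => ?_) v, eq_permMat k (P * φ5 h * P) (fun j => ?_) v]
    · show act t (eV j) = _
      rw [act_eV, ht, eV_eq_pt]
    · show τ (f h (τ (eV j))) = _
      simp only [τ]
      rw [eV_eq_pt, (permMat_facts P).2.2, hmat, (permMat_facts _).2.2, (permMat_facts P).2.2]
      rfl
  choose t ht using hconj4
  have htmul : ∀ h k, t (h * k) = t h * t k := fun h k => by
    refine inv_mul_eq_one.1 (act_injective _ fun v => ?_)
    have h2 : ∀ v, act (t (h * k)) v = act (t h * t k) v := fun v => by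
      rw [act_mul, ← ht, ← ht, ← ht, hττ, hfmul]
    rw [act_mul, ← h2, ← act_mul, inv_mul_cancel, act_one]
  let t4 : ↥(centralizer ({z} : Set G)) →* Equiv.Perm (Fin 4) := MonoidHom.mk' t htmul
  have ht4 : t4.ker = E := by
    ext h
    rw [MonoidHom.mem_ker]
    show t h = 1 ↔ _
    constructor
    · intro h1
      refine (hker h).1 (Equiv.ext fun i => hptinj ?_)
      show pt (σ h i) = pt i
      rw [← hσ]
      have h2 := congrArg τ (ht h (τ (pt i)))
      rwa [hττ, hττ, h1, act_one, hττ] at h2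
    · intro hm
      refine act_injective _ fun v => ?_
      rw [← ht, hmat, (hker h).2 hm, ← map_one φ5, ← hmat, hf1, hττ]
  have hsurj : Function.Surjective t4 := by
    rw [← MonoidHom.range_eq_top]
    refine eq_top_of_le_card _ ?_
    rw [← Subgroup.index_ker, ht4, index_eq_card, Nat.card_congr e.toEquiv]
  refine ⟨{
    E := E₀
    π := fun x => τ (π₂ x)
    φ := fun x => if hx : x ∈ (centralizer ({z} : Set G)) then t ⟨x, hx⟩ else 1
    zz := hzz
    z1 := hz1
    zE := ⟨_, hzE, rfl⟩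
    cz := fun x hx => hcz ⟨x, (hmemE x hx).1⟩
    π_mul := ?_
    π_surj := ?_
    π_ker := ?_
    π_z := ?_
    sq := ?_
    swap := ?_
    φ_mul := ?_
    φ_surj := ?_
    φ_ker := ?_
    conj := ?_
    cent := ?_
    card_E := ?_ }⟩
  · intro x hx y hy
    obtain ⟨hx1, hx2⟩ := hmemE x hx
    obtain ⟨hy1, hy2⟩ := hmemE y hy
    show τ (π₂ ((((⟨_, hx2⟩ : ↥E) * ⟨_, hy2⟩ : ↥E) : ↥(centralizer ({z} : Set G))) : G)) = τ (π₂ ((((⟨_, hx2⟩ : ↥E)) : ↥(centralizer ({z} : Set G))) : G)) + τ (π₂ ((((⟨_, hy2⟩ : ↥E)) : ↥(centralizer ({z} : Set G))) : G))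
    rw [hπ, hπ, hπ, map_mul, toAdd_mul]
    exact Matrix.mulVec_add _ _ _
  · intro v
    refine ⟨((s (τ v) : ↥(centralizer ({z} : Set G))) : G), ⟨_, (s (τ v)).2, rfl⟩, ?_⟩
    show τ (π₂ _) = v
    rw [hπ, hs, hττ]
  · intro x hx h0
    obtain ⟨hx1, hx2⟩ := hmemE x hx
    have h1 : π₂ x = 0 := by
      have h0' : τ (π₂ x) = 0 := h0
      rw [← hττ (π₂ x), h0']; exact Matrix.mulVec_zero _
    have h2 : π₁ ⟨_, hx2⟩ = 1 := toAdd_eq_zero.1 ((hπ ⟨_, hx2⟩).symm.trans h1)
    rcases (d₁.ker _).1 h2 with e' | e'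
    · exact Or.inl (congrArg (fun y : ↥E => ((y : ↥(centralizer ({z} : Set G))) : G)) e')
    · exact Or.inr (by have := congrArg (fun y : ↥E => ((y : ↥(centralizer ({z} : Set G))) : G)) (e'.trans hz0.symm); exact this)
  · show τ (π₂ ((zE : ↥(centralizer ({z} : Set G))) : G)) = 0
    rw [hπ, hz0, (d₁.ker z₀).2 (Or.inr rfl), toAdd_one]
    exact Matrix.mulVec_zero _
  · intro x hx
    obtain ⟨hx1, hx2⟩ := hmemE x hx
    have h1 := congrArg (fun y : ↥E => ((y : ↥(centralizer ({z} : Set G))) : G)) (d₁.sq ⟨_, hx2⟩)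
    simp only [hpwG, hpwH, hq'] at h1
    show x * x = ExtraOut.pw z (qf (τ (π₂ ((((⟨_, hx2⟩ : ↥E)) : ↥(centralizer ({z} : Set G))) : G))))
    rw [hπ, show qf (τ (π₁ ⟨_, hx2⟩).toAdd) = fM (π₁ ⟨_, hx2⟩).toAdd from (permMat_facts P).2.1 _]
    exact h1
  · intro x hx y hy
    obtain ⟨hx1, hx2⟩ := hmemE x hx
    obtain ⟨hy1, hy2⟩ := hmemE y hy
    have h1 := congrArg (fun w : ↥E => ((w : ↥(centralizer ({z} : Set G))) : G)) (ExtraOut.conj_pw d₁ ⟨_, hx2⟩ ⟨_, hy2⟩)
    simp only [coe_mul, coe_inv, hpwG, hpwH, hpolar] at h1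
    show x * y * x⁻¹ = y * ExtraOut.pw z (bil (τ (π₂ ((((⟨_, hx2⟩ : ↥E)) : ↥(centralizer ({z} : Set G))) : G))) (τ (π₂ ((((⟨_, hy2⟩ : ↥E)) : ↥(centralizer ({z} : Set G))) : G))))
    rw [hπ, hπ]
    refine h1.trans ?_
    congr 2
    unfold bil
    simp only [τ, ← Matrix.mulVec_add, (permMat_facts P).2.1]
  · intro h k hh hk
    have hh' : h ∈ (centralizer ({z} : Set G)) := mem_centralizer_singleton_iff.2 hh
    have hk' : k ∈ (centralizer ({z} : Set G)) := mem_centralizer_singleton_iff.2 hk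
    simp only [dif_pos hh', dif_pos hk', dif_pos (mul_mem hh' hk')]
    exact htmul ⟨h, hh'⟩ ⟨k, hk'⟩
  · intro τ'
    obtain ⟨h, rfl⟩ := hsurj τ'
    exact ⟨h, hcz h, dif_pos h.2⟩
  · intro h hh
    have hh' : h ∈ (centralizer ({z} : Set G)) := mem_centralizer_singleton_iff.2 hh
    simp only [dif_pos hh']
    show t4 ⟨h, hh'⟩ = 1 ↔ _
    rw [← MonoidHom.mem_ker, ht4]
    exact ⟨fun hm => ⟨_, hm, rfl⟩, fun hm => (hmemE h hm).2⟩
  · intro h hh x hx
    have hh' : h ∈ (centralizer ({z} : Set G)) := mem_centralizer_singleton_iff.2 hh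
    obtain ⟨hx1, hx2⟩ := hmemE x hx
    refine ⟨⟨_, (conjY ⟨h, hh'⟩ ⟨_, hx2⟩).2, rfl⟩, ?_⟩
    show τ (π₂ (((conjY ⟨h, hh'⟩ ⟨_, hx2⟩ : ↥E) : ↥(centralizer ({z} : Set G))) : G)) = act (if hx : h ∈ (centralizer ({z} : Set G)) then t ⟨h, hx⟩ else 1) (τ (π₂ ((((⟨_, hx2⟩ : ↥E)) : ↥(centralizer ({z} : Set G))) : G)))
    rw [hπ, hπ, dif_pos hh', ← hf, ← ht, hττ]
  · intro g hg
    have hgH : g ∈ (centralizer ({z} : Set G)) := mem_centralizer_singleton_iff.2 (hg z ⟨_, hzE, rfl⟩)
    exact ⟨⟨g, hgH⟩, hCE (mem_centralizer_iff.2 fun y hy => Subtype.ext (hg y ⟨y, hy, rfl⟩).symm), rfl⟩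
  · rw [hE₀, card_map_of_injective (subtype_injective _), hE32]

end Cfsg.Agent.Fus.AutL34
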